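import Cfsg.Agent.FUS.MD.B2b

/-! # An element with a single Jordan block in a group with `O_p = 1` (variant of `CL.MCN.Ctx`) -/

set_option autoImplicit false

namespace CL.MCD

open Subgroup CL.Fus Module LinearMap Polynomial CL.MCN

namespace Ctx0
variable {p : ℕ} [hp : Fact p.Prime] {G V : Type*} [Group G] [AddCommGroup V] [Module (ZMod p) V]
  {ρ : G →* Module.End (ZMod p) V} {T T1 : Subgroup G} {s z : G} (h : Ctx0 p ρ T T1 s z)
  [Finite G] [Module.Finite (ZMod p) V]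
include h

theorem elat_le (hZ : (ρ z - 1) * (ρ z - 1) = 0) : elat ρ hZ ≤ zpowers z := by
  obtain ⟨d, g, h2, hd, -, -, hW, -⟩ := h.exists_d
  have hn : ∀ t ∈ T, ∀ x ∈ elat ρ hZ, t * x * t⁻¹ ∈ elat ρ hZ := by
    rintro t ht x ⟨⟨w₁, h1⟩, w₂, h2⟩
    have e : ρ (t * x * t⁻¹) - 1 = ρ t * (ρ x - 1) * ρ t⁻¹ := by
      rw [mul_sub, sub_mul, mul_one, ← map_mul, ← map_mul, ← map_mul, mul_inv_cancel, map_one]
    exact ⟨⟨ρ t * w₁ * ρ t⁻¹, by rw [e, h1, ← (h.comm_Z ht).left_comm, mul_assoc]⟩,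
      ρ t * w₂ * ρ t⁻¹, by rw [e, h2, mul_assoc, mul_assoc, (h.comm_Z (inv_mem ht)).eq, mul_assoc, mul_assoc]⟩
  have hT : elat ρ hZ ≤ T := h.syl.le_of_le_normalizer le_top (by
    rintro ⟨x, ⟨w₁, h1⟩, w₂, h2⟩
    obtain ⟨j, hj⟩ := h.pow_eq_one_of_nil (x := x) ⟨2, by
      rw [pow_two]
      nth_rewrite 1 [h2]
      rw [h1, mul_assoc, mul_mul_zero hZ, mul_zero]⟩
    exact ⟨j, Subtype.ext hj⟩) fun t ht => mem_normalizer_iff.2 fun x =>
      ⟨hn t ht x, fun hx => by simpa [mul_assoc] using hn _ (inv_mem ht) _ hx⟩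
  by_contra hne
  obtain ⟨y, hy, hy', hc⟩ := exists_rel_cent h.syl.isPGroup hT (lt_of_le_not_ge (zpowers_le.2
    ⟨⟨1, (mul_one _).symm⟩, 1, (one_mul _).symm⟩) hne) hn fun t ht x hx => by
      obtain ⟨i, rfl⟩ := hx
      rw [← ((h.z_cent ht).zpow_left i).eq, mul_inv_cancel_right]
      exact ⟨i, rfl⟩
  obtain ⟨c, hc0, hc1⟩ := h.exists_lam (hT hy)
  obtain ⟨⟨w₁, h1⟩, w₂, h3⟩ := hy
  have hD : (ρ s - 1) ^ (0 + 2) ≠ 0 := fun e => by have := h.jb.pow_eq_zero_iff.1 e; omega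
  have hy1 : y ∈ T1 := hc0 (h.eq_zero_of_smul hD fun v hv => by
    have : (ρ y - 1) v ∈ range ((ρ s - 1) ^ (0 + 2)) := by
      rw [h1]
      exact h.degz _
    simpa using sub_mem this (hc1 0 hD v hv))
  obtain ⟨a, ha⟩ := mem_powers_iff_mem_zpowers.2 (hc s h.s_mem)
  have ha' : y * s = z ^ a * s * y := by rw [show z ^ a = _ from ha]; group
  have k1 : ρ y = 1 + w₂ * (ρ z - 1) := by rw [← h3, add_sub_cancel]
  have k2 : (ρ z - 1) * ρ y = ρ z - 1 := by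
    rw [show ρ y = 1 + (ρ z - 1) * w₁ by rw [← h1, add_sub_cancel], mul_add, mul_mul_zero hZ, mul_one, add_zero]
  have k3 : w₂ * (ρ s * (ρ z - 1)) = ρ s * (w₂ * (ρ z - 1)) + (a : ZMod p) • (ρ s * (ρ z - 1)) := by
    have := congrArg ρ ha'
    rw [map_mul, map_mul, map_mul, rho_pow (add_sub_cancel 1 (ρ z)).symm hZ, add_mul, add_mul, one_mul,
      mul_assoc (a : Module.End (ZMod p) V), (h.comm_Z h.s_mem).eq, mul_assoc (a : Module.End (ZMod p) V),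
      mul_assoc (ρ s), k2, k1, add_mul, mul_add, one_mul, mul_one, add_assoc, add_right_inj, mul_assoc,
      (h.comm_Z h.s_mem).eq] at this
    rw [this, Nat.cast_smul_eq_nsmul, nsmul_eq_mul]
  have k4 := trace_eq_zero (range (ρ z - 1)) (b := w₂) (s := ρ s) (s' := ρ s⁻¹) (e := a)
    (by rintro _ ⟨v, rfl⟩; exact ⟨w₁ v, by rw [← Module.End.mul_apply, ← h1, h3, Module.End.mul_apply]⟩)
    (hW ▸ fun v hv => h.mem_range h.s_mem hv) (hW ▸ fun v hv => h.mem_range (inv_mem h.s_mem) hv)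
    (by rw [← map_mul, mul_inv_cancel, map_one]) (by rw [← map_mul, inv_mul_cancel, map_one])
    (by rintro _ ⟨v, rfl⟩; exact congrArg (fun f : Module.End (ZMod p) V => f v) k3)
  rw [hW, h.jb.finrank_range_pow, mul_eq_zero, ZMod.natCast_eq_zero_iff, ZMod.natCast_eq_zero_iff] at k4
  rcases k4 with ⟨b, rfl⟩ | k4
  · rw [pow_mul, h.z_pow, one_pow, one_mul] at ha'
    exact hy' (h.cent y hy1 ha')
  · have := Nat.le_of_dvd (by omega) k4
    have := h.finrank_le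
    omega

theorem exists_scalar (h5 : 5 ≤ p) (hZ : (ρ z - 1) * (ρ z - 1) = 0) : ∃ (k : G) (a : ZMod p), a ≠ 1 ∧
    ρ k * (ρ z - 1) = a • (ρ z - 1) ∧ a • ((ρ z - 1) * ρ k) = ρ z - 1 ∧
      ∃ w₁ w₂, ρ k - 1 = (ρ z - 1) * w₁ + w₂ * (ρ z - 1) := by
  obtain ⟨g, hg⟩ : ∃ g : G, ¬ IsPGroup p (closure ({z, g * z * g⁻¹} : Set G)) := by
    by_contra! hc
    obtain ⟨N, h1, h2, h3⟩ := CL.Inv.baer_suzuki_exists_normal hc
    exact h.z_ne (mem_bot.1 (h.np N h1 h2 ▸ h3))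
  have : Finite V := Module.finite_of_finite (ZMod p)
  have : Finite (Module.End (ZMod p) V) := DFunLike.finite _
  have z1 : z ∈ closure ({z, g * z * g⁻¹} : Set G) := subset_closure (by simp)
  have z2 : g * z * g⁻¹ ∈ closure ({z, g * z * g⁻¹} : Set G) := subset_closure (by simp)
  have i1 : ∀ t, ρ g⁻¹ * (ρ g * t) = t := fun t => by rw [← mul_assoc, ← map_mul, inv_mul_cancel, map_one, one_mul]
  have i2 : ρ g⁻¹ * ρ g = 1 := by rw [← map_mul, inv_mul_cancel, map_one]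
  have hP : Pair0 p (ρ.comp (closure ({z, g * z * g⁻¹} : Set G)).subtype) ⟨z, z1⟩ ⟨_, z2⟩ (ρ z - 1)
      (ρ g * (ρ z - 1) * ρ g⁻¹) :=
    { ez := (add_sub_cancel _ _).symm
      ez' := by
        rw [mul_sub, sub_mul, mul_one, ← map_mul, ← map_mul, ← map_mul, mul_inv_cancel, map_one, add_sub_cancel]
        rfl
      sq := hZ
      sq' := by simp only [mul_assoc, i1, mul_mul_zero hZ, mul_zero]
      five := h5
      inj := h.inj.comp (subtype_injective _)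
      top := by
        rw [← closure_closure_coe_preimage]
        congr 1
        ext x
        simp [Subtype.ext_iff]
      pow := Subtype.ext h.z_pow
      pow' := Subtype.ext (by simp [conj_pow, h.z_pow])
      ne := fun e => h.z_ne (congrArg Subtype.val e)
      ne' := fun e => h.z_ne (conj_eq_one_iff.1 (congrArg Subtype.val e))
      el := fun x w₁ w₂ h1 h2 => by
        obtain ⟨i, hi⟩ := h.elat_le hZ (show (x : G) ∈ elat ρ hZ from ⟨⟨w₁, h1⟩, w₂, h2⟩)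
        exact ⟨i, Subtype.ext hi⟩
      el' := fun x w₁ w₂ h1 h2 => by
        have e : ρ (g⁻¹ * x * g) - 1 = ρ g⁻¹ * (ρ x - 1) * ρ g := by
          rw [mul_sub, sub_mul, mul_one, i2, ← map_mul, ← map_mul]
        change ρ x - 1 = _ at h1 h2
        obtain ⟨i, hi⟩ := h.elat_le hZ (show g⁻¹ * x * g ∈ elat ρ hZ from
          ⟨⟨ρ g⁻¹ * w₁ * ρ g, by rw [e, h1]; simp only [mul_assoc, i1]⟩,
            ρ g⁻¹ * w₂ * ρ g, by rw [e, h2]; simp only [mul_assoc, i2, mul_one]⟩)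
        refine ⟨i, Subtype.ext ?_⟩
        change (g * z * g⁻¹) ^ i = x
        rw [conj_zpow, show z ^ i = _ from hi]
        group
      np := hg }
  obtain ⟨k, a, hk⟩ := hP.exists_scalar
  exact ⟨k, a, hk⟩

omit [Module.Finite (ZMod p) V] in
theorem conj_mem {k : G} {a : ZMod p} (ha : a ≠ 0) (h1 : ρ k * (ρ z - 1) = a • (ρ z - 1))
    (h2 : a • ((ρ z - 1) * ρ k) = ρ z - 1) (h3 : ∀ v ∈ ker (ρ z - 1), ρ k v - v ∈ range (ρ z - 1)) :
    k * s * k⁻¹ ∈ T := by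
  have hC : ∀ t ∈ T, ∀ v ∈ ker (ρ z - 1), ρ t v ∈ ker (ρ z - 1) := fun t ht v hv => by
    rw [mem_ker, ← Module.End.mul_apply, (h.comm_Z ht).eq, Module.End.mul_apply, mem_ker.1 hv, map_zero]
  have hW : ∀ t ∈ T, ∀ v ∈ range (ρ z - 1), ρ t v ∈ range (ρ z - 1) := by
    rintro t ht _ ⟨v, rfl⟩
    exact ⟨ρ t v, by rw [← Module.End.mul_apply, (h.comm_Z ht).eq, Module.End.mul_apply]⟩
  have hn : ∀ t ∈ T, ∀ x ∈ stab3 ρ (ker (ρ z - 1)) (range (ρ z - 1)),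
      t * x * t⁻¹ ∈ stab3 ρ (ker (ρ z - 1)) (range (ρ z - 1)) := by
    rintro t ht x ⟨a1, a2, a3⟩
    have e : ∀ v, (ρ (t * x * t⁻¹) - 1) v = ρ t ((ρ x - 1) (ρ t⁻¹ v)) := fun v => by
      rw [← Module.End.mul_apply, ← Module.End.mul_apply, mul_sub, sub_mul, mul_one, ← map_mul, ← map_mul, ← map_mul,
        mul_inv_cancel, map_one]
    refine ⟨fun v => ?_, fun v hv => ?_, fun v hv => ?_⟩ <;> rw [e]
    · exact hC t ht _ (a1 _)
    · exact hW t ht _ (a2 _ (hC _ (inv_mem ht) _ hv))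
    · rw [a3 _ (hW _ (inv_mem ht) _ hv), map_zero]
  have hT : stab3 ρ (ker (ρ z - 1)) (range (ρ z - 1)) ≤ T := h.syl.le_of_le_normalizer le_top (by
    rintro ⟨x, a1, a2, a3⟩
    obtain ⟨j, hj⟩ := h.pow_eq_one_of_nil (x := x) ⟨3, LinearMap.ext fun v => a3 _ (a2 _ (a1 v))⟩
    exact ⟨j, Subtype.ext hj⟩) fun t ht => mem_normalizer_iff.2 fun x =>
      ⟨hn t ht x, fun hx => by simpa [mul_assoc] using hn _ (inv_mem ht) _ hx⟩
  have e : ∀ (c : ZMod p) v, (ρ (k * s * k⁻¹ * s⁻¹) - 1) v = (ρ k (ρ s (ρ (k⁻¹ * s⁻¹) v)) - c • ρ s (ρ (k⁻¹ * s⁻¹) v)) -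
      ρ s (ρ k (ρ (k⁻¹ * s⁻¹) v) - c • ρ (k⁻¹ * s⁻¹) v) := fun c v => by
    rw [map_sub, map_smul, sub_sub_sub_cancel_right]
    simp only [← Module.End.mul_apply, ← map_mul, mul_inv_cancel_left, mul_inv_cancel, map_one, mul_assoc]
    rfl
  have i1 : ρ k * ρ k⁻¹ = 1 := by rw [← map_mul, mul_inv_cancel, map_one]
  have i2 : ρ k⁻¹ * ρ k = 1 := by rw [← map_mul, inv_mul_cancel, map_one]
  have c1 : ∀ v, ρ k v - a⁻¹ • v ∈ ker (ρ z - 1) := fun v => by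
    rw [mem_ker, map_sub, map_smul, ← Module.End.mul_apply, sub_eq_zero, eq_inv_smul_iff₀ ha, ← LinearMap.smul_apply, h2]
  have c3 : ∀ v ∈ range (ρ z - 1), ρ k v - a • v = 0 := by
    rintro _ ⟨v, rfl⟩
    rw [← Module.End.mul_apply, h1, LinearMap.smul_apply, sub_self]
  have d2 : ∀ v ∈ ker (ρ z - 1), ρ (k⁻¹ * s⁻¹) v ∈ ker (ρ z - 1) := fun v hv => by
    rw [map_mul, Module.End.mul_apply, mem_ker, ← Module.End.mul_apply, ← h2, smul_mul_assoc, mul_assoc, i1, mul_one,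
      LinearMap.smul_apply, mem_ker.1 (hC _ (inv_mem h.s_mem) v hv), smul_zero]
  have d3 : ∀ v ∈ range (ρ z - 1), ρ (k⁻¹ * s⁻¹) v ∈ range (ρ z - 1) := fun v hv => by
    obtain ⟨u, hu⟩ := hW _ (inv_mem h.s_mem) v hv
    refine ⟨a⁻¹ • u, ?_⟩
    rw [map_mul, Module.End.mul_apply, ← hu, map_smul, inv_smul_eq_iff₀ ha, ← map_smul, ← LinearMap.smul_apply, ← h1,
      ← Module.End.mul_apply, ← mul_assoc, i2, one_mul]
  have := hT (show k * s * k⁻¹ * s⁻¹ ∈ _ from ⟨fun v => ?_, fun v hv => ?_, fun v hv => ?_⟩)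
  · simpa using mul_mem this h.s_mem
  · rw [e a⁻¹]
    exact sub_mem (c1 _) (hC _ h.s_mem _ (c1 _))
  · rw [e 1, one_smul, one_smul]
    exact sub_mem (h3 _ (hC _ h.s_mem _ (d2 v hv))) (hW _ h.s_mem _ (h3 _ (d2 v hv)))
  · rw [e a, c3 _ (hW _ h.s_mem _ (d3 v hv)), c3 _ (d3 v hv), map_zero, sub_zero]

theorem eq_zpowers (h5 : 5 ≤ p) (h3 : finrank (ZMod p) V ≠ 3) : T1 = zpowers z := by
  by_contra hne
  obtain ⟨d, g, h2, hd, hg, e, hW, hC⟩ := h.exists_d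
  have hm := h.le_two_mul hne h2 hd hg e
  have hZ : (ρ z - 1) * (ρ z - 1) = 0 := LinearMap.ext fun v => by
    have : (ρ z - 1) v ∈ ker (ρ z - 1) := hC ▸ range_pow_anti _ (by omega) (hW.le ⟨v, rfl⟩)
    exact this
  obtain ⟨k, a, ha, h1, h2', w₁, w₂, h3'⟩ := h.exists_scalar h5 hZ
  have ha0 : a ≠ 0 := fun e0 => h.Z_ne (by rw [← h2', e0, zero_smul])
  have c2 : ∀ v ∈ ker (ρ z - 1), ρ k v - v ∈ range (ρ z - 1) := fun v hv => ⟨w₁ v, by
    have := congrArg (fun f : Module.End (ZMod p) V => f v) h3'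
    simp only [LinearMap.add_apply, Module.End.mul_apply, mem_ker.1 hv, map_zero, add_zero] at this
    exact this.symm⟩
  have c1 : ∀ v, ρ k v - a⁻¹ • v ∈ ker (ρ z - 1) := fun v => by
    rw [mem_ker, map_sub, map_smul, ← Module.End.mul_apply, sub_eq_zero, eq_inv_smul_iff₀ ha0, ← LinearMap.smul_apply,
      h2']
  obtain ⟨c, hc⟩ := h.ratio (h.conj_mem ha0 h1 h2' c2)
  rw [hC] at c1
  rw [hC, hW] at c2
  have hD : ∀ j, j < finrank (ZMod p) V → (ρ s - 1) ^ j ≠ 0 := fun j hj e => by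
    have := h.jb.pow_eq_zero_iff.1 e
    omega
  have r1 : ∀ j, j < finrank (ZMod p) V - d → ∀ v ∈ range ((ρ s - 1) ^ j),
      ρ k v - a⁻¹ • v ∈ range ((ρ s - 1) ^ (j + 1)) := fun j hj v _ => range_pow_anti _ hj (c1 v)
  have r2 : ∀ j, finrank (ZMod p) V - d ≤ j → j < d → ∀ v ∈ range ((ρ s - 1) ^ j),
      ρ k v - (1 : ZMod p) • v ∈ range ((ρ s - 1) ^ (j + 1)) := fun j hj hj' v hv => by
    rw [one_smul]
    exact range_pow_anti _ hj' (c2 v (range_pow_anti _ hj hv))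
  obtain ⟨w, hw⟩ : ∃ w, finrank (ZMod p) V - d = w + 1 := ⟨finrank (ZMod p) V - d - 1, by omega⟩
  have k1 := hc w (hD _ (by omega)) _ _ (r1 w (by omega)) (r2 (w + 1) hw.le (by omega))
  have k2 : c = 1 := by
    rcases w with _ | w
    · simpa using (hc 1 (hD _ (by omega)) _ _ (r2 1 hw.le (by omega)) (r2 2 (by omega) (by omega))).symm
    · exact mul_right_cancel₀ (inv_ne_zero ha0)
        ((hc 0 (hD _ (by omega)) _ _ (r1 0 (by omega)) (r1 1 (by omega))).symm.trans (one_mul _).symm)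
  rw [k2, one_mul] at k1
  exact ha (inv_eq_one.1 k1.symm)

end Ctx0

variable {p : ℕ} [hp : Fact p.Prime] {G : Type*} [Group G]

namespace Ctx0
variable {V : Type*} [AddCommGroup V] [Module (ZMod p) V] {ρ : G →* Module.End (ZMod p) V} {T : Subgroup G} {s z : G}
  [Finite G] [Module.Finite (ZMod p) V] (h : Ctx0 p ρ T (zpowers z) s z)
include h

theorem exists_sq {t : G} (ht : t ∈ zpowers z) : ∃ f : (ZMod p)[X], ρ t = aeval (ρ s - 1) (1 + X ^ 2 * f) := by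
  obtain ⟨d, g, h2, hd, -, e, -⟩ := h.exists_d
  obtain ⟨a, rfl⟩ := mem_powers_iff_mem_zpowers.2 ht
  obtain ⟨l, rfl⟩ := Nat.exists_eq_add_of_le h2
  obtain ⟨r, hr⟩ := sub_dvd_pow_sub_pow (1 + X ^ (2 + l) * g) 1 a
  refine ⟨X ^ l * g * r, ?_⟩
  have e1 : (1 + X ^ 2 * (X ^ l * g * r) : (ZMod p)[X]) = (1 + X ^ (2 + l) * g) ^ a := by
    rw [sub_eq_iff_eq_add.1 hr]
    ring
  simp [e1, ← e]

theorem pow_eq_zero_of_mem {t : G} (ht : t ∈ zpowers z) : (ρ t - 1) ^ (finrank (ZMod p) V - 1) = 0 := by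
  obtain ⟨d, -, h2, hd, -⟩ := h.exists_d
  obtain ⟨f, hf⟩ := h.exists_sq ht
  rw [hf, map_add, map_one, add_sub_cancel_left, ← map_pow, mul_pow, ← pow_mul, map_mul, map_pow, aeval_X,
    h.jb.pow_eq_zero_iff.2 (by omega), zero_mul]

theorem jb_of_not_mem {t : G} (ht : t ∈ T) (ht' : t ∉ zpowers z) : Jb (ρ t - 1) := by
  obtain ⟨a, u, hu, rfl⟩ := h.gen t ht
  obtain ⟨f, hf⟩ := h.exists_sq hu
  have ha : (a : ZMod p) ≠ 0 := fun e => by
    obtain ⟨b, rfl⟩ := (ZMod.natCast_eq_zero_iff a p).1 e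
    exact ht' (by rwa [pow_mul, h.s_pow, one_pow, one_mul])
  have e : ρ (s ^ a * u) - 1 = aeval (ρ s - 1) (∑ i ∈ Finset.range a, (1 + X) ^ i + X * ((1 + X) ^ a * f)) *
      (ρ s - 1) := by
    have e1 : ((∑ i ∈ Finset.range a, (1 + X) ^ i + X * ((1 + X) ^ a * f)) * X : (ZMod p)[X]) =
        (1 + X) ^ a * (1 + X ^ 2 * f) - 1 := by
      have := geom_sum_mul (1 + X : (ZMod p)[X]) a
      rw [add_sub_cancel_left] at this
      rw [add_mul, this]
      ring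
    conv_rhs => rhs; rw [← aeval_X (R := ZMod p) (ρ s - 1)]
    rw [← map_mul, e1, map_sub, map_mul (aeval _), ← hf]
    simp
  have hu := h.jb.isUnit_aeval (g := ∑ i ∈ Finset.range a, (1 + X) ^ i + X * ((1 + X) ^ a * f))
    (by simpa [coeff_zero_eq_eval_zero, eval_finsetSum] using ha)
  rw [e]
  refine ⟨Commute.isNilpotent_mul_left (Commute.symm (semiconj_aeval (Commute.refl _) _)) h.jb.nil, ?_⟩
  rw [Module.End.mul_eq_comp, ker_comp_of_ker_eq_bot _ (ker_eq_bot.2 ((Module.End.isUnit_iff _).1 hu).1)]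
  exact h.ker_le

theorem mem_iff {t : G} (ht : t ∈ T) : t ∈ zpowers z ↔ (ρ t - 1) ^ (finrank (ZMod p) V - 1) = 0 := by
  refine ⟨h.pow_eq_zero_of_mem, fun e => by_contra fun ht' => ?_⟩
  obtain ⟨d, -, h2, hd, -⟩ := h.exists_d
  have := (h.jb_of_not_mem ht ht').pow_eq_zero_iff.1 e
  omega

theorem conj_mem_iff {t g : G} (ht : t ∈ T) (ht' : g * t * g⁻¹ ∈ T) : g * t * g⁻¹ ∈ zpowers z ↔ t ∈ zpowers z := by
  have e : SemiconjBy (ρ g) (ρ t - 1) (ρ (g * t * g⁻¹) - 1) := by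
    rw [SemiconjBy, mul_sub, sub_mul, ← map_mul, ← map_mul, inv_mul_cancel_right, mul_one, one_mul]
  have hu := (Group.isUnit g).map ρ
  rw [h.mem_iff ht, h.mem_iff ht', ← hu.mul_left_eq_zero, ← (e.pow_right _).eq, hu.mul_right_eq_zero]

omit [Module.Finite (ZMod p) V] in
theorem le_N : T ≤ normalizer (zpowers z : Set G) := fun _ ht =>
  centralizer_le_normalizer _ (by rintro _ ⟨i, rfl⟩; exact ((h.z_cent ht).zpow_left i).eq)

theorem se_N (g x : G) (hx : x ∈ normalizer (zpowers z : Set G)) (h1 : x ≠ 1) (h2 : x ^ p = 1)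
    (hg : g * x * g⁻¹ ∈ normalizer (zpowers z : Set G)) : g ∈ normalizer (zpowers z : Set G) := by
  have hs := h.syl.of_le h.le_N le_top
  obtain ⟨b, hb, e1⟩ := hs.exists_conj_le (zpowers_le.2 hx) (isPGroup_zpowers' (j := 1) (by simpa using h2))
  obtain ⟨c, hc, e2⟩ := hs.exists_conj_le (zpowers_le.2 hg)
    (isPGroup_zpowers' (j := 1) (by simp [conj_pow, h2]))
  have m1 := e1 x (mem_zpowers x)
  have m2 := e2 _ (mem_zpowers _)
  rw [show c * (g * x * g⁻¹) * c⁻¹ = c * g * b⁻¹ * (b * x * b⁻¹) * (c * g * b⁻¹)⁻¹ by group] at m2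
  suffices c * g * b⁻¹ ∈ normalizer (zpowers z : Set G) by
    simpa [mul_assoc] using mul_mem (mul_mem (inv_mem hc) this) hb
  have n1 : b * x * b⁻¹ ≠ 1 := mt conj_eq_one_iff.1 h1
  generalize c * g * b⁻¹ = k at *
  generalize b * x * b⁻¹ = y at *
  have key : k * z * k⁻¹ ∈ T := by
    by_cases hy : y ∈ zpowers z
    · obtain ⟨i, hi⟩ := mem_zpowers_of_mem h.z_pow hy n1
      rw [← show y ^ i = z from hi, ← conj_zpow]
      exact zpow_mem m2 i
    · have jb := h.jb_of_not_mem m2 (mt (h.conj_mem_iff m1 m2).1 hy)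
      have ab : ∀ t ∈ T, ∀ u ∈ T, Commute t u := fun t ht u hu => by
        obtain ⟨a, _, ⟨i, rfl⟩, rfl⟩ := h.gen t ht
        obtain ⟨b, _, ⟨j, rfl⟩, rfl⟩ := h.gen u hu
        have c1 : Commute s (s ^ b * z ^ j) := ((Commute.refl s).pow_right b).mul_right (h.comm.symm.zpow_right j)
        exact (c1.pow_left a).mul_left ((h.z_cent hu).zpow_left i)
      refine zpowers_le.1 (h.syl.le_of_le_normalizer le_top
        (isPGroup_zpowers' (j := 1) (by simp [conj_pow, h.z_pow])) fun t ht => centralizer_le_normalizer _ ?_)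
      rintro _ ⟨i, rfl⟩
      refine (Commute.zpow_left (h.inj ?_ : Commute _ t) i).eq
      rw [map_mul, map_mul (ρ) t]
      exact jb.commute_of_commute (((((h.z_cent m1).map (MulAut.conj k)).map ρ).sub_right (Commute.one_right _)))
        (((ab t ht _ m2).map ρ).sub_right (Commute.one_right _))
  refine mem_normalizer_fintype ?_
  rintro _ ⟨i, rfl⟩
  change k * z ^ i * k⁻¹ ∈ zpowers z
  rw [← conj_zpow]
  exact zpow_mem ((h.conj_mem_iff h.zT key).2 (mem_zpowers z)) i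

theorem s_not_mem : s ∉ zpowers z := fun e => by
  obtain ⟨d, -, h2, hd, -⟩ := h.exists_d
  have := h.jb.pow_eq_zero_iff.1 (h.pow_eq_zero_of_mem e)
  omega

theorem exists_dat : ∃ (s' z' : normalizer (zpowers z : Set G)), (s' : G) ∈ T ∧ (s' : G) ∉ zpowers z ∧ z' = z ∧
    Dat p _ s' z' := by
  let s₀ : normalizer (zpowers z : Set G) := ⟨s, h.le_N h.s_mem⟩
  let z₀ : normalizer (zpowers z : Set G) := ⟨z, h.le_N h.zT⟩
  have mz : ∀ x : normalizer (zpowers z : Set G), x ∈ zpowers z₀ ↔ (x : G) ∈ zpowers z := fun x =>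
    ⟨fun ⟨i, hi⟩ => ⟨i, congrArg Subtype.val hi⟩, fun ⟨i, hi⟩ => ⟨i, Subtype.ext hi⟩⟩
  have hs : s₀ ^ p = 1 := Subtype.ext h.s_pow
  have hz : z₀ ^ p = 1 := Subtype.ext h.z_pow
  have hz1 : z₀ ≠ 1 := fun e => h.z_ne (congrArg Subtype.val e)
  have hc : Commute s₀ z₀ := Subtype.ext h.comm.symm.eq
  obtain ⟨φ, hφ, φ1, φ2, hr⟩ := exists_hom_pair hs hz hc hz1 (mt (mz _).1 h.s_not_mem)
  have hT : φ.range = T.subgroupOf _ := by
    rw [hr]
    refine le_antisymm (sup_le (zpowers_le.2 h.s_mem) (zpowers_le.2 h.zT)) fun t ht => ?_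
    obtain ⟨a, u, hu, e⟩ := h.gen t ht
    rw [show t = s₀ ^ a * ⟨u, h.le_N (h.le hu)⟩ from Subtype.ext e]
    exact mul_mem (mem_sup_left (pow_mem (mem_zpowers _) _)) (mem_sup_right ((mz _).2 hu))
  obtain ⟨a, μ, ha, hμ, haz⟩ := exists_cocycle hz hz1 ⟨fun x hx g => (mz _).2 ((mem_normalizer_iff.1 g.2 x).1
    ((mz _).1 hx))⟩ φ.range (hT ▸ (h.syl.of_le h.le_N le_top).not_dvd_relIndex) ⟨_, φ2⟩
    (fun t ht => Subtype.ext (h.z_cent (hT.le ht)).symm.eq)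
    ((AddMonoidHom.snd (ZMod p) (ZMod p)).toMultiplicative.comp (MonoidHom.ofInjective hφ).symm.toMonoidHom) (by
      have : (MonoidHom.ofInjective hφ).symm ⟨z₀, _, φ2⟩ = Multiplicative.ofAdd (0, 1) :=
        (MulEquiv.symm_apply_eq _).2 (Subtype.ext φ2.symm)
      simp [this])
  have m1 : ∀ x, Commute x z₀ → μ x = 1 := fun x hx => by
    have := hμ x
    rw [hx.eq, mul_inv_cancel_right, eq_comm, ← pow_one z₀, ← pow_mul, pow_eq_pow_iff_modEq, orderOf_eq_prime hz hz1,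
      one_mul, ← ZMod.natCast_eq_natCast_iff] at this
    simpa using this
  have a1 : ∀ i : ℕ, a (s₀ * z₀ ^ i) = a s₀ + i := fun i => by
    induction i with
    | zero => simp
    | succ i ih =>
      rw [pow_succ, ← mul_assoc, ha, ih, m1 _ (hc.mul_left ((Commute.refl _).pow_left i)), haz]
      push_cast
      ring
  have n1 : s₀ * z₀ ^ (-a s₀).val ∉ zpowers z₀ := fun e => h.s_not_mem
    ((mz s₀).1 ((mul_mem_cancel_right (pow_mem (mem_zpowers _) _)).1 e))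
  have hs' : (s₀ * z₀ ^ (-a s₀).val) ^ p = 1 := by
    rw [(hc.pow_right _).mul_pow, hs, ← pow_mul, mul_comm, pow_mul, hz, one_pow, one_mul]
  obtain ⟨ψ, hψ, ψ1, ψ2, -⟩ := exists_hom_pair hs' hz (hc.mul_left ((Commute.refl _).pow_left _)) hz1 n1
  exact ⟨s₀ * z₀ ^ (-a s₀).val, z₀, mul_mem h.s_mem (pow_mem h.zT _), mt (mz _).2 n1, rfl, h.se_N, hs', hz, hz1,
    ⟨a, μ, ha, hμ, haz, by simp [a1]⟩, ψ, hψ, ψ1, ψ2⟩

theorem false_of_eq : False := by
  obtain ⟨s', z', hs, hs', e, hd⟩ := h.exists_dat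
  have jb := h.jb_of_not_mem hs hs'
  obtain ⟨d, g, hd', hg, e1⟩ := jb.exists_pow_mul ((h.comm_Z hs).sub_right (Commute.one_right _)) h.Z_ne
  have h2 : 2 ≤ d := by
    have := h.pow_eq_zero_of_mem (mem_zpowers z)
    rw [e1, (Commute.pow_left (semiconj_aeval (Commute.refl _) g) d).mul_pow, ((jb.isUnit_aeval hg).pow _).mul_left_eq_zero,
      ← pow_mul, jb.pow_eq_zero_iff] at this
    by_contra hlt
    have : d * (finrank (ZMod p) V - 1) ≤ 1 * (finrank (ZMod p) V - 1) := Nat.mul_le_mul_right _ (by omega)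
    omega
  obtain ⟨l, rfl⟩ := Nat.exists_eq_add_of_le h2
  have hn := hd.nil _ V ρ (X ^ l * g) rfl jb.ker_le (by
    rw [e, ← sub_add_cancel (ρ z) 1, e1, add_comm]
    simp [pow_add, mul_assoc])
  rw [e] at hn
  have hz := subset_normalClosure (Set.mem_singleton z)
  refine h.z_ne (mem_bot.1 (h.np (normalClosure {z}) inferInstance ?_ ▸ hz))
  rintro ⟨x, hx⟩
  obtain ⟨j, hj⟩ := h.pow_eq_one_of_nil (hn x hx)
  exact ⟨j, Subtype.ext hj⟩

end Ctx0

theorem Ctx0.three {V : Type*} [AddCommGroup V] [Module (ZMod p) V] {ρ : G →* Module.End (ZMod p) V}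
    {T T1 : Subgroup G} {s z : G} [Finite G] [Module.Finite (ZMod p) V] (h : Ctx0 p ρ T T1 s z) (h5 : 5 ≤ p) :
    finrank (ZMod p) V = 3 ∧ T1 ≠ zpowers z := by
  have h1 : T1 ≠ zpowers z := by
    rintro rfl
    exact h.false_of_eq
  exact ⟨by_contra fun e => h1 (h.eq_zpowers h5 e), h1⟩

end CL.MCD
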