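import Cfsg.Agent.FUS.MD.Out
import Cfsg.Agent.FUS.MD.B2c

/-! # Centric radical terms of the lower central series -/

set_option autoImplicit false

namespace CL.MCD

open Subgroup Cfsg Cfsg.FusionSystem CL.MaxCl CL.Fus
open scoped commutatorElement

open Module LinearMap CL.MCN CL.MCN.Fu in
theorem ctx0_of {S G V : Type*} [Group S] [Finite S] [Group G] {p n : ℕ} [Fact p.Prime] [AddCommGroup V]
    [Module (ZMod p) V] [Module.Finite (ZMod p) V] (h : IsMC p n S) (h4 : 4 ≤ n) {i : ℕ} (hi : 2 ≤ i) (hin : i < n)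
    {ν : S → V} (hν : ∀ x ∈ P S i, ∀ y ∈ P S i, ν (x * y) = ν x + ν y) (hsur : ∀ v, ∃ x ∈ P S i, ν x = v)
    (ρ : G →* Module.End (ZMod p) V) (inj : Function.Injective ρ) (κ : S →* G) (hκ : ∀ g, κ g = 1 ↔ g ∈ P S i)
    (act : ∀ g, ∀ x ∈ P S i, ρ (κ g) (ν x) = ν (g * x * g⁻¹)) (syl : SylIn p κ.range ⊤)
    (np : ∀ N : Subgroup G, N.Normal → IsPGroup p N → N = ⊥) :
    ∃ s z : S, z ∈ P S (i - 1) ∧ z ∉ P S i ∧ Ctx0 p ρ κ.range ((P S 1).map κ) (κ s) (κ z) ∧
      ∀ j, ∀ x ∈ P S (i + j), ν x ∈ range ((ρ (κ s) - 1) ^ j) := by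
  obtain ⟨s, hs⟩ := h.exists_unif h4
  obtain ⟨i, rfl⟩ : ∃ j, i = j + 1 := ⟨i - 1, by omega⟩
  obtain ⟨z, hz, hz'⟩ := h.exists_mem_not_mem (i := i) (Or.inr h4) (by omega)
  have two : 2 ≤ p := (Fact.out : p.Prime).two_le
  have le : ∀ j, P S (i + 1 + j) ≤ P S (i + 1) := fun j => P_anti (by omega)
  have cm : ∀ g, ∀ x ∈ P S (i + 1), (ρ (κ g) - 1) (ν x) = ν ⁅g, x⁆ := fun g x hx => by
    rw [LinearMap.sub_apply, act g x hx, commutatorElement_def,
      hν _ ((P_normal _).conj_mem x hx g) _ (inv_mem hx), nu_inv hν hx, sub_eq_add_neg]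
    rfl
  have mk : ∀ j, ∀ x ∈ P S (i + 1 + j), ν x ∈ im p hν (P S (i + 1 + j)) := fun j x hx => ⟨x, hx, le j hx, rfl⟩
  have rg : ∀ j, range ((ρ (κ s) - 1) ^ j) = im p hν (P S (i + 1 + j)) := by
    intro j
    induction j with
    | zero =>
      rw [pow_zero, Module.End.one_eq_id, range_id, eq_comm, eq_top_iff]
      intro v _
      obtain ⟨x, hx, rfl⟩ := hsur v
      exact mk 0 x hx
    | succ j ih =>
      rw [pow_succ', Module.End.mul_eq_comp, range_comp, ih]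
      refine le_antisymm ?_ (im_le hν (P_succ_le_of_comm h h4 hs (a := i + 1 + j) (by omega) fun x hx => ?_))
      · rintro _ ⟨_, ⟨x, hx, hx', rfl⟩, rfl⟩
        rw [cm s x hx']
        exact mk (j + 1) _ (comm_mem (i := i + 1 + j) (by omega) s hx)
      · exact ⟨le (j + 1) (comm_mem (i := i + 1 + j) (by omega) s hx), ν x, mk j x hx, cm s x (le j hx)⟩
  refine ⟨s, z, hz, hz', ⟨inj, syl, ⟨s, rfl⟩, map_le_range _ _, ?_, ?_, ?_,
    mem_map_of_mem κ (P_anti (by omega) hz), fun e => hz' ((hκ z).1 e), ?_, ?_, ?_, ?_, ?_, ?_, ?_, np⟩,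
    fun j x hx => rg j ▸ mk j x hx⟩
  · rintro _ ⟨g, rfl⟩ _ ⟨u, hu, rfl⟩
    exact ⟨g * u * g⁻¹, (P_normal 1).conj_mem u hu g, by simp⟩
  · rintro _ ⟨g, rfl⟩
    obtain ⟨a, u, hu, rfl⟩ := exists_pow_mul h h4 hs g
    exact ⟨a, κ u, mem_map_of_mem κ hu, by simp⟩
  · rw [← map_pow, hκ]
    exact P_anti (by omega) (h.pow_mem_last h4 hs)
  · rw [← map_pow, hκ]
    by_cases e : i = 1
    · subst e
      exact h.pow_mem_P_two z
    · exact P_anti (by omega) (h.pow_mem_add (by omega) hz)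
  · rw [← commutatorElement_eq_one_iff_commute, ← map_commutatorElement, hκ]
    exact comm_mem' (by omega) s hz
  · rintro _ ⟨g, hg, rfl⟩ hc
    rw [Commute.symm_iff, ← commutatorElement_eq_one_iff_commute, ← map_commutatorElement, hκ] at hc
    have h1 := mem_pred h h4 hs (by omega) (by omega) hg hc
    rw [h.sup_zpowers (Or.inr h4) hz hz'] at h1
    refine (sup_le (fun x hx => ?_) (zpowers_le.2 (mem_zpowers (κ z))) :
      P S (i + 1) ⊔ zpowers z ≤ (zpowers (κ z)).comap κ) h1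
    rw [mem_comap, (hκ x).2 hx]
    exact one_mem _
  · obtain ⟨c, hc, hc'⟩ := h.exists_mem_not_mem (i := i + 1) (Or.inr h4) hin
    have h1 := (ρ (κ s) - 1).finrank_range_add_finrank_ker
    have h2 : range (ρ (κ s) - 1) ⊔ (ZMod p) ∙ ν c = ⊤ := by
      have e0 := rg 0
      have e1 := rg 1
      rw [pow_zero, Module.End.one_eq_id, range_id] at e0
      rw [pow_one] at e1
      rw [eq_top_iff, e0, e1]
      refine im_le hν ((h.sup_zpowers (Or.inr h4) hc hc').le.trans ?_)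
      exact sup_le (fun x hx => ⟨le 1 hx, Submodule.mem_sup_left (mk 1 x hx)⟩)
        (zpowers_le.2 ⟨hc, Submodule.mem_sup_right (Submodule.mem_span_singleton_self _)⟩)
    have h3 := Submodule.finrank_add_le_finrank_add_finrank (range (ρ (κ s) - 1)) ((ZMod p) ∙ ν c)
    have h5 : finrank (ZMod p) ((ZMod p) ∙ ν c) ≤ 1 := by
      simpa using finrank_span_le_card (R := ZMod p) ({ν c} : Set V)
    rw [h2, finrank_top] at h3
    omega
  · rintro _ ⟨g, rfl⟩ j v hv
    rw [rg] at hv ⊢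
    obtain ⟨x, hx, hx', rfl⟩ := hv
    rw [cm g x hx']
    exact mk (j + 1) _ (comm_mem (i := i + 1 + j) (by omega) g hx)
  · rintro _ ⟨g, hg, rfl⟩ j hj v hv
    rw [rg] at hv ⊢
    obtain ⟨x, hx, hx', rfl⟩ := hv
    rw [cm g x hx']
    refine mk (j + 2) _ (h.commutator_P_one_le h4 (i + 1 + j) (by omega) ?_ (commutator_mem_commutator hg hx))
    by_contra e
    apply hj
    rw [← range_eq_bot, rg, h.P_eq_bot (i := i + 1 + (j + 2)) (by omega), eq_bot_iff]
    exact im_le hν bot_le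
  · intro v
    obtain ⟨x, hx, rfl⟩ := hsur v
    rw [rg, cm z x hx]
    refine mk 2 _ (mem_C.1 ?_ x hx)
    by_cases e : i = 1
    · subst e
      rwa [C_two]
    · exact P_two_le_C (by omega) (P_anti (by omega) hz)

universe u
variable {G : Type u} [Group G] [Finite G] {p n : ℕ} [hp : Fact p.Prime] {F : FusionSystem (⊤ : Subgroup G)}

theorem rad_P (h : IsMC p n G) (h4 : 4 ≤ n) (h5 : 5 ≤ p) (hF : F.IsSaturated p) {i : ℕ} (hi : 2 ≤ i)
    (hc : F.IsCentric (P G i)) (hr : F.IsRadical p (P G i)) : n = 6 ∧ i = 3 ∧ C G (n - 2) ≠ P G 1 := by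
  have hin : i < n := by
    by_contra e
    have := last_le h (cent_le hc)
    rw [h.P_eq_bot (not_lt.1 e), le_bot_iff] at this
    exact h.P_ne_bot (by omega) this
  obtain ⟨Γ, _, _, V, _, _, _, ρ, π, κ, ν, inj, -, -, -, hκ, syl, np, hν, hsur, -, act⟩ :=
    exists_out h.isPGroup hF hc hr
  obtain ⟨s, z, hz, hz', hx, hrg⟩ := ctx0_of h h4 hi hin hν hsur ρ inj κ hκ act syl np
  obtain ⟨h3, hne⟩ := hx.three h5
  have i3 : 3 ≤ i := by
    by_contra e
    obtain rfl : i = 2 := by omega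
    apply hne
    rw [h.sup_zpowers (i := 1) (Or.inr h4) hz hz', Subgroup.map_sup, MonoidHom.map_zpowers,
      (Subgroup.map_eq_bot_iff _).2 fun x hx => (hκ x).2 hx, bot_sup_eq]
  have key : ∀ j, ⁅P G j, P G i⁆ ≤ P G (i + 3) → P G j ≤ P G i := fun j hj g hg => (hκ g).1 (inj (by
    rw [map_one]
    refine LinearMap.ext fun v => ?_
    obtain ⟨x, hx', rfl⟩ := hsur v
    have h1 := hj (commutator_mem_commutator hg hx')
    have h2 := hrg 3 _ h1
    rw [hx.jb.pow_eq_zero_iff.2 h3.le, LinearMap.range_zero, Submodule.mem_bot] at h2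
    rw [act g x hx', show g * x * g⁻¹ = ⁅g, x⁆ * x by rw [commutatorElement_def, inv_mul_cancel_right],
      hν _ (P_anti (by omega) h1) _ hx', h2, zero_add, Module.End.one_apply]))
  obtain rfl : i = 3 := by
    by_contra e
    exact h.not_P_succ_le (i := 3) (by omega) (by omega)
      ((key 3 (add_comm i 3 ▸ commutator_P_le (by omega) (by omega))).trans (P_anti (by omega)))
  have k2 : ¬ ⁅P G 2, P G 3⁆ ≤ P G 6 := fun e => h.not_P_succ_le (i := 2) le_rfl (by omega) (key 2 e)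
  have hne : C G (n - 2) ≠ P G 1 := fun e => k2 (h.commutator_P_le_succ' h4 e (a := 2) (b := 3) (by omega) (by omega))
  have := (h.exceptional h4 hne).2.1
  refine ⟨by_contra fun e => k2 (h.commutator_P_le_succ h4 (a := 2) (b := 3) (by omega) (by omega) (by omega)), rfl, hne⟩

end CL.MCD
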