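import Cfsg.Agent.FUS.MD.B2a

/-! # An element with a single Jordan block in a group with `O_p = 1` (variant of `CL.MCN.Ctx`) -/

set_option autoImplicit false

namespace CL.MCD

open Subgroup CL.Fus Module LinearMap Polynomial CL.MCN

/-- The linear situation: `ρ` is a faithful representation over `𝔽_p`, `T` a Sylow `p`-subgroup, `T = ⟨s⟩ T1`, `s` has a
single Jordan block, `C_{T1}(s) = ⟨z⟩` has order `p`, `T1` centralizes all the two-step quotients of the flag of `s` but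
possibly the last one, and `O_p(G) = 1`. -/
structure Ctx0 (p : ℕ) [Fact p.Prime] {G V : Type*} [Group G] [AddCommGroup V] [Module (ZMod p) V]
    (ρ : G →* Module.End (ZMod p) V) (T T1 : Subgroup G) (s z : G) : Prop where
  inj : Function.Injective ρ
  syl : CL.Fus.SylIn p T ⊤
  s_mem : s ∈ T
  le : T1 ≤ T
  conj : ∀ t ∈ T, ∀ u ∈ T1, t * u * t⁻¹ ∈ T1
  gen : ∀ t ∈ T, ∃ a : ℕ, ∃ u ∈ T1, t = s ^ a * u
  s_pow : s ^ p = 1
  z_mem : z ∈ T1
  z_ne : z ≠ 1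
  z_pow : z ^ p = 1
  comm : Commute z s
  cent : ∀ u ∈ T1, Commute u s → u ∈ Subgroup.zpowers z
  ker_le : finrank (ZMod p) (ker (ρ s - 1)) ≤ 1
  deg1 : ∀ t ∈ T, ∀ j, ∀ v ∈ range ((ρ s - 1) ^ j), (ρ t - 1) v ∈ range ((ρ s - 1) ^ (j + 1))
  deg2 : ∀ u ∈ T1, ∀ j, (ρ s - 1) ^ (j + 2) ≠ 0 → ∀ v ∈ range ((ρ s - 1) ^ j),
    (ρ u - 1) v ∈ range ((ρ s - 1) ^ (j + 2))
  degz : ∀ v, (ρ z - 1) v ∈ range ((ρ s - 1) ^ 2)
  np : ∀ N : Subgroup G, N.Normal → IsPGroup p N → N = ⊥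

namespace Ctx0
variable {p : ℕ} [Fact p.Prime] {G V : Type*} [Group G] [AddCommGroup V] [Module (ZMod p) V]
  {ρ : G →* Module.End (ZMod p) V} {T T1 : Subgroup G} {s z : G} (h : Ctx0 p ρ T T1 s z)
include h

theorem D_pow : (ρ s - 1) ^ p = 0 := by
  simpa [← map_pow, h.s_pow] using sub_one_pow (p := p) (ρ s) 1

theorem jb : Jb (ρ s - 1) := ⟨⟨p, h.D_pow⟩, h.ker_le⟩

theorem finrank_le [Module.Finite (ZMod p) V] : finrank (ZMod p) V ≤ p := h.jb.pow_eq_zero_iff.1 h.D_pow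

/-- an element acting unipotently is a `p`-element -/
theorem pow_eq_one_of_nil {x : G} (hx : IsNilpotent (ρ x - 1)) : ∃ j, x ^ p ^ j = 1 := by
  obtain ⟨N, hN⟩ := hx
  refine ⟨N, h.inj ?_⟩
  rw [map_pow, map_one, ← sub_eq_zero, ← sub_one_pow (p := p)]
  exact pow_eq_zero_of_le (Nat.lt_pow_self (Fact.out : p.Prime).one_lt).le hN

end Ctx0

namespace Ctx0
variable {p : ℕ} [hp : Fact p.Prime] {G V : Type*} [Group G] [AddCommGroup V] [Module (ZMod p) V]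
  {ρ : G →* Module.End (ZMod p) V} {T T1 : Subgroup G} {s z : G} (h : Ctx0 p ρ T T1 s z)
include h

theorem zT : z ∈ T := h.le h.z_mem

theorem Z_ne : ρ z - 1 ≠ 0 := fun e => h.z_ne (h.inj (by rwa [map_one, ← sub_eq_zero]))

theorem comm_ZD : Commute (ρ z - 1) (ρ s - 1) :=
  ((h.comm.map ρ).sub_left (Commute.one_left _)).sub_right (Commute.one_right _)

theorem mem_range {t : G} (ht : t ∈ T) {j : ℕ} {v : V} (hv : v ∈ range ((ρ s - 1) ^ j)) :
    ρ t v ∈ range ((ρ s - 1) ^ j) := by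
  simpa using add_mem (range_pow_succ_le _ _ (h.deg1 t ht j v hv)) hv

/-- the superdiagonal entry of an element of `T` -/
theorem exists_lam {t : G} (ht : t ∈ T) : ∃ c : ZMod p, (c = 0 → t ∈ T1) ∧ ∀ j, (ρ s - 1) ^ (j + 2) ≠ 0 →
    ∀ v ∈ range ((ρ s - 1) ^ j), (ρ t - 1) v - c • (ρ s - 1) v ∈ range ((ρ s - 1) ^ (j + 2)) := by
  obtain ⟨a, u, hu, rfl⟩ := h.gen t ht
  refine ⟨a, fun e => ?_, fun j hj v hv => ?_⟩
  · obtain ⟨b, rfl⟩ := (ZMod.natCast_eq_zero_iff a p).1 e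
    rwa [pow_mul, h.s_pow, one_pow, one_mul]
  · clear ht
    induction a with
    | zero => simpa using h.deg2 u hu j hj v hv
    | succ a ih =>
      have e : (ρ (s ^ (a + 1) * u) - 1) v - ((a + 1 : ℕ) : ZMod p) • (ρ s - 1) v =
          (ρ s - 1) ((ρ (s ^ a * u) - 1) v) + ((ρ (s ^ a * u) - 1) v - (a : ZMod p) • (ρ s - 1) v) := by
        rw [pow_succ', mul_assoc, map_mul]
        simp only [LinearMap.sub_apply, Module.End.mul_apply, Module.End.one_apply, map_sub, Nat.cast_add, Nat.cast_one,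
          add_smul, one_smul]
        abel
      rw [e]
      exact add_mem (apply_mem_range_pow (h.deg1 _ (mul_mem (pow_mem h.s_mem a) (h.le hu)) j v hv)) ih

theorem eq_zero_of_smul {j : ℕ} (hj : (ρ s - 1) ^ (j + 2) ≠ 0) {c : ZMod p}
    (hc : ∀ v ∈ range ((ρ s - 1) ^ j), c • (ρ s - 1) v ∈ range ((ρ s - 1) ^ (j + 2))) : c = 0 := by
  by_contra h0
  refine hj ?_
  rw [pow_succ, h.jb.eq_bot_of_le (j := j + 1) ?_, zero_mul]
  rintro _ ⟨v, rfl⟩
  rw [pow_succ' _ j, Module.End.mul_apply]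
  exact (Submodule.smul_mem_iff _ h0).1 (hc _ ⟨v, rfl⟩)

/-- consecutive diagonal entries of an element normalizing `T` -/
theorem ratio {k : G} (hk : k * s * k⁻¹ ∈ T) : ∃ c : ZMod p, ∀ j, (ρ s - 1) ^ (j + 2) ≠ 0 → ∀ μ μ' : ZMod p,
    (∀ v ∈ range ((ρ s - 1) ^ j), ρ k v - μ • v ∈ range ((ρ s - 1) ^ (j + 1))) →
    (∀ v ∈ range ((ρ s - 1) ^ (j + 1)), ρ k v - μ' • v ∈ range ((ρ s - 1) ^ (j + 2))) → μ' = c * μ := by
  obtain ⟨c, -, hc⟩ := h.exists_lam hk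
  refine ⟨c, fun j hj μ μ' h1 h2 => sub_eq_zero.1 (h.eq_zero_of_smul hj fun v hv => ?_)⟩
  have e : ρ k ((ρ s - 1) v) = (ρ (k * s * k⁻¹) - 1) (ρ k v) := by
    rw [← Module.End.mul_apply, ← Module.End.mul_apply, mul_sub, sub_mul, ← map_mul, ← map_mul, inv_mul_cancel_right,
      mul_one, one_mul]
  have k1 := h2 _ (apply_mem_range_pow hv)
  have k2 := h.deg1 _ hk _ _ (h1 v hv)
  have k3 := Submodule.smul_mem _ μ (hc j hj v hv)
  rw [e] at k1
  convert sub_mem (add_mem k2 k3) k1 using 1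
  rw [map_sub, map_smul]
  module

variable [Finite G]

theorem z_cent {t : G} (ht : t ∈ T) : Commute z t := by
  obtain ⟨y, hy, hy1, hc⟩ := exists_cent h.syl.isPGroup h.le (fun e => h.z_ne (mem_bot.1 (e ▸ h.z_mem))) h.conj
  obtain ⟨i, hi⟩ := mem_zpowers_of_mem h.z_pow (h.cent y hy (hc s h.s_mem)) hy1
  exact hi ▸ (hc t ht).zpow_left i

theorem comm_Z {t : G} (ht : t ∈ T) : Commute (ρ z - 1) (ρ t) := ((h.z_cent ht).map ρ).sub_left (Commute.one_left _)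

theorem exists_y (hne : T1 ≠ zpowers z) : ∃ y ∈ T1, y ∉ zpowers z ∧ ∃ e : ℕ, ¬ p ∣ e ∧ y * s * y⁻¹ = z ^ e * s := by
  obtain ⟨y, hy, hy', hc⟩ := exists_rel_cent h.syl.isPGroup h.le (lt_of_le_of_ne (zpowers_le.2 h.z_mem) hne.symm) h.conj
    fun t ht x hx => by
      obtain ⟨i, rfl⟩ := hx
      rw [← ((h.z_cent ht).zpow_left i).eq, mul_inv_cancel_right]
      exact ⟨i, rfl⟩
  obtain ⟨e, he⟩ := mem_powers_iff_mem_zpowers.2 (hc s h.s_mem)
  refine ⟨y, hy, hy', e, ?_, by rw [show z ^ e = _ from he, inv_mul_cancel_right]⟩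
  rintro ⟨b, rfl⟩
  simp only [pow_mul, h.z_pow, one_pow] at he
  exact hy' (h.cent y hy (commutatorElement_eq_one_iff_commute.1 he.symm))

variable [Module.Finite (ZMod p) V]

omit [Finite G] in
theorem exists_d : ∃ (d : ℕ) (g : (ZMod p)[X]), 2 ≤ d ∧ d < finrank (ZMod p) V ∧ g.coeff 0 ≠ 0 ∧
    ρ z - 1 = (ρ s - 1) ^ d * aeval (ρ s - 1) g ∧ range (ρ z - 1) = range ((ρ s - 1) ^ d) ∧
      ker (ρ z - 1) = range ((ρ s - 1) ^ (finrank (ZMod p) V - d)) := by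
  obtain ⟨d, g, hd, hg, e⟩ := h.jb.exists_pow_mul h.comm_ZD h.Z_ne
  have hu := (Module.End.isUnit_iff _).1 (h.jb.isUnit_aeval hg)
  have h1 : range (ρ z - 1) = range ((ρ s - 1) ^ d) := by
    rw [e, Module.End.mul_eq_comp, range_comp_of_range_eq_top _ (range_eq_top.2 hu.2)]
  have h2 : range ((ρ s - 1) ^ d) ≤ range ((ρ s - 1) ^ 2) := by
    rw [← h1]
    rintro _ ⟨v, rfl⟩
    exact h.degz v
  have h3 := Submodule.finrank_mono h2
  rw [h.jb.finrank_range_pow, h.jb.finrank_range_pow] at h3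
  refine ⟨d, g, by omega, hd, hg, e, h1, ?_⟩
  rw [e, (Commute.pow_left (semiconj_aeval (Commute.refl (ρ s - 1)) g) d).eq, Module.End.mul_eq_comp,
    ker_comp_of_ker_eq_bot _ (ker_eq_bot.2 hu.1), h.jb.ker_pow (Nat.add_sub_cancel' hd.le)]

/-- `z` is quadratic with `[V, z] < C_V(z)` -/
theorem le_two_mul (hne : T1 ≠ zpowers z) {d : ℕ} {g : (ZMod p)[X]} (h2 : 2 ≤ d) (hd : d < finrank (ZMod p) V)
    (hg : g.coeff 0 ≠ 0) (e : ρ z - 1 = (ρ s - 1) ^ d * aeval (ρ s - 1) g) : finrank (ZMod p) V + 1 ≤ 2 * d := by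
  obtain ⟨y, hy, -, a, ha, hc⟩ := h.exists_y hne
  obtain ⟨l, rfl⟩ : ∃ l, d = l + 1 := ⟨d - 1, by omega⟩
  obtain ⟨q, hq, hq0⟩ := comp_sub l g (g * (∑ i ∈ Finset.range a, (1 + X ^ (l + 1) * g) ^ i) * (1 + X))
  have e1 : aeval (ρ s - 1) (X ^ (l + 1) * g) = ρ z - 1 := by simp [e]
  have e2 : aeval (ρ s - 1) (1 + X ^ (l + 1) * g) = ρ z := by rw [map_add, e1, map_one, add_sub_cancel]
  have e3 : aeval (ρ s - 1) (X + X ^ (l + 1) * (g * (∑ i ∈ Finset.range a, (1 + X ^ (l + 1) * g) ^ i) * (1 + X))) =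
      ρ (y * s * y⁻¹) - 1 := by
    rw [← mul_assoc, ← mul_assoc, map_add, map_mul, map_mul, e1, map_sum, hc]
    simp only [map_pow, e2, mul_geom_sum, map_add, map_one, aeval_X, map_mul]
    noncomm_ring
  have e4 : SemiconjBy (ρ y) (ρ s - 1) (ρ (y * s * y⁻¹) - 1) := by
    rw [SemiconjBy, mul_sub, sub_mul, ← map_mul, ← map_mul, inv_mul_cancel_right, mul_one, one_mul]
  have e5 := (semiconj_aeval e4 (X ^ (l + 1) * g)).eq
  rw [← e3, ← aeval_comp, hq, map_add, e1, ← (h.comm_Z (h.le hy)).eq, add_mul, left_eq_add,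
    (Group.isUnit y).map ρ |>.mul_left_eq_zero, map_mul, map_pow, aeval_X,
    (h.jb.isUnit_aeval ?_).mul_left_eq_zero, h.jb.pow_eq_zero_iff] at e5
  · omega
  · rw [hq0]
    have := h.finrank_le
    have n1 : ((l + 1 : ℕ) : ZMod p) ≠ 0 := fun e => by
      have := Nat.le_of_dvd (by omega) ((ZMod.natCast_eq_zero_iff _ p).1 e)
      omega
    refine mul_ne_zero (mul_ne_zero n1 hg) ?_
    simpa [coeff_zero_eq_eval_zero, eval_finsetSum, ZMod.natCast_eq_zero_iff, ha] using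
      (coeff_zero_eq_eval_zero g ▸ hg)

end Ctx0

end CL.MCD
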