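import Cfsg.Agent.FUS.MD.St

/-! # `O_p(H)` is bad -/

set_option autoImplicit false

namespace CL.MCD

open Subgroup Cfsg Cfsg.FusionSystem CL.MaxCl CL.Fus
open scoped commutatorElement

universe u
variable {G : Type u} [Group G] [Finite G] {p n : ℕ} [hp : Fact p.Prime] {F : FusionSystem (⊤ : Subgroup G)}
  {H : Type*} [Group H] [Finite H] {Q T E : Subgroup G} {ι : G → H}

/-- `Q` is not normal (`Bad.nn`), so `T ≠ ⊤`. Let `R` be given by `closure_normal` for `X = E` (`Loc.not_pc`). `T ⊓ R ≤ E` by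
`Mp.mem_core` for the action `π` on `E` (`Loc.exists_act`, `Mp.not_isPGroup`) and `O = pCoreOf p (Aut_F(E))`.
If `n = 6` and `E ≤ P 3`: `P 3 ≤ C(Q) ≤ Q` (`six`), `Q = P 3` is normal. Otherwise `R` has index `p`; `E ≠ R` as
`E < T < ⊤`. If `R = P 1`: `T ≰ P 1`, so `T ≤ C` (`St.unif`), `P (n-2) ≤ C(Q) ≤ Q` (`C_last`), `normal_of_not_mem` makes `Q`
normal. If `R = C G 4`, `n = 6`: `E = P 2` (`normal_cases`, `|C : P 2| = p`), against `pc_P_two`. -/
theorem St.not_normal (h : St p n F Q T E ι) : ¬ E.Normal := by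
  intro hE
  have hG := h.bs.mc
  have h4 : 4 ≤ n := by have := h.bs.hn; omega
  have hQ : ¬ Q.Normal := h.bad.nn Q (isConj_refl F le_top)
  have hT : T ≠ ⊤ := fun e => hQ (normalizer_eq_top_iff.1 (h.norm.trans e))
  have hi : E.index ≠ p := fun e => hT ((CL.PG.isCoatom_of_index_eq_prime hp.out e).2 T h.lt)
  have nc : ¬ IsPClosed p (F.autGroup E) := h.not_pc fun a ha _ => ha
  obtain ⟨R, hER, -, hR, -, -, hext, hc⟩ := closure_normal hG h.bs.hn h.bs.five h.bs.sat
    (isCentric_of_le h.bad.cen h.QE le_top) nc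
  obtain ⟨π, h1, -, h2, h3⟩ := h.exists_act h.le (by rw [h.core]; infer_instance)
  have hTR : ∀ t ∈ T, t ∈ R → t ∈ E := fun t ht htR => by
    obtain ⟨a, ha, e⟩ := (hR t).1 htR
    refine (h.mem_iff ht).1 (h.mp.mem_core π (h.mp.not_isPGroup π (by rw [h3, h.core]; exact h.mp.cent))
      (isPGroup_map_pCore _) (h1.trans (le_normalizer_map_pCore _)) (mem_img_of_mem ι ht) ?_)
    rwa [mulAut_ext_autFun fun x hx => (h2 t ht hx).trans (e hx).symm]
  have hcQ := cent_le h.bad.cen
  have k3 : n = 6 → C G 4 ≠ P G 1 → ¬ E ≤ P G 3 := fun h6 hne e => by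
    subst h6
    have := (six hG hne).2.2.2.1.ge.trans ((centralizer_le (h.QE.trans e)).trans hcQ)
    exact hQ (le_antisymm (h.QE.trans e) this ▸ inferInstance)
  rcases hc with rfl | ⟨rfl, hne, rfl | rfl⟩
  · have hT1 : ¬ T ≤ P G 1 := fun e => h.lt.not_ge fun t ht => hTR t ht (e ht)
    obtain ⟨y, hy, hy'⟩ := SetLike.not_le_iff_exists.1 hT1
    have hC := h.unif.resolve_left hT1
    rw [hG.C_last h4] at hC
    exact hQ (normal_of_not_mem hG h4 (h.QE.trans hER)
      ((le_centralizer_iff.1 ((h.QE.trans h.le).trans hC)).trans hcQ) hy' (h.norm.ge hy))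
  · rcases normal_cases' hG h4 E with e | ⟨i, h2, -, rfl⟩ | rfl | rfl | e
    · exact h.lt.ne_top e
    · by_cases e : i = 2
      · subst e
        refine nc (pc_P_two hG hne fun a ha => ?_)
        obtain ⟨g, hg, hm, e⟩ := hext _ ((mem_autGroup_iff le_top).1 ha) fun x hx => autFun_mem a hx
        exact ⟨g, hg.isHomOn, hm, e⟩
      · exact k3 rfl hne (P_anti (by omega))
    · exact hi (by rw [hG.index_P' h4 (by omega), pow_one])
    · exact hi (hG.index_C (by omega) (by omega))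
    · exact hi e.1
  · exact k3 rfl hne hER

/-- `E ≥ Q` is centric, `Loc.not_pc`, `St.unif`. If `E` is conjugate to a normal `E'`, there is `φ` on `N(E) ≥ T` with
`φ E = E'` (`exists_mor_normalizer_of_fullyNormalized`); `St.conj`, `St.not_normal`. Finally `T ≤ N(E)` (`Loc.mem_iff`) with
equality by `Bs.max`. -/
theorem St.self (h : St p n F Q T E ι) : St p n F E T E ι := by
  have hG := h.bs.mc
  have hn : T ≤ normalizer (E : Set G) := fun t ht => mem_normalizer_of_cj_mem fun x hx => by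
    rw [← h.mem_iff (cj_mem ht (h.le hx)), h.hom.map_cj ht (h.le hx)]
    exact Normal.conj_mem inferInstance _ ((h.mem_iff (h.le hx)).2 hx) _
  have hb : Bad p n F E := by
    refine ⟨isCentric_of_le h.bad.cen h.QE le_top, h.not_pc fun a ha _ => ha, fun E' hc hE' => ?_, fun s hs hu => ?_⟩
    · obtain ⟨φ, hφ, rfl⟩ := exists_mor_normalizer_of_fullyNormalized (pTop hG) h.bs.sat
        (fullyNormalized_of_normal F le_top (normalizer_eq_top E').ge) hc
      have hφ' := hφ.mono (normalizerIn_top E ▸ hn)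
      obtain ⟨φ', -, hi, -⟩ := hφ'.exists_inv
      exact (h.conj hφ' hi).not_normal hE'
    · exact h.unif.elim (fun e => hu.1 (e (h.le hs))) fun e => hu.2 (e (h.le hs))
  exact ⟨h.toLoc, h.bs, hb, (eq_of_le_of_card_ge (S := ⊤) hn le_top (h.bs.max E hb)).symm, le_rfl⟩

end CL.MCD
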