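import Cfsg.Agent.FUS.MD.St
import Cfsg.Agent.FUS.OpPrimeNormal

/-! # `O^p(H)` centralizes the subgroups normal in `H` and in a larger subgroup of `G` -/

set_option autoImplicit false
set_option linter.unusedSectionVars false

namespace CL.MCD

open Subgroup Cfsg Cfsg.FusionSystem CL.MaxCl CL.Fus
open scoped commutatorElement

universe u
variable {G : Type u} [Group G] [Finite G] {p n : ℕ} [hp : Fact p.Prime] {F : FusionSystem (⊤ : Subgroup G)}
  {H : Type*} [Group H] [Finite H] {T E K T' : Subgroup G} {ι : G → H}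

/-- For a morphism `f` on `X = K ⊔ C(K)`: `f C(K) = C(f K)` (`Mor.img_centralizerIn_eq`), so `C(f X) ≤ C(f K) ≤ f X`. -/
theorem centric_sup {K : Subgroup G} (hK : F.IsFullyCentralized K) : F.IsCentric (K ⊔ centralizer (K : Set G)) := by
  refine isCentric_iff.2 ⟨le_top, fun f hf => (centralizerIn_anti ⊤ (img_mono f le_sup_left)).trans ?_⟩
  rw [← hf.img_centralizerIn_eq hK le_sup_left ((centralizerIn_top K).le.trans le_sup_right), centralizerIn_top]
  exact img_mono f le_sup_right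

/-- `exists_extend_centralizer_of_receptive`; the extension maps `C(K)` into `C(K)`. -/
theorem extend_sup (hG : IsPGroup p G) (hF : F.IsSaturated p) {K : Subgroup G} (hK : F.IsFullyCentralized K)
    {a : MulAut K} (ha : a ∈ F.autGroup K) : ∃ g, Mor F (K ⊔ centralizer (K : Set G)) g ∧
      (∀ x ∈ K ⊔ centralizer (K : Set G), g x ∈ K ⊔ centralizer (K : Set G)) ∧ Set.EqOn g (autFun a) K := by
  obtain ⟨g, hg, e⟩ := exists_extend_centralizer_of_receptive
    (receptive_of_fullyCentralized (hG.to_subgroup ⊤) hF hK) (mor_autFun le_top ha) (img_autFun a)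
  rw [centralizerIn_top] at hg
  have e1 : img g K = K := (img_congr e).trans (img_autFun a)
  refine ⟨g, hg, img_le_iff.1 ?_, e⟩
  rw [hg.img_sup le_sup_left le_sup_right, e1]
  refine sup_le_sup_left (img_le_iff.2 fun x hx => ?_) _
  have := hg.map_mem_centralizer le_sup_left (mem_sup_right hx) hx
  rwa [e1] at this

theorem not_pc_sup (hG : IsPGroup p G) (hF : F.IsSaturated p) {K : Subgroup G} (hK : F.IsFullyCentralized K)
    (nc : ¬ IsPClosed p (F.autGroup K)) : ¬ IsPClosed p (F.autGroup (K ⊔ centralizer (K : Set G))) :=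
  fun e => nc (pc_of_extend le_sup_left (fun _ ha => extend_sup hG hF hK ha) e)

theorem not_isPGroup_range {Γ : Type*} [Group Γ] (π : H →* Γ) {x : H} (hx : (orderOf x).Coprime p) (hk : x ∉ π.ker) :
    ¬ IsPGroup p π.range := fun e => by
  obtain ⟨k, hk'⟩ := e ⟨π x, x, rfl⟩
  have h1 : π x ^ p ^ k = 1 := congrArg Subtype.val hk'
  have h2 : π x ^ orderOf x = 1 := by rw [← map_pow, pow_orderOf_eq_one, map_one]
  have h3 := pow_gcd_eq_one.2 ⟨h2, h1⟩
  rw [(hx.pow_right k).gcd_eq_one, pow_one] at h3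
  exact hk h3

/-- Suppose not; let `π` be the action of `H` on `K` (`Loc.exists_act`); its range is not a `p`-group, so `Aut_F(K)`
(`Mp.not_pc`) and `Aut_F(X)` (`pc_of_extend`, `extend_sup`) are not `p`-closed, `X = K ⊔ C(K)`. Let `R` be given by
`closure_normal`. `T ⊓ R ≤ E` by `Mp.mem_core` with `O = resSub _ (pCoreOf p (Aut_F(X)) ⊓ stabAut X K)`, a `p`-group
normalized by `Aut_F(K)` (`extend_sup`). `N(E) ⊓ (R ⊔ E) = (T ⊓ R) E = E`, so `R ≤ E` (normalizers grow in `R ⊔ E`).
If `R` has index `p`, `E = R` (`E < T`) is normal, against `Bad.nn`. Otherwise `n = 6`, `R = P 3 < E < T ≤ P 1` or `C`, so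
`|E| = p⁴`, `|T| = p⁵`, `T' = ⊤`, `K` is normal; `K ≤ X ≤ P 3 = C(P 3)` (`six`); `K = P i` (`normal_cases`), and `i = 3` since
`C(K) ≤ P 3` but `C(P 4) = C` (`C_last`). So the automorphisms of `E` induced by `H` leave `P 3 = K` invariant:
`pc_of_abelian` for `Aut_F(E) ⊓ stabAut E K` against `Loc.not_pc`. -/
theorem St.cent_of_normal (h : St p n F E T E ι) (hK : K ≤ E) (hn : (img ι K).Normal) (hT : T < T')
    (hT' : T' ≤ normalizer (K : Set G)) (hc : F.IsFullyCentralized K) (hX : (K ⊔ centralizer (K : Set G)).Normal)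
    {x : H} (hx : (orderOf x).Coprime p) : x ∈ centralizer (img ι K : Set H) := by
  by_contra hx'
  have mc := h.bs.mc
  have h5 := h.bs.hn
  have h4 : 4 ≤ n := by omega
  have hG := mc.isPGroup
  have hKT := hK.trans h.le
  obtain ⟨π, h1, h2, h3, h4'⟩ := h.exists_act hKT hn
  have np := not_isPGroup_range π hx (h4' ▸ hx')
  obtain ⟨R, XR, nR, mR, -, -, -, cR⟩ := closure_normal mc h5 h.bs.five h.bs.sat (centric_sup hc)
    (not_pc_sup hG h.bs.sat hc fun e => h.mp.not_pc π np (CL.MSS.isPClosed_of_le e h1))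
  have TR : ∀ t ∈ T, t ∈ R → t ∈ E := fun t ht htR => by
    obtain ⟨a, ha, e⟩ := (mR t).1 htR
    refine (h.mem_iff ht).1 (h.mp.mem_core π np (isPGroup_resSub (le_sup_left : K ≤ K ⊔ centralizer (K : Set G))
      (CL.MSS.pcoreOf_isPGroup (F.autGroup _))) (fun β hβ => mem_normalizer_fintype fun γ hγ => ?_) (mem_img_of_mem ι ht)
      (mem_resSub.2 ⟨a, ha, fun y hy => (e (mem_sup_left hy)).trans (h3 t ht hy).symm⟩))
    obtain ⟨α, hα, e1⟩ := mem_resSub.1 hγ
    obtain ⟨g, hg, gm, e2⟩ := extend_sup hG h.bs.sat hc (h1 hβ)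
    obtain ⟨b, hb, e3⟩ := hg.exists_aut (eq_of_le_of_card_ge (img_le_iff.2 gm) hg.card_img.ge)
    refine mem_resSub.2 ⟨b * α * b⁻¹, (mem_normalizer_iff.1 (CL.MSS.le_normalizer_pcoreOf _ hb) α).1 hα, fun y hy => ?_⟩
    have k1 := autFun_mem β⁻¹ hy
    have k2 : autFun b⁻¹ y = autFun β⁻¹ y := by
      rw [← autFun_inv_autFun b (mem_sup_left k1), e3 (mem_sup_left k1), e2 k1, autFun_autFun_inv β hy]
    have k3 := autFun_mem γ k1
    rw [autFun_mul _ _ (mem_sup_left hy), autFun_mul _ _ hy, k2, autFun_mul _ _ (mem_sup_left k1), autFun_mul _ _ k1, e1 k1,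
      e3 (mem_sup_left k3), e2 k3]
  have RE : R ≤ E := by
    by_contra e
    obtain ⟨y, hy, hyn, hyE⟩ := exists_mem_normalizer_not_mem_of_not_le (pTop mc) le_top le_top
      (le_normalizer_of_normal (K := E)) e
    exact hyE (TR y (h.norm.le hyn) hy)
  have nE : ¬ E.Normal := h.bad.nn E (isConj_refl F le_top)
  have ET := h.toLoc.lt
  have k1 : R.index ≠ p := fun e => nE (((CL.PG.isCoatom_of_index_eq_prime hp.out e).le_iff.1 RE).elim
    (fun e' => (ET.trans_le le_top).ne e' |>.elim) fun e' => e' ▸ nR)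
  rcases cR with rfl | ⟨rfl, hne, rfl | rfl⟩
  · exact k1 (by rw [mc.index_P' h4 (by omega), pow_one])
  · exact k1 (mc.index_C (by norm_num) (by norm_num))
  have p0 := hp.out.pos
  have c3 : Nat.card (P G 3) = p ^ 3 := mc.card_P' h4 rfl
  have l1 := CL.MC.mul_card_le_of_lt hG (RE.lt_of_ne fun e => nE (e ▸ nR))
  have l2 := CL.MC.mul_card_le_of_lt hG ET
  have l3 := CL.MC.mul_card_le_of_lt hG hT
  have l4 := T'.card_le_card_group
  rw [c3, ← pow_succ'] at l1
  rw [mc.card] at l4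
  have l5 : p * (p * Nat.card E) ≤ Nat.card T' := (Nat.mul_le_mul_left p l2).trans l3
  have cE : Nat.card E = p ^ 4 := le_antisymm (Nat.le_of_mul_le_mul_left (Nat.le_of_mul_le_mul_left
    ((l5.trans l4).trans (by rw [← pow_succ', ← pow_succ'])) p0) p0) l1
  have eT : T' = ⊤ := eq_top_of_le_card _ (by
    rw [mc.card]
    rw [cE, ← pow_succ', ← pow_succ'] at l5
    exact l5)
  have nK : K.Normal := normalizer_eq_top_iff.1 (eq_top_iff.2 (eT.ge.trans hT'))
  have n23 : ¬ P G 2 ≤ P G 3 := mc.not_P_succ_le le_rfl (by norm_num)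
  obtain rfl : K = P G 3 := by
    rcases mc.normal_cases h4 K with e | ⟨i, i1, -, e⟩
    · exact (n23 (e.trans (le_sup_left.trans XR))).elim
    by_cases i3 : i = 3
    · rw [e, i3]
    have cl : C G 4 = centralizer (P G 4 : Set G) := by simpa only [Nat.reduceSub] using mc.C_last h4
    exact (n23 ((P_two_le_C (i := 4) (by norm_num)).trans (cl.le.trans ((centralizer_le
      (e.le.trans (P_anti (show 4 ≤ i by omega)))).trans (le_sup_right.trans XR))))).elim
  refine h.not_pc (A := stabAut E (P G 3)) (fun a _ ⟨g, hg⟩ => mem_stabAut_of_finite hK fun y hy => ?_)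
    (pc_of_abelian hK cE c3 (six mc hne).2.2.2.1 fun α hα y hy hA => (hα y hy).2 hA)
  have k2 := hn.conj_mem _ (mem_img_of_mem ι hy) g
  rw [← hg y (hK hy)] at k2
  obtain ⟨z, hz, e⟩ := (h.hom.mono hKT).mem_img.1 k2
  rwa [← h.inj (hKT hz) (h.le (autFun_mem a (hK hy))) e]

theorem St.move (h : St p n F E T E ι) (hK : K ≤ E) (hT : T < T') (hT' : T' ≤ normalizer (K : Set G)) {D : Subgroup G}
    {φ : G → G} (hφ : Mor F D φ) (hD : T' ≤ D) : ∃ ι' : G → H, St p n F (img φ E) (img φ T) (img φ E) ι' ∧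
      img φ K ≤ img φ E ∧ img ι' (img φ K) = img ι K ∧ img φ T < img φ T' ∧ img φ T' ≤ normalizer (img φ K : Set G) := by
  obtain ⟨φ', -, hi, -⟩ := hφ.exists_inv
  have TD := hT.le.trans hD
  have KD := (hK.trans h.le).trans TD
  refine ⟨ι ∘ φ', h.conj (hφ.mono TD) fun x hx => hi x (TD hx), img_mono φ hK, ?_, hφ.img_lt_img hD hT,
    img_le_iff.2 fun x hx => hφ.map_mem_normalizer KD (hD hx) (hT' hx)⟩
  rw [← (hφ.mono KD).isHomOn.img_comp]
  exact img_congr fun x hx => congrArg ι (hi x (KD hx))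

theorem St.cent_of_fc (h : St p n F E T E ι) (hK : K ≤ E) (hn : (img ι K).Normal) (hT : T < T')
    (hT' : T' ≤ normalizer (K : Set G)) (hc : F.IsFullyCentralized K) {x : H} (hx : (orderOf x).Coprime p) :
    x ∈ centralizer (img ι K : Set H) := by
  by_contra hx'
  have mc := h.bs.mc
  obtain ⟨π, h1, -, -, h4⟩ := h.exists_act (hK.trans h.le) hn
  have hN : T' ≤ normalizer ((K ⊔ centralizer (K : Set G) : Subgroup G) : Set G) :=
    (le_inf hT' (CL.Fus.le_normalizer_centralizer hT')).trans (normalizer_inf_normalizer_le_normalizer_sup _ _)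
  obtain ⟨ψ, hψ, nX⟩ := h.bs.normal (centric_sup hc) (not_pc_sup mc.isPGroup h.bs.sat hc fun e =>
    h.mp.not_pc π (not_isPGroup_range π hx (h4 ▸ hx')) (CL.MSS.isPClosed_of_le e h1))
    (lt_of_not_ge fun e => (hT.trans_le hN).ne (eq_of_le_of_card_ge (hT.le.trans hN) e))
  obtain ⟨ι', h', k1, k2, k3, k4⟩ := h.move hK hT hT' hψ hN
  have l1 : K ≤ normalizer ((K ⊔ centralizer (K : Set G) : Subgroup G) : Set G) := le_sup_left.trans le_normalizer
  have l2 : centralizer (K : Set G) ≤ normalizer ((K ⊔ centralizer (K : Set G) : Subgroup G) : Set G) :=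
    le_sup_right.trans le_normalizer
  have l3 := (centralizerIn_top K).le.trans l2
  have e := hψ.img_centralizerIn_eq hc l1 l3
  rw [centralizerIn_top, centralizerIn_top] at e
  rw [hψ.img_sup l1 l2, e] at nX
  rw [← k2] at hn hx'
  exact hx' (h'.cent_of_normal k1 hn k3 k4 (hψ.fullyCentralized_img hc l1 l3) nX hx)

/-- Conjugate by `φ` on `N(K) ≥ T'` (`exists_mor_normalizer_fullyNormalized`, `St.conj`; `img (ι ∘ φ') (img φ K) = img ι K`) to
make `K` fully normalized. If `x` does not centralize, `X = K ⊔ C(K)` is centric (`centric_sup`) with non-`p`-closed automizer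
and `N(X) ≥ T' > T`, so `Bs.normal` gives `ψ` on `N(X) ≥ T' ⊔ X` with `ψ X = ψ K ⊔ C(ψ K)` normal
(`Mor.img_centralizerIn_eq`, `Mor.fullyCentralized_img`); conjugate again and apply `cent_of_normal`. -/
theorem St.cent (h : St p n F E T E ι) (hK : K ≤ E) (hn : (img ι K).Normal) (hT : T < T')
    (hT' : T' ≤ normalizer (K : Set G)) {x : H} (hx : (orderOf x).Coprime p) : x ∈ centralizer (img ι K : Set H) := by
  have mc := h.bs.mc
  obtain ⟨φ, hφ, hf⟩ := exists_mor_normalizer_fullyNormalized (pTop mc) h.bs.sat (le_top : K ≤ ⊤)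
  rw [normalizerIn_top] at hφ
  obtain ⟨ι', h', k1, k2, k3, k4⟩ := h.move hK hT hT' hφ hT'
  rw [← k2] at hn ⊢
  exact h'.cent_of_fc k1 hn k3 k4 (fullyCentralized_of_fullyNormalized (pTop mc) h.bs.sat hf) hx

end CL.MCD
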