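import Cfsg.Agent.FUS.MD.PG
import Cfsg.Agent.FUS.NormalSub

/-! # `p`-closed groups of automorphisms -/

set_option autoImplicit false

namespace CL.MCD

open Subgroup Cfsg CL.MaxCl CL.Fus
open scoped commutatorElement

variable {G : Type*} [Group G] {p n : ℕ} [hp : Fact p.Prime]

omit hp in
theorem hom_comm {T M N : Subgroup G} {g : G → G} (hg : IsHomOn T g) (hM : M ≤ T) (hN : N ≤ T) (h1 : ∀ x ∈ M, g x ∈ M)
    (h2 : ∀ x ∈ N, g x ∈ N) : ∀ x ∈ ⁅M, N⁆, g x ∈ ⁅M, N⁆ :=
  img_le_iff.1 (by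
    rw [hg.img_commutator hM hN]
    exact commutator_mono (img_le_iff.2 h1) (img_le_iff.2 h2))

omit hp in
theorem autInv_comm {E M N : Subgroup G} {A : Subgroup (MulAut E)} (hM : M ≤ E) (hN : N ≤ E) (h1 : AutInv A M)
    (h2 : AutInv A N) : AutInv A ⁅M, N⁆ := fun α hα y _ =>
  hom_comm (isHomOn_autFun α) hM hN (fun x hx => h1 α hα x (hM hx) hx) (fun x hx => h2 α hα x (hN hx) hx) y

omit hp in
theorem autInv_cs {E M B : Subgroup G} [B.Normal] {A : Subgroup (MulAut E)} (hM : M ≤ E) (h : AutInv A M)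
    (hB : AutInv A B) : AutInv A (cs M B) := fun α hα y hy hc => mem_cs.2 fun m hm => by
  have h1 := autFun_mem α⁻¹ (hM hm)
  rw [← autFun_autFun_inv α (hM hm), ← (isHomOn_autFun α).map_commutator hy h1]
  exact hB α hα _ (E.mul_mem (E.mul_mem (E.mul_mem hy h1) (E.inv_mem hy)) (E.inv_mem h1))
    (mem_cs.1 hc _ (h _ (inv_mem hα) m (hM hm) hm))

omit hp in
theorem relIndex_dvd_of_card {A B : Subgroup G} [Finite B] (h : A ≤ B) (hc : Nat.card B = p * Nat.card A) :
    A.relIndex B ∣ p := by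
  have k := (A.subgroupOf B).index_mul_card
  have k0 : 0 < Nat.card (A.subgroupOf B) := Nat.card_pos
  rw [Nat.card_congr (subgroupOfEquivOfLe h).toEquiv] at k k0
  exact (Nat.eq_of_mul_eq_mul_right k0 (k.trans hc)).dvd

theorem triv_step {R M B : Subgroup G} [Finite R] (hB : B ≤ R) (hMB : M ≤ B) (hi : M.relIndex B ∣ p) {β : MulAut R}
    {k : ℕ} (hk : β ^ p ^ k = 1) (iM : ∀ y ∈ M, autFun β y ∈ M) (iB : ∀ y ∈ B, autFun β y ∈ B) {y : G} (hy : y ∈ B) :
    y⁻¹ * autFun β y ∈ M := by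
  classical
  have : Finite B := finite_of_le hB
  let g : B → B := fun y => ⟨autFun β y, iB y y.2⟩
  let f : Function.End (B ⧸ M.subgroupOf B) := Quotient.map' g fun a b hab => by
    rw [QuotientGroup.leftRel_apply, mem_subgroupOf] at hab ⊢
    have := iM _ hab
    rwa [coe_mul, coe_inv, (isHomOn_autFun β).map_mul (inv_mem (hB a.2)) (hB b.2), (isHomOn_autFun β).map_inv (hB a.2)]
      at this
  have hf : ∀ (j : ℕ) (y : B), ∃ z : B, (f ^ j) y = z ∧ (z : G) = autFun (β ^ j) y := fun j y => by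
    induction j with
    | zero => exact ⟨y, rfl, by rw [pow_zero, autFun_one (hB y.2)]⟩
    | succ j ih =>
      obtain ⟨z, h1, h2⟩ := ih
      refine ⟨g z, ?_, by rw [pow_succ', autFun_mul _ _ (hB y.2), ← h2]⟩
      rw [pow_succ']
      change f ((f ^ j) y) = _
      rw [h1]
      rfl
  have hf1 : f ^ p ^ k = 1 := funext fun q => by
    obtain ⟨y, rfl⟩ := QuotientGroup.mk_surjective q
    obtain ⟨z, h1, h2⟩ := hf (p ^ k) y
    rw [hk, autFun_one (hB y.2)] at h2
    rw [h1, Subtype.ext h2]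
    rfl
  have := Fintype.ofFinite (B ⧸ M.subgroupOf B)
  have h1 := Equiv.Perm.card_fixedPoints_modEq hf1
  have h2 : 0 < Fintype.card f.fixedPoints := Fintype.card_pos_iff.2 ⟨⟨((1 : B) : B ⧸ M.subgroupOf B), by
    change ((g 1 : B) : B ⧸ M.subgroupOf B) = (1 : B)
    rw [show g 1 = 1 from Subtype.ext (isHomOn_autFun β).map_one]⟩⟩
  have h3 : Fintype.card f.fixedPoints ≤ Fintype.card (B ⧸ M.subgroupOf B) := Fintype.card_subtype_le _
  have h4 : Fintype.card (B ⧸ M.subgroupOf B) ∣ p := by rwa [← Nat.card_eq_fintype_card]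
  have h5 : Fintype.card f.fixedPoints = Fintype.card (B ⧸ M.subgroupOf B) := by
    rcases (Nat.dvd_prime hp.out).1 h4 with e | e
    · omega
    · rw [e] at h1 h3 ⊢
      exact le_antisymm h3 (Nat.le_of_dvd h2 ((Nat.modEq_zero_iff_dvd.1 (h1.symm.trans (Nat.modEq_zero_iff_dvd.2 dvd_rfl)))))
  have h6 : ((⟨y, hy⟩ : B) : B ⧸ M.subgroupOf B) ∈ f.fixedPoints := by
    rw [Set.eq_univ_iff_forall.1 ((set_fintype_card_eq_univ_iff _).1 h5) _ |> eq_true]
    trivial
  exact mem_subgroupOf.1 (QuotientGroup.eq.1 (show ((⟨y, hy⟩ : B) : B ⧸ M.subgroupOf B) = (g ⟨y, hy⟩ : B) from h6.symm))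

/-- `CL.MSS.isPClosed_iff`: a `p`-element `β ∈ A` acts trivially on every factor (a subgroup of index dividing `p` of a
`p`-group is normal; `CL.EssSm.triv_of_relIndex_dvd` or a direct count), so `β ∈ O_p(A)` by `CL.Fus.mem_pCore_of_chain`. -/
theorem pc_of_chain {R : Subgroup G} [Finite R] (hR : IsPGroup p R) {A : Subgroup (MulAut R)} (X : ℕ → Subgroup G)
    (m : ℕ) (h0 : X 0 = R) (hm : X m = ⊥) (hle : ∀ i, X (i + 1) ≤ X i) (hi : ∀ i, (X (i + 1)).relIndex (X i) ∣ p)
    (hA : ∀ i, AutInv A (X i)) : IsPClosed p A := by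
  have hXR : ∀ i, X i ≤ R := fun i => by
    induction i with
    | zero => exact h0.le
    | succ i ih => exact (hle i).trans ih
  refine CL.MSS.isPClosed_iff.2 fun Q hQ pQ β hβ => mem_pCore_of_chain hR (hQ hβ) h0.ge ?_
  obtain ⟨k, hk⟩ := pQ ⟨β, hβ⟩
  have key : ∀ i, i ≤ m → Relation.ReflTransGen (StabStep p A β) ⊥ (X (m - i)) := fun i => by
    induction i with
    | zero => exact fun _ => by rw [Nat.sub_zero, hm]
    | succ i ih =>
      intro hi'
      have e : m - i = m - (i + 1) + 1 := by omega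
      refine (ih (by omega)).tail (Or.inl ⟨hA _, hA _, fun y _ hy => ?_⟩)
      rw [e]
      exact triv_step (hXR _) (hle _) (hi _) (congrArg Subtype.val hk) (fun y hy => hA _ β (hQ hβ) y (hXR _ hy) hy)
        (fun y hy => hA _ β (hQ hβ) y (hXR _ hy) hy) hy
  simpa using key m le_rfl

/-- Let `y ∈ E \ A`, `E = A ⟨y⟩`; `a ↦ ⁅a, y⁆` is an endomorphism of `A` with image `U = ⁅A, E⁆ ≠ 1` and kernel
`D = A ⊓ C(E) ≠ 1`, `|U| |D| = p³`. If `|U| = p`, then `U ≤ D` (normal of order `p`), chain `E > A > D > U > 1`; otherwise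
`|D| = p`, `D ⊓ U ≠ 1` (`U` is a non-trivial normal subgroup of `E`), chain `E > A > U > D > 1`. -/
theorem pc_of_abelian {E A : Subgroup G} [Finite E] (hAE : A ≤ E) (hE : Nat.card E = p ^ 4) (hA : Nat.card A = p ^ 3)
    (hc : centralizer (A : Set G) = A) {𝒜 : Subgroup (MulAut E)} (hi : AutInv 𝒜 A) : IsPClosed p 𝒜 := by
  have p0 := hp.out.pos
  have p1 := hp.out.one_lt
  have hV : IsPGroup p E := IsPGroup.of_card hE
  set B := A.subgroupOf E with hB
  have cB : Nat.card B = p ^ 3 := by rw [hB, Nat.card_congr (subgroupOfEquivOfLe hAE).toEquiv, hA]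
  have cc : ∀ x : E, (∀ b ∈ B, b * x = x * b) ↔ x ∈ B := fun x =>
    ⟨fun h => hc.le fun a ha => congrArg Subtype.val (h ⟨a, hAE ha⟩ ha), fun hx b hb => Subtype.ext (hc.ge hx b hb)⟩
  obtain ⟨y, -, hy⟩ := SetLike.exists_of_lt (show B < ⊤ from lt_top_iff_ne_top.2 fun e => by
    rw [e, card_top, hE] at cB
    exact absurd (Nat.pow_right_injective p1 cB) (by norm_num))
  have top : ⊤ = B ⊔ zpowers y := eq_sup_zpowers hV le_top (mem_top y) hy (by rw [card_top, hE, cB, ← pow_succ'])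
  have iB : B.index = p := by
    have := B.card_mul_index
    rw [cB, hE, pow_succ p 3] at this
    exact Nat.eq_of_mul_eq_mul_left (pow_pos p0 3) this
  have nB : B.Normal := CL.PN.normal_of_index_eq_prime hV B iB
  have cm1 : ∀ a ∈ B, ∀ g : E, ⁅a, g⁆ ∈ B := fun a ha g => by
    rw [commutatorElement_def, mul_assoc, mul_assoc, ← mul_assoc g]
    exact mul_mem ha (nB.conj_mem _ (inv_mem ha) g)
  let φ : B →* E := MonoidHom.mk' (fun a => ⁅(a : E), y⁆) fun a b => by
    have e1 := (cc _).2 (cm1 b b.2 y) a a.2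
    have e2 := (cc _).2 (cm1 b b.2 y) _ (cm1 a a.2 y)
    calc ⁅((a * b : B) : E), y⁆ = a * ⁅(b : E), y⁆ * (a : E)⁻¹ * ⁅(a : E), y⁆ := by
          simp only [coe_mul, commutatorElement_def]; group
      _ = _ := by rw [e1, mul_inv_cancel_right, e2]
  have rB : φ.range ≤ B := by
    rintro _ ⟨a, rfl⟩
    exact cm1 a a.2 y
  have nU : φ.range.Normal := by
    rw [← normalizer_eq_top_iff, eq_top_iff, top]
    refine sup_le (fun b hb => mem_normalizer_fintype ?_) (zpowers_le.2 (mem_normalizer_fintype ?_))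
    · intro u hu
      rwa [(cc _).2 (rB hu) b hb, mul_inv_cancel_right]
    · rintro _ ⟨a, rfl⟩
      refine ⟨⟨y * a * y⁻¹, nB.conj_mem _ a.2 y⟩, ?_⟩
      simp only [φ, MonoidHom.mk'_apply, commutatorElement_def]
      group
  have eU : φ.range = ⁅B, ⊤⁆ := by
    refine le_antisymm ?_ (commutator_le.2 fun a ha g hg => mem_cm.1 ?_)
    · rintro _ ⟨a, rfl⟩
      exact commutator_mem_commutator a.2 (mem_top y)
    · refine (sup_le (fun b hb => mem_cm.2 ?_) (zpowers_le.2 (mem_cm.2 ⟨⟨a, ha⟩, rfl⟩)) : _ ≤ cm a φ.range) (top.le hg)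
      rw [commutatorElement_eq_one_iff_mul_comm.2 ((cc b).2 hb a ha)]
      exact one_mem _
  have ZB : center E ≤ B := fun z hz => (cc z).1 fun b _ => mem_center_iff.1 hz b
  have eK : φ.ker = (center E).subgroupOf B := by
    ext a
    rw [MonoidHom.mem_ker, mem_subgroupOf]
    refine ⟨fun h => mem_center_iff.2 fun g => mem_centralizer_singleton_iff.1 ((sup_le (fun b hb =>
      mem_centralizer_singleton_iff.2 ((cc a).2 a.2 b hb)) (zpowers_le.2 (mem_centralizer_singleton_iff.2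
        (commutatorElement_eq_one_iff_mul_comm.1 h).symm)) : _ ≤ centralizer {(a : E)}) (top.le (mem_top g))), fun h =>
      commutatorElement_eq_one_iff_mul_comm.2 (mem_center_iff.1 h y).symm⟩
  have cK : Nat.card (center E) * Nat.card φ.range = p ^ 3 := by
    rw [← cB, ← φ.ker.card_mul_index, index_ker, eK, Nat.card_congr (subgroupOfEquivOfLe ZB).toEquiv]
  have U1 : φ.range ≠ ⊥ := fun e => hy ((cc y).1 fun b hb =>
    commutatorElement_eq_one_iff_mul_comm.1 (e.le ⟨⟨b, hb⟩, rfl⟩))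
  have := hV.isNilpotent
  have W1 := CL.PN.inf_center_ne_bot φ.range U1
  have iB' : ∀ g ∈ 𝒜, ∀ b ∈ B, g b ∈ B := fun g hg b hb => by
    rw [hB, mem_subgroupOf, ← autFun_coe]
    exact hi g hg b b.2 hb
  have iU : ∀ g ∈ 𝒜, ∀ b ∈ φ.range, g b ∈ φ.range := fun g hg => by
    rw [eU]
    intro b hb
    refine (show ⁅B, ⊤⁆ ≤ Subgroup.comap g.toMonoidHom ⁅B, ⊤⁆ from commutator_le.2 fun a ha c _ => ?_) hb
    rw [mem_comap, map_commutatorElement]
    exact commutator_mem_commutator (iB' g hg a ha) (mem_top _)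
  have iZ : ∀ g ∈ 𝒜, ∀ b ∈ center E, g b ∈ center E := fun g _ => characteristic_iff_le_comap.1 inferInstance g
  have key : ∀ X Y : Subgroup E, X ≤ B → (∀ g ∈ 𝒜, ∀ b ∈ X, g b ∈ X) → (∀ g ∈ 𝒜, ∀ b ∈ Y, g b ∈ Y) → X ⊓ Y ≠ ⊥ →
      Nat.card X = p ^ 2 → Nat.card Y = p → IsPClosed p 𝒜 := fun X Y hX iX iY hXY cX cY => by
    have hYX : Y ≤ X := inf_eq_right.1 (eq_of_le_of_card_ge inf_le_right
      (cY.le.trans (CL.BG.Sec4.le_card_of_ne_bot (hV.to_subgroup _) hXY)))
    have tr : ∀ Z : Subgroup E, (∀ g ∈ 𝒜, ∀ b ∈ Z, g b ∈ Z) → AutInv 𝒜 (Z.map E.subtype) := by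
      rintro Z hZ g hg _ _ ⟨z, hz, rfl⟩
      exact ⟨g z, hZ g hg z hz, (autFun_coe g z).symm⟩
    refine pc_of_chain hV (fun i => Subgroup.map E.subtype (match i with | 0 => ⊤ | 1 => B | 2 => X | 3 => Y | _ + 4 => ⊥))
      4 ((MonoidHom.range_eq_map _).symm.trans E.range_subtype) (map_bot _) (fun i => map_mono ?_) (fun i => ?_)
      fun i => tr _ ?_
    · match i with
      | 0 => exact le_top
      | 1 => exact hX
      | 2 => exact hYX
      | 3 => exact bot_le
      | _ + 4 => exact le_rfl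
    · rw [relIndex_map_map_of_injective _ _ E.subtype_injective]
      match i with
      | 0 => exact (relIndex_top_right B).dvd.trans iB.dvd
      | 1 => exact relIndex_dvd_of_card hX (by rw [cB, cX, pow_succ'])
      | 2 => exact relIndex_dvd_of_card hYX (by rw [cY, cX, pow_two])
      | 3 => exact relIndex_dvd_of_card bot_le (by rw [cY, card_bot, mul_one])
      | _ + 4 => exact (relIndex_self _).dvd.trans (one_dvd _)
    · match i with
      | 0 => exact fun _ _ _ _ => mem_top _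
      | 1 => exact iB'
      | 2 => exact iX
      | 3 => exact iY
      | _ + 4 => exact fun g _ b hb => by rw [mem_bot.1 hb, map_one]; exact one_mem _
  obtain ⟨k, hk, e⟩ := (Nat.dvd_prime_pow hp.out).1 (Dvd.intro _ cK)
  rw [e] at cK
  interval_cases k
  · exact (W1 (eq_bot_iff.2 (inf_le_right.trans (card_eq_one.1 (by simpa using e)).le))).elim
  · refine key _ _ rB iU iZ W1 ?_ (by simpa using e)
    rw [pow_one, pow_succ'] at cK
    exact Nat.eq_of_mul_eq_mul_left p0 cK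
  · refine key _ _ ZB iZ iU (by rwa [inf_comm]) e ?_
    rw [pow_succ p 2] at cK
    exact Nat.eq_of_mul_eq_mul_left (pow_pos p0 2) cK
  · exact (U1 (card_eq_one.1 ((Nat.mul_eq_left (pow_pos p0 3).ne').1 cK))).elim

variable [Finite G]

theorem relIndex_P_dvd (h : IsMC p n G) (h4 : 4 ≤ n) (a : ℕ) : (P G (a + 1)).relIndex (P G a) ∣ p := by
  by_cases e : n ≤ a
  · rw [h.P_eq_bot e, relIndex_bot_right]
    exact one_dvd _
  · refine relIndex_dvd_of_card (P_succ_le a) ?_
    rw [h.card_P' h4 (show a + (n - (a + 1) + 1) = n by omega), h.card_P' h4 (show a + 1 + (n - (a + 1)) = n by omega),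
      pow_succ']

theorem pc_of_P (h : IsMC p n G) (h4 : 4 ≤ n) {R : Subgroup G} {A : Subgroup (MulAut R)} {j : ℕ} (hj : P G j ≤ R)
    (hi : (P G j).relIndex R ∣ p) (hA : ∀ a, j ≤ a → AutInv A (P G a)) : IsPClosed p A :=
  pc_of_chain (h.isPGroup.to_subgroup R) (fun i => match i with | 0 => R | i + 1 => P G (j + i)) (n + 1) rfl
    (h.P_eq_bot (by omega)) (fun i => match i with | 0 => hj | i + 1 => P_succ_le (j + i))
    (fun i => match i with | 0 => hi | i + 1 => relIndex_P_dvd h h4 (j + i))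
    fun i => match i with | 0 => autInv_of_le A le_rfl | i + 1 => hA _ (by omega)

/-- `X = P j ⊔ ⟨s⟩` (`exists_sup`). If `j + 3 ≤ n` all `P a`, `a ≥ j`, are characteristic in `X` (end of the proof of
`CL.MCN.pearl_of_unif`: `⁅X, P a⁆ = P (a+1)`, `X' = P (j+1)`, `P j = C_X(P (j+1) / P (j+3))`), use `pc_of_chain`.
If `j + 2 = n`, `s ∉ C` does not commute with `P (n-2)`. -/
theorem card_of_unif (h : IsMC p n G) (h4 : 4 ≤ n) {X : Subgroup G} {s : G} (hs : Unif n s) (hsX : s ∈ X)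
    (hZ : P G (n - 1) ≤ X) {A : Subgroup (MulAut X)} (nc : ¬ IsPClosed p A) :
    Nat.card X ≤ p ^ 2 ∨ (Nat.card X ≤ p ^ 3 ∧ ¬ IsMulCommutative X) := by
  obtain ⟨j, hj, hjn, e, e', c⟩ := exists_sup h h4 hs hsX hZ
  have jX : P G j ≤ X := e.ge.trans inf_le_left
  by_cases e1 : j + 1 = n
  · exact Or.inl (by rw [c, show n + 1 - j = 2 by omega])
  by_cases e2 : j + 2 = n
  · refine Or.inr ⟨by rw [c, show n + 1 - j = 3 by omega], fun hc => hs.2 ?_⟩
    rw [h.C_last h4, show n - 2 = j by omega]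
    exact fun a ha => congrArg Subtype.val (hc.is_comm.comm (⟨a, jX ha⟩ : X) ⟨s, hsX⟩)
  exfalso
  have hK : ∀ a, j ≤ a → ⁅X, P G a⁆ = P G (a + 1) := fun a ha => le_antisymm
    (commutator_le.2 fun x _ y hy => comm_mem (by omega) x hy)
    (CL.MCN.Fu.P_succ_le_of_comm h h4 hs (by omega) fun x hx => commutator_mem_commutator hsX hx)
  have hK1 : ⁅X, X⁆ = P G (j + 1) := le_antisymm (by
    have := lcs_sup_zpowers_le (G := G) hj s 0
    rw [← e'] at this
    exact this) ((hK j le_rfl).ge.trans (commutator_mono le_rfl jX))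
  have iX : AutInv A X := autInv_of_le A le_rfl
  have i1 : ∀ t, AutInv A (P G (j + 1 + t)) := fun t => by
    induction t with
    | zero => exact hK1 ▸ autInv_comm le_rfl le_rfl iX iX
    | succ t ih =>
      rw [← add_assoc, ← hK _ (by omega)]
      exact autInv_comm le_rfl ((P_anti (by omega)).trans jX) iX ih
  have cj : Nat.card X = p * Nat.card (P G j) := by
    rw [c, h.card_P' h4 (show j + (n - j) = n by omega), ← pow_succ', show n - j + 1 = n + 1 - j by omega]
  have jC : P G j ≤ C G (j + 1) := by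
    by_cases j1 : j = 1
    · subst j1
      exact C_two.ge
    · exact (P_anti (by omega)).trans (P_two_le_C (by omega))
  have i0 : AutInv A (P G j) := fun a ha y hy hyj => by
    have k : autFun a y ∈ C G (j + 1) :=
      autInv_cs ((P_succ_le j).trans jX) (i1 0) (i1 2) a ha y hy (jC hyj)
    by_contra k'
    refine h.not_mem_C h4 hs (j := j + 1) (by omega) (by omega) ((sup_le jC (zpowers_le.2 k) : _ ≤ C G (j + 1)) ?_)
    rw [← eq_sup_zpowers h.isPGroup jX (autFun_mem a hy) k' cj.le]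
    exact hsX
  refine nc (pc_of_P h h4 jX (relIndex_dvd_of_card jX cj) fun a ha => ?_)
  by_cases aj : a = j
  · exact aj ▸ i0
  · rw [show a = j + 1 + (a - j - 1) by omega]
    exact i1 _

/-- `n` is even, `n ≥ 6`. Suppose `n ≥ 8`. `C = P 2 ⊔ ⟨y⟩`, `y ∉ P 1` regular on the layers `≤ n - 3`. `⁅P 2, P (n-3)⁆ = Z`
(`down_of`, `j = n - 2`), so `C' = P 3` and `⁅P a, C⁆ = P (a+1)` for `2 ≤ a ≤ n - 3` (normal subgroups not in `P (a+2)`,
`normal_cases`), `P 2 = C_C(P 3 / P 5)` (`⁅P 2, P 3⁆ ≤ P 5`), `Z = ⁅P 2, P (n-3)⁆`: all terms of the chain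
`C > P 2 > P 3 > … > 1` are characteristic in `C`; `pc_of_chain`. -/
theorem six_of_C (h : IsMC p n G) (h4 : 4 ≤ n) (hne : C G (n - 2) ≠ P G 1) {A : Subgroup (MulAut (C G (n - 2)))}
    (nc : ¬ IsPClosed p A) : n = 6 := by
  obtain ⟨ev, h6, -⟩ := h.exceptional h4 hne
  by_contra n6
  have h7 : 7 ≤ n := by omega
  have h2C : P G 2 ≤ C G (n - 2) := P_two_le_C (by omega)
  have iX : AutInv A (C G (n - 2)) := autInv_of_le A le_rfl
  have i1 : ∀ t, t + 5 ≤ n → AutInv A (P G (3 + t)) := fun t => by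
    induction t with
    | zero => exact fun _ => comm_C_C h h4 hne ▸ autInv_comm le_rfl le_rfl iX iX
    | succ t ih =>
      intro ht
      rw [← add_assoc, ← comm_P_C h h4 hne (by omega) (by omega)]
      exact autInv_comm ((P_anti (by omega)).trans h2C) le_rfl (ih (by omega)) iX
  have c2 : Nat.card (C G (n - 2)) = p * Nat.card (P G 2) := by
    rw [card_C h h4, h.card_P' h4 (show 2 + (n - 2) = n by omega), ← pow_succ', show n - 2 + 1 = n - 1 by omega]
  have i2 : AutInv A (P G 2) := fun a ha y hy hy2 => by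
    have k : autFun a y ∈ C G 3 :=
      autInv_cs ((P_succ_le 2).trans h2C) (i1 0 (by omega)) (i1 2 (by omega)) a ha y hy (P_two_le_C (by omega) hy2)
    rw [h.C_eq h4 (by omega) (by omega)] at k
    by_contra k'
    obtain ⟨z, hz, hz1, -⟩ := exists_C_eq h h4 hne
    refine hz1 ((sup_le (P_succ_le 1) (zpowers_le.2 k) : _ ≤ P G 1) ?_)
    rw [← eq_sup_zpowers h.isPGroup h2C (autFun_mem a hy) k' c2.le]
    exact hz
  refine nc (pc_of_P h h4 h2C (relIndex_dvd_of_card h2C c2) fun a ha => ?_)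
  by_cases a2 : a = 2
  · exact a2 ▸ i2
  by_cases a3 : a + 2 ≤ n
  · rw [show a = 3 + (a - 3) by omega]
    exact i1 _ (by omega)
  by_cases a4 : n ≤ a
  · rw [h.P_eq_bot a4]
    exact autInv_bot A
  have e : ⁅P G 2, P G (n - 3)⁆ = P G a := eq_P_of_normal h h4 (by omega)
    ((commutator_P_le (by omega) (by omega)).trans (P_anti (by omega)))
    fun e => comm_two_not_le h h4 hne (e.trans (P_anti (by omega)))
  rw [← e]
  refine autInv_comm h2C ((P_anti (by omega)).trans h2C) i2 ?_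
  rw [show n - 3 = 3 + (n - 6) by omega]
  exact i1 _ (by omega)

/-- By `six`, `P 3 = C'`, `P 4 = ⁅P 3, C⁆` and `P 5 = ⁅P 2, P 2⁆` are invariant; `pc_of_chain`. -/
theorem pc_P_two (h : IsMC p 6 G) (hne : C G 4 ≠ P G 1) {A : Subgroup (MulAut (P G 2))}
    (hA : ∀ a ∈ A, ∃ g : G → G, IsHomOn (C G 4) g ∧ (∀ x ∈ C G 4, g x ∈ C G 4) ∧ Set.EqOn g (autFun a) (P G 2)) :
    IsPClosed p A := by
  obtain ⟨e1, e2, e3, -, -⟩ := six h hne
  have h4 : 4 ≤ 6 := by norm_num
  have h2C : P G 2 ≤ C G 4 := P_two_le_C (by norm_num)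
  have h3C : P G 3 ≤ C G 4 := (P_anti (by norm_num)).trans h2C
  have i3 : ∀ {g : G → G}, IsHomOn (C G 4) g → (∀ x ∈ C G 4, g x ∈ C G 4) → ∀ x ∈ P G 3, g x ∈ P G 3 := fun hg hm => by
    rw [← e1]
    exact hom_comm hg le_rfl le_rfl hm hm
  refine pc_of_P h h4 (j := 2) le_rfl (by rw [relIndex_self]; exact one_dvd _) fun a ha => ?_
  by_cases a6 : 6 ≤ a
  · rw [h.P_eq_bot a6]
    exact autInv_bot A
  have a5 : a ≤ 5 := by omega
  interval_cases a
  · exact autInv_of_le A le_rfl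
  · intro a ha y hy hy'
    obtain ⟨g, hg, hm, e⟩ := hA a ha
    rw [← e hy]
    exact i3 hg hm y hy'
  · intro a ha y hy hy'
    obtain ⟨g, hg, hm, e⟩ := hA a ha
    rw [← e hy]
    rw [← e2] at hy' ⊢
    exact hom_comm hg h3C le_rfl (i3 hg hm) hm y hy'
  · rw [← e3]
    exact autInv_comm le_rfl le_rfl (autInv_of_le A le_rfl) (autInv_of_le A le_rfl)

end CL.MCD
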