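import Cfsg.Agent.FUS.MD.Defs

/-! # Subgroups of `p`-groups of maximal class -/

set_option autoImplicit false

namespace CL.MCD

open Subgroup Cfsg CL.MaxCl CL.Fus
open scoped commutatorElement

section aux
variable {G : Type*} [Group G] {p : ℕ}

theorem lt_sup_zpowers {A : Subgroup G} {x : G} (hx : x ∉ A) : A < A ⊔ zpowers x :=
  le_sup_left.lt_of_ne fun e => hx (e.ge (mem_sup_right (mem_zpowers x)))

variable [Finite G]

theorem card_le_inf_cent {A Z : Subgroup G} {x : G} (h : ∀ a ∈ A, ⁅a, x⁆ ∈ Z) :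
    Nat.card A ≤ Nat.card ↥(A ⊓ centralizer {x}) * Nat.card Z := by
  have k1 := ((centralizer {x}).subgroupOf A).card_mul_index
  rw [← inf_subgroupOf_left, Nat.card_congr (subgroupOfEquivOfLe inf_le_left).toEquiv, inf_subgroupOf_left] at k1
  rw [← k1]
  refine Nat.mul_le_mul_left _ ?_
  have k2 := CL.BG.Sec4.relIndex_cent1_eq_ncard A x
  rw [relIndex] at k2
  rw [k2, ← Nat.card_coe_set_eq]
  refine Nat.card_le_card_of_injective (fun y => (⟨y.1 * x⁻¹, ?_⟩ : Z)) fun a b e => Subtype.ext ?_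
  · obtain ⟨a, ha, e⟩ := y.2
    rw [← e]
    exact h a ha
  · exact mul_right_cancel (congrArg Subtype.val e)

variable [hp : Fact p.Prime]

theorem mem_of_pow_mem (hG : IsPGroup p G) {A : Subgroup G} {s : G} {a : ℕ} (ha : s ^ a ∈ A) (hpa : ¬ p ∣ a) : s ∈ A := by
  obtain ⟨k, hk⟩ := IsPGroup.iff_orderOf.1 hG s
  refine zpowers_le.2 ha (mem_zpowers_pow_iff.2 ?_)
  rw [hk]
  exact (hp.out.coprime_iff_not_dvd.2 hpa).symm.pow_right k

theorem eq_sup_zpowers (hG : IsPGroup p G) {A X : Subgroup G} (hA : A ≤ X) {x : G} (hx : x ∈ X) (hx' : x ∉ A)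
    (hc : Nat.card X ≤ p * Nat.card A) : X = A ⊔ zpowers x :=
  (eq_of_le_of_card_ge (sup_le hA (zpowers_le.2 hx)) (hc.trans (CL.MC.mul_card_le_of_lt hG (lt_sup_zpowers hx')))).symm

theorem comm_of_card_le (hG : IsPGroup p G) {A X : Subgroup G} (hA : A ≤ X) (hc : A ≤ centralizer (X : Set G))
    (h : Nat.card X ≤ p * Nat.card A) : IsMulCommutative X := by
  refine ⟨⟨fun a b => Subtype.ext ?_⟩⟩
  by_cases ha : (a : G) ∈ A
  · exact (hc ha b b.2).symm
  have : X ≤ centralizer {(a : G)} := (eq_sup_zpowers hG hA a.2 ha h).le.trans (sup_le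
    (fun c hc' => mem_centralizer_singleton_iff.2 (hc hc' a a.2).symm) (zpowers_le.2 (mem_centralizer_singleton_iff.2 rfl)))
  exact (mem_centralizer_singleton_iff.1 (this b.2)).symm

end aux

variable {G : Type*} [Group G] [Finite G] {p n : ℕ} [hp : Fact p.Prime] (h : IsMC p n G) (h4 : 4 ≤ n)
include h h4

theorem reg_of_not_mem {y : G} (hy : y ∉ P G 1) {j : ℕ} (h1 : 1 ≤ j) (hj : j + 3 ≤ n) : Reg y j := by
  by_cases e : j = 1
  · exact e ▸ h.reg_one h4 hy
  · exact h.reg (by omega) (by rwa [h.C_eq h4 (by omega) hj])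

theorem card_C : Nat.card (C G (n - 2)) = p ^ (n - 1) := by
  have k := (C G (n - 2)).card_mul_index
  rw [h.index_C (by omega) (by omega), h.card, show n = n - 1 + 1 by omega, pow_succ] at k
  exact Nat.eq_of_mul_eq_mul_right hp.out.pos k

theorem eq_P_of_normal {N : Subgroup G} [N.Normal] {i : ℕ} (hi : 1 ≤ i) (h1 : N ≤ P G i) (h2 : ¬ N ≤ P G (i + 1)) :
    N = P G i := by
  obtain ⟨x, hx, hx'⟩ := SetLike.not_le_iff_exists.1 h2
  refine le_antisymm h1 ((h.sup_zpowers (Or.inr h4) (h1 hx) hx').le.trans (sup_le ?_ (zpowers_le.2 hx)))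
  exact (le_inf le_rfl (P_anti (by omega))).trans (h.P_le_of_normal h4 (by omega) h2)

theorem exists_C_eq (hne : C G (n - 2) ≠ P G 1) : ∃ y ∈ C G (n - 2), y ∉ P G 1 ∧ C G (n - 2) = P G 2 ⊔ zpowers y := by
  obtain ⟨y, hy, hy1⟩ := SetLike.not_le_iff_exists.1 fun e : C G (n - 2) ≤ P G 1 =>
    hne (CL.MCN.eq_of_le_of_index e (by rw [h.index_C (by omega) (by omega), h.index_P' h4 (by omega), pow_one]))
  refine ⟨y, hy, hy1, eq_sup_zpowers h.isPGroup (P_two_le_C (by omega)) hy (fun e => hy1 (P_succ_le 1 e)) ?_⟩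
  rw [card_C h h4, h.card_P' h4 (show 2 + (n - 2) = n by omega), ← pow_succ', show n - 2 + 1 = n - 1 by omega]

theorem comm_two_not_le (hne : C G (n - 2) ≠ P G 1) : ¬ ⁅P G 2, P G (n - 3)⁆ ≤ P G n := fun e =>
  hne (h.C_eq_of_le h4 (by omega) (by omega) (h.down_of h4 (fun b h1 h2 => h.commutator_P_one_le h4 b h1 (by omega)) 2
    (by omega) (n - 3) (by omega) (by omega) (by rwa [show n - 2 + 2 = n by omega])))

theorem comm_P_C (hne : C G (n - 2) ≠ P G 1) {a : ℕ} (ha : 1 ≤ a) (hn : a + 3 ≤ n) :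
    ⁅P G a, C G (n - 2)⁆ = P G (a + 1) := by
  obtain ⟨y, hy, hy1, -⟩ := exists_C_eq h h4 hne
  obtain ⟨c, hc, hc'⟩ := h.exists_mem_not_mem (i := a) (Or.inr h4) (by omega)
  refine eq_P_of_normal h h4 (by omega) ((commutator_mono le_rfl le_top).trans (commutator_P_top_le a ha)) fun e =>
    hc' (reg_of_not_mem h h4 hy1 ha hn c hc (e ?_))
  rw [commutator_comm]
  exact commutator_mem_commutator hy hc

theorem comm_C_C (hne : C G (n - 2) ≠ P G 1) : ⁅C G (n - 2), C G (n - 2)⁆ = P G 3 := by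
  obtain ⟨y, hy, hy1, e⟩ := exists_C_eq h h4 hne
  have h6 := (h.exceptional h4 hne).2.1
  refine le_antisymm ?_ ((comm_P_C h h4 hne (a := 2) (by omega) (by omega)).ge.trans
    (commutator_mono (P_two_le_C (by omega)) le_rfl))
  rw [← le_cs_iff]
  refine e.le.trans (sup_le (le_cs_iff.2 ((commutator_mono le_rfl le_top).trans (commutator_P_top_le 2 (by omega))))
    (zpowers_le.2 (mem_cs.2 fun a ha => ?_)))
  exact mem_cm.1 ((sup_le (fun b hb => mem_cm.2 (comm_mem (by omega) y hb))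
    (zpowers_le.2 (mem_cm.2 (by rw [commutatorElement_self]; exact one_mem _))) : _ ≤ cm y (P G 3)) (e.le ha))

/-- Let `k ≥ 1` be least with `P k ≤ X`. If `X ≰ P k` take `x ∈ X`, `x ∈ P j \ P (j+1)`, `j < k ≤ r`. The iterated
commutators `[y, x], [y, [y, x]], …` lie in `X` and (by `Reg`) in `P (j+1) \ P (j+2)`, … up to the layer `r - 1`, so
downwards induction with `sup_zpowers` gives `P j ≤ X` (compare `CL.MCN.Fu.P_le_of_mem`). -/
theorem eq_P_of_reg {X : Subgroup G} {y : G} {r : ℕ} (hX : X ≤ P G 1) (hr : P G r ≤ X)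
    (hy : y ∈ normalizer (X : Set G)) (hreg : ∀ j, 1 ≤ j → j + 2 ≤ r → Reg y j) : ∃ k, 1 ≤ k ∧ X = P G k := by
  classical
  have key : ∀ m t, r ≤ t + m → 1 ≤ t → ∀ x ∈ X, x ∈ P G t → x ∉ P G (t + 1) → P G t ≤ X := by
    intro m
    induction m with
    | zero => intro t ht _ _ _ _ _; exact (P_anti ht).trans hr
    | succ m ih =>
      intro t hn ht x hx h1 h2
      rw [h.sup_zpowers (Or.inr h4) h1 h2]
      refine sup_le ?_ (zpowers_le.2 hx)
      by_cases e : r ≤ t + 1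
      · exact (P_anti e).trans hr
      refine ih (t + 1) (by omega) (by omega) ⁅y, x⁆ ?_ (comm_mem ht y h1)
        fun e' => h2 (hreg t ht (by omega) x h1 e')
      rw [commutatorElement_def]
      exact X.mul_mem ((mem_normalizer_iff.1 hy x).1 hx) (X.inv_mem hx)
  have hex : ∃ j, P G (j + 1) ≤ X := ⟨r, (P_succ_le r).trans hr⟩
  refine ⟨Nat.find hex + 1, by omega, le_antisymm (fun x hx => ?_) (Nat.find_spec hex)⟩
  have k2 : ∀ t, t ≤ Nat.find hex → x ∈ P G (t + 1) := by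
    intro t
    induction t with
    | zero => exact fun _ => hX hx
    | succ t ih =>
      intro ht
      by_contra e
      exact Nat.find_min hex (show t < Nat.find hex by omega) (key r (t + 1) (by omega) (by omega) x hx (ih (by omega)) e)
  exact k2 _ le_rfl

/-- `X ⊓ P 1 = P j` by `eq_P_of_reg` (`r = n - 1`, `reg_of_unif`), then as in `CL.MCN.pearl_of_unif` (`hsup`, `iB`, `cE`). -/
theorem exists_sup {X : Subgroup G} {s : G} (hs : Unif n s) (hsX : s ∈ X) (hZ : P G (n - 1) ≤ X) :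
    ∃ j, 1 ≤ j ∧ j + 1 ≤ n ∧ X ⊓ P G 1 = P G j ∧ X = P G j ⊔ zpowers s ∧ Nat.card X = p ^ (n + 1 - j) := by
  have hsn : s ∈ normalizer ((X ⊓ P G 1 : Subgroup G) : Set G) :=
    inf_normalizer_le_normalizer_inf ⟨le_normalizer hsX, by rw [normalizer_eq_top]; trivial⟩
  obtain ⟨j, hj, e⟩ := eq_P_of_reg h h4 (X := X ⊓ P G 1) (r := n - 1) inf_le_right
    (le_inf hZ (P_anti (by omega))) hsn fun j h1 h2 => h.reg_of_unif h4 hs h1 (by omega)
  have hjn : j + 1 ≤ n := by
    by_contra e'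
    refine h.ne_bot (eq_bot_iff.2 ?_)
    rw [← h.P_eq_bot (i := j) (by omega), ← e]
    exact le_inf hZ (P_anti (by omega))
  have top : P G 1 ⊔ zpowers s = ⊤ := (h.sup_zpowers (i := 0) (Or.inr h4) (mem_top s) hs.1).symm
  refine ⟨j, hj, hjn, e, le_antisymm (fun y hy => ?_) (sup_le (e.ge.trans inf_le_left) (zpowers_le.2 hsX)), ?_⟩
  · obtain ⟨a, v, hv, rfl⟩ := CL.MCN.Fu.exists_pow_mul h h4 hs y
    exact mul_mem (mem_sup_right (npow_mem_zpowers s a))
      (mem_sup_left (e.le ⟨(mul_mem_cancel_left (pow_mem hsX a)).1 hy, hv⟩))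
  · have e' : P G 1 ⊔ X = ⊤ := eq_top_iff.2 (top.ge.trans (sup_le_sup_left (zpowers_le.2 hsX) _))
    have i1 : (P G 1).relIndex X = p := by
      rw [← relIndex_sup_left, e', relIndex_top_right, h.index_P' h4 (by omega), pow_one]
    have c1 : Nat.card ((P G 1).subgroupOf X) = p ^ (n - j) := by
      rw [← inf_subgroupOf_left, Nat.card_congr (subgroupOfEquivOfLe inf_le_left).toEquiv, e,
        h.card_P' h4 (show j + (n - j) = n by omega)]
    rw [← ((P G 1).subgroupOf X).card_mul_index, c1, show n + 1 - j = n - j + 1 by omega, pow_succ]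
    exact congrArg _ i1

omit [Finite G] hp h h4 in
theorem le_or_le {X : Subgroup G} (hX : ∀ x ∈ X, ¬ Unif n x) : X ≤ P G 1 ∨ X ≤ C G (n - 2) := by
  by_contra e
  rw [not_or] at e
  obtain ⟨x, hx, h1⟩ := CL.MCN.exists_not_mem_two e.1 e.2
  exact hX x hx h1

/-- If `X ≤ P 1` use `eq_P_of_reg`. Otherwise `X ≤ C`, `y ∈ X \ P 1`; write `y = s ^ a * u` (`exists_pow_mul`), `u ∈ P 1`,
`u ∉ P 2` (else `s ^ a ∈ C`, `p ∤ a` since `s ^ p ∈ P 2`, so `s ∈ C`). `N(X) ∋ s, u`, so `N(X) ⊓ P 1 = P j ∋ u`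
(`exists_sup`), `j = 1`, `N(X) = ⊤`. -/
theorem normal_of_unif {X : Subgroup G} {s : G} (hs : Unif n s) (hZ : P G (n - 1) ≤ X)
    (hn : s ∈ normalizer (X : Set G)) (hX : ∀ x ∈ X, ¬ Unif n x) : X.Normal := by
  by_cases h1 : X ≤ P G 1
  · obtain ⟨k, -, e⟩ := eq_P_of_reg h h4 (r := n - 1) h1 hZ hn fun j h1 h2 => h.reg_of_unif h4 hs h1 (by omega)
    exact e ▸ P_normal k
  have hC := (le_or_le hX).resolve_left h1
  obtain ⟨y, hy, hy1⟩ := SetLike.not_le_iff_exists.1 h1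
  obtain ⟨j, hj, -, e, e', -⟩ := exists_sup h h4 hs hn (hZ.trans le_normalizer)
  obtain ⟨a, u, hu, rfl⟩ := CL.MCN.Fu.exists_pow_mul h h4 hs y
  have huj : u ∈ P G j := e.le ⟨(mul_mem_cancel_left (pow_mem hn a)).1 (le_normalizer hy), hu⟩
  by_cases j1 : j = 1
  · subst j1
    rw [← normalizer_eq_top_iff, e']
    exact (h.sup_zpowers (i := 0) (Or.inr h4) (mem_top s) hs.1).symm
  exfalso
  have ha : s ^ a ∈ C G (n - 2) :=
    (mul_mem_cancel_right (P_two_le_C (by omega) (P_anti (by omega) huj))).1 (hC hy)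
  refine hs.2 (mem_of_pow_mem h.isPGroup ha fun ⟨b, hb⟩ => hy1 (mul_mem ?_ hu))
  rw [hb, pow_mul]
  exact pow_mem (P_succ_le 1 (h.pow_mem_P_two s)) b

/-- `eq_P_of_reg` with `r = n - 2` (`reg_one`, `reg`, `C_eq`). -/
theorem normal_of_not_mem {X : Subgroup G} {y : G} (hX : X ≤ P G 1) (h2 : P G (n - 2) ≤ X) (hy : y ∉ P G 1)
    (hn : y ∈ normalizer (X : Set G)) : X.Normal := by
  obtain ⟨k, -, e⟩ := eq_P_of_reg h h4 (r := n - 2) hX h2 hn fun j h1 h2 => reg_of_not_mem h h4 hy h1 (by omega)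
  exact e ▸ P_normal k

/-- Otherwise `X ≤ C` or `X ≤ P 1`. If `X ≤ C = C(Z₂)`, `Z₂ = P (n-2) ≤ C(X) ≤ X` is central of order `p²`, so `X / Z₂` is
cyclic, `X` abelian, `X = Z₂`, and `C ≤ X` has order `p ^ (n-1) > p²`. Otherwise `C ≠ P 1`, `n ≥ 6` (`exceptional`),
`⁅P 1, P (n-3)⁆ ≤ Z = P (n-1) ≤ X`, and `P (n-3)` is abelian of order `p³` inside `C`. If `|X| ≤ p²`, `X = ⟨x⟩ Z` and the
kernel of the homomorphism `y ↦ ⁅y, x⁆`, `P (n-3) → Z` has order `≥ p²` and lies in `C(X) ≤ X`, so `X ≤ P (n-3) ≤ C`.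
If `X` is non-abelian of order `p³`, `X = ⟨x₁, x₂⟩ Z`, `Z(X) = Z`, `⁅X, X⁆ ≤ Z`; `y ↦ (⁅y, x₁⁆, ⁅y, x₂⁆)` is a homomorphism
`Y = P (n-3) ⊔ X → Z × Z` with kernel in `C(X) ⊓ X = Z`, so `|Y| ≤ p³`, `X = P (n-3)` is abelian. -/
theorem exists_unif_of_card {X : Subgroup G} (hc : centralizer (X : Set G) ≤ X)
    (h3 : Nat.card X ≤ p ^ 2 ∨ (Nat.card X ≤ p ^ 3 ∧ ¬ IsMulCommutative X)) : ∃ s ∈ X, Unif n s := by
  have hG := h.isPGroup
  have p0 := hp.out.pos
  have p1 := hp.out.one_lt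
  by_contra! hX
  have cZ : Nat.card (P G (n - 1)) = p := by rw [h.card_P' h4 (show n - 1 + 1 = n by omega), pow_one]
  have hZ : P G (n - 1) ≤ X := last_le h hc
  have Zc : ∀ c : G, P G (n - 1) ≤ centralizer {c} := fun c => h.P_le_center.trans (center_le_centralizer _)
  by_cases hC : X ≤ C G (n - 2)
  · have c2 : Nat.card (P G (n - 2)) = p ^ 2 := h.card_P' h4 (by omega)
    rw [h.C_last h4] at hC
    have h2 : P G (n - 2) ≤ centralizer (X : Set G) := le_centralizer_iff.1 hC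
    rcases h3 with h3 | ⟨h3, na⟩
    · have e : P G (n - 2) = X := eq_of_le_of_card_ge (h2.trans hc) (c2 ▸ h3)
      have k1 : C G (n - 2) ≤ X := by rw [h.C_last h4, e]; exact hc
      have k2 := Subgroup.card_le_of_le k1
      have k3 := (C G (n - 2)).card_mul_index
      rw [h.index_C (by omega) (by omega), h.card] at k3
      have k4 : p ^ n ≤ p ^ 3 := by rw [← k3, pow_succ]; exact Nat.mul_le_mul_right _ (k2.trans h3)
      rw [Nat.pow_le_pow_iff_right p1] at k4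
      omega
    · exact na (comm_of_card_le hG (h2.trans hc) h2 (by rw [c2, ← pow_succ']; exact h3))
  have h1 := (le_or_le hX).resolve_right hC
  have hne : C G (n - 2) ≠ P G 1 := fun e => hC (e ▸ h1)
  obtain ⟨-, h6, -⟩ := h.exceptional h4 hne
  have cA : Nat.card (P G (n - 3)) = p ^ 3 := h.card_P' h4 (by omega)
  have AX : ∀ a ∈ P G (n - 3), ∀ x ∈ X, ⁅a, x⁆ ∈ P G (n - 1) := fun a ha x hx => by
    have := h.commutator_P_one_le h4 (n - 3) (by omega) (by omega) (commutator_mem_commutator (h1 hx) ha)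
    rw [show n - 3 + 2 = n - 1 by omega, ← commutatorElement_inv] at this
    exact inv_mem_iff.1 this
  have AC : P G (n - 3) ≤ C G (n - 2) := (P_anti (by omega)).trans (P_two_le_C (by omega))
  rcases h3 with h3 | ⟨h3, na⟩
  · obtain ⟨x, hx, hxC⟩ := SetLike.not_le_iff_exists.1 hC
    have xZ : x ∉ P G (n - 1) := fun e => hxC (AC (P_anti (by omega) e))
    have eX : X = P G (n - 1) ⊔ zpowers x := eq_sup_zpowers hG hZ hx xZ (by rw [cZ, ← pow_two]; exact h3)
    have k1 := card_le_inf_cent (A := P G (n - 3)) fun a ha => AX a ha x hx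
    have k2 : P G (n - 3) ⊓ centralizer {x} ≤ X := fun c hc' => hc fun z hz =>
      mem_centralizer_singleton_iff.1 ((sup_le (Zc c) (zpowers_le.2 (mem_centralizer_singleton_iff.2
        (mem_centralizer_singleton_iff.1 hc'.2).symm)) : _ ≤ centralizer {c}) (eX.le hz))
    have k3 : P G (n - 3) ⊓ centralizer {x} = X := eq_of_le_of_card_ge k2 (h3.trans (by
      rw [cA, cZ, pow_succ] at k1
      exact Nat.le_of_mul_le_mul_right k1 p0))
    exact hxC (AC (k3.ge hx).1)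
  · obtain ⟨x, hx, y, hy, hxy⟩ : ∃ x ∈ X, ∃ y ∈ X, x * y ≠ y * x := by
      by_contra! e
      exact na ⟨⟨fun a b => Subtype.ext (e a a.2 b b.2)⟩⟩
    have xZ : x ∉ P G (n - 1) := fun e => hxy (mem_centralizer_singleton_iff.1 (Zc y e))
    have yZ : y ∉ P G (n - 1) ⊔ zpowers x := fun e => hxy (mem_centralizer_singleton_iff.1
      ((sup_le (Zc x) (zpowers_le.2 (mem_centralizer_singleton_iff.2 rfl)) : _ ≤ centralizer {x}) e)).symm
    have l1 := CL.MC.mul_card_le_of_lt hG (lt_sup_zpowers xZ)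
    have eX : X = (P G (n - 1) ⊔ zpowers x) ⊔ zpowers y :=
      eq_sup_zpowers hG (sup_le hZ (zpowers_le.2 hx)) hy yZ (h3.trans (by
        rw [cZ] at l1
        rw [pow_succ', pow_two]
        exact Nat.mul_le_mul_left _ l1))
    have XX : ⁅X, X⁆ ≤ P G (n - 1) := by
      refine CL.BG.Sec4.der1_le_of_relIndex_dvd (p := p) (by rw [normalizer_eq_top]; exact le_top) ?_
      have k1 := ((P G (n - 1)).subgroupOf X).card_mul_index
      rw [Nat.card_congr (subgroupOfEquivOfLe hZ).toEquiv, cZ] at k1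
      have k2 := CL.BG.Sec4.card_dvd_pow_of_le (hG.to_subgroup X) h3
      rw [← k1, pow_succ'] at k2
      exact Nat.dvd_of_mul_dvd_mul_left p0 k2
    have YX : ∀ z ∈ X, ∀ a ∈ P G (n - 3) ⊔ X, ⁅a, z⁆ ∈ P G (n - 1) := fun z hz a ha =>
      mem_cm'.1 ((sup_le (fun b hb => mem_cm'.2 (AX b hb z hz))
        fun b hb => mem_cm'.2 (XX (commutator_mem_commutator hb hz)) : _ ≤ cm z (P G (n - 1))) ha)
    have k1 := card_le_inf_cent (YX x hx)
    have k2 := card_le_inf_cent (A := (P G (n - 3) ⊔ X) ⊓ centralizer {x}) fun a ha => YX y hy a ha.1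
    have k3 : (P G (n - 3) ⊔ X) ⊓ centralizer {x} ⊓ centralizer {y} ≤ P G (n - 1) := fun c hc' => by
      have c1 : X ≤ centralizer {c} := by
        rw [eX]
        exact sup_le (sup_le (Zc c) (zpowers_le.2 (mem_centralizer_singleton_iff.2
          (mem_centralizer_singleton_iff.1 hc'.1.2).symm))) (zpowers_le.2 (mem_centralizer_singleton_iff.2
          (mem_centralizer_singleton_iff.1 hc'.2).symm))
      have c2 : c ∈ centralizer (X : Set G) := fun z hz => mem_centralizer_singleton_iff.1 (c1 hz)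
      by_contra cZ'
      have l2 := CL.MC.mul_card_le_of_lt hG (lt_sup_zpowers cZ')
      have l3 : P G (n - 1) ⊔ zpowers c ≤ centralizer (X : Set G) :=
        sup_le (h.P_le_center.trans (center_le_centralizer _)) (zpowers_le.2 c2)
      refine na (comm_of_card_le hG (l3.trans hc) l3 (h3.trans ?_))
      rw [cZ] at l2
      rw [pow_succ', pow_two]
      exact Nat.mul_le_mul_left _ l2
    have k4 := Subgroup.card_le_of_le k3
    rw [cZ] at k1 k2 k4
    have k5 : P G (n - 3) = P G (n - 3) ⊔ X := eq_of_le_of_card_ge le_sup_left (by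
      rw [cA, pow_succ, pow_two]
      exact k1.trans (Nat.mul_le_mul_right _ (k2.trans (Nat.mul_le_mul_right _ k4))))
    exact hC ((le_sup_right.trans k5.ge).trans AC)

/-- `X ⊓ P 1 = P j`, `N(X) ⊓ P 1 = P k` (`exists_sup`), `n + 1 - j ≤ 3`; for `g ∈ P k`, `⁅s, g⁆ ∈ X ⊓ P 1 = P j`, so
`P k ≤ P (j - 1)` (`CL.MCN.Fu.mem_pred`, if `j ≥ 2`). -/
theorem card_normalizer_le {X : Subgroup G} {s : G} (hs : Unif n s) (hsX : s ∈ X) (hZ : P G (n - 1) ≤ X)
    (h3 : Nat.card X ≤ p ^ 3) : Nat.card (normalizer (X : Set G)) ≤ p ^ 4 := by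
  have p1 := hp.out.one_lt
  obtain ⟨j, hj, hjn, e, -, c⟩ := exists_sup h h4 hs hsX hZ
  obtain ⟨k, hk, hkn, e', -, c'⟩ := exists_sup h h4 hs (le_normalizer hsX) (hZ.trans le_normalizer)
  rw [c, Nat.pow_le_pow_iff_right p1] at h3
  have k1 : P G k ≤ P G (j - 1) := fun g hg => by
    have hg' := e'.ge hg
    refine CL.MCN.Fu.mem_pred h h4 hs (by omega) (by omega) hg'.2 ?_
    rw [show j - 1 + 1 = j by omega, ← e]
    refine ⟨?_, P_succ_le 1 (comm_mem le_rfl s hg'.2)⟩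
    rw [commutatorElement_def, mul_assoc, mul_assoc, ← mul_assoc g]
    exact mul_mem hsX ((mem_normalizer_iff.1 hg'.1 _).1 (inv_mem hsX))
  have k2 := Subgroup.card_le_of_le k1
  rw [h.card_P' h4 (show k + (n - k) = n by omega), h.card_P' h4 (show j - 1 + (n + 1 - j) = n by omega),
    Nat.pow_le_pow_iff_right p1] at k2
  rw [c', Nat.pow_le_pow_iff_right p1]
  omega

/-- If `n ≤ p + 1`, `|A| ≤ |T| ≤ p ^ (n-1)`. Otherwise `C = P 1` (`exceptional`) and `card_inf_P_one_le` applies. -/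
theorem rk {T : Subgroup G} (hT : T ≤ P G 1 ∨ T ≤ C G (n - 2)) : Rk p T := by
  intro A U hA _ hU
  have p0 := hp.out.pos
  have u0 : 0 < Nat.card U := Nat.card_pos
  by_cases e : n ≤ p + 1
  · have : Nat.card T ≤ p ^ (n - 1) := by
      rcases hT with hT | hT
      · exact (Subgroup.card_le_of_le hT).trans (h.card_P' h4 (by omega)).le
      · exact (Subgroup.card_le_of_le hT).trans (card_C h h4).le
    exact (Subgroup.card_le_of_le hA).trans (this.trans ((Nat.pow_le_pow_right p0 (by omega)).trans (Nat.le_mul_of_pos_left _ u0)))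
  · have hC : C G (n - 2) = P G 1 := by
      by_contra e'
      exact e (h.exceptional h4 e').2.2
    have h1 : A ≤ P G 1 := hA.trans (hT.elim id fun x => hC ▸ x)
    have := h.card_inf_P_one_le h4 (by omega) hU
    rw [inf_eq_left.2 h1] at this
    exact this.trans (Nat.mul_le_mul_left _ (Nat.pow_le_pow_right p0 (by omega)))

/-- `normal_cases`; subgroups between `P 2` (index `p²`) and `⊤`; `le_or_le`. -/
theorem normal_cases' (N : Subgroup G) [N.Normal] : N = ⊤ ∨ (∃ i, 2 ≤ i ∧ i ≤ n ∧ N = P G i) ∨ N = P G 1 ∨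
    N = C G (n - 2) ∨ (N.index = p ∧ ∃ s ∈ N, Unif n s) := by
  rcases h.normal_cases h4 N with h2 | ⟨i, h1, h2, e⟩
  · have i2 := index_dvd_of_le h2
    rw [h.index_P' h4 (by omega)] at i2
    obtain ⟨k, hk, e⟩ := (Nat.dvd_prime_pow hp.out).1 i2
    interval_cases k
    · exact Or.inl (index_eq_one.1 (by simpa using e))
    · rw [pow_one] at e
      by_cases hu : ∃ s ∈ N, Unif n s
      · exact Or.inr (Or.inr (Or.inr (Or.inr ⟨e, hu⟩)))
      push Not at hu
      rcases le_or_le hu with h1 | h1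
      · exact Or.inr (Or.inr (Or.inl (CL.MCN.eq_of_le_of_index h1 (by rw [e, h.index_P' h4 (by omega), pow_one]))))
      · exact Or.inr (Or.inr (Or.inr (Or.inl (CL.MCN.eq_of_le_of_index h1
          (by rw [e, h.index_C (by omega) (by omega)])))))
    · exact Or.inr (Or.inl ⟨2, le_rfl, by omega, (CL.MCN.eq_of_le_of_index h2 (by rw [e, h.index_P' h4 (by omega)])).symm⟩)
  · exact Or.inr (Or.inl ⟨i, by omega, h2, e⟩)

/-- `P 1 = P 2 ⊔ ⟨x⟩` and `⁅P 1, P 2⁆ ≤ P 4`. -/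
theorem comm_P_one : ⁅P G 1, P G 1⁆ ≤ P G 4 := by
  obtain ⟨x, hx, hx'⟩ := h.exists_mem_not_mem (i := 1) (Or.inr h4) (by omega)
  have e := h.sup_zpowers (Or.inr h4) hx hx'
  have k : ⁅P G 1, P G 2⁆ ≤ P G 4 := le_C_iff.1 C_two.ge
  rw [← le_cs_iff]
  refine e.le.trans (sup_le (le_cs_iff.2 (by rw [commutator_comm]; exact k)) (zpowers_le.2 (mem_cs.2 fun a ha => ?_)))
  exact mem_cm.1 ((sup_le (fun b hb => mem_cm.2 (k (commutator_mem_commutator hx hb)))
    (zpowers_le.2 (mem_cm.2 (by rw [commutatorElement_self]; exact one_mem _))) : _ ≤ cm x (P G 4)) (e.le ha))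

omit h h4 in
/-- The exceptional group of order `p ^ 6`. `C = P 2 ⊔ ⟨y⟩`, `y ∉ P 1` is regular on the layers `1, 2, 3` and centralizes
`P 4` (`C_last`). `⁅P 2, P 3⁆ ≠ 1` by `down_of` (`j = 4`), so it is `P 5`; `⁅P 2, P 2⁆ ≤ P 5`, `⁅P 3, P 3⁆ ≤ P 7`.
Normal subgroups are located with `normal_cases`. -/
theorem six (h6 : IsMC p 6 G) (hne : C G 4 ≠ P G 1) : ⁅C G 4, C G 4⁆ = P G 3 ∧ ⁅P G 3, C G 4⁆ = P G 4 ∧
    ⁅P G 2, P G 2⁆ = P G 5 ∧ centralizer (P G 3 : Set G) = P G 3 ∧ centralizer (C G 4 : Set G) = P G 4 := by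
  have h4 : 4 ≤ 6 := by norm_num
  have hne' : C G (6 - 2) ≠ P G 1 := by simpa only [Nat.reduceSub] using hne
  have cl : C G 4 = centralizer (P G 4 : Set G) := by simpa only [Nat.reduceSub] using h6.C_last h4
  have k23 : ¬ ⁅P G 2, P G 3⁆ ≤ P G 6 := by simpa only [Nat.reduceSub] using comm_two_not_le h6 h4 hne'
  have e1 : ⁅C G 4, C G 4⁆ = P G 3 := by simpa only [Nat.reduceSub] using comm_C_C h6 h4 hne'
  have e2 : ⁅P G 3, C G 4⁆ = P G 4 := by
    simpa only [Nat.reduceSub, Nat.reduceAdd] using comm_P_C h6 h4 hne' (a := 3) (by norm_num) (by norm_num)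
  have c2 : ⁅P G 2, P G 2⁆ ≤ P G 5 := by
    simpa only [Nat.reduceMul, Nat.reduceAdd] using h6.commutator_P_self_le (i := 2) (Or.inr h4)
  have c3 : ⁅P G 3, P G 3⁆ ≤ P G 7 := by
    simpa only [Nat.reduceMul, Nat.reduceAdd] using h6.commutator_P_self_le (i := 3) (Or.inr h4)
  have l23 : P G 3 ≤ P G 2 := P_anti (by norm_num)
  refine ⟨e1, e2, eq_P_of_normal h6 h4 (by norm_num) c2 fun e => k23 ((commutator_mono le_rfl l23).trans (by
    simpa only [Nat.reduceAdd] using e)), le_antisymm ?_ ?_, le_antisymm ?_ ?_⟩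
  · rcases h6.normal_cases h4 (centralizer (P G 3 : Set G)) with k | ⟨i, i1, -, k⟩
    · exact (k23 ((commutator_eq_bot_iff_le_centralizer.2 k).le.trans bot_le)).elim
    · exact k.le.trans (P_anti i1)
  · exact commutator_eq_bot_iff_le_centralizer.1 (eq_bot_iff.2 (c3.trans (h6.P_eq_bot (by norm_num)).le))
  · have k3 : ¬ P G 3 ≤ centralizer (C G 4 : Set G) := fun k =>
      h6.P_ne_bot (i := 4) (by norm_num) (e2.symm.trans (commutator_eq_bot_iff_le_centralizer.2 k))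
    rcases h6.normal_cases h4 (centralizer (C G 4 : Set G)) with k | ⟨i, i1, -, k⟩
    · exact (k3 (l23.trans k)).elim
    · by_cases i3 : i = 3
      · subst i3
        exact (k3 k.ge).elim
      · exact k.le.trans (P_anti (by omega))
  · exact le_centralizer_iff.1 cl.le

end CL.MCD
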