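import Cfsg.Agent.FUS.MD.Co
import Cfsg.Agent.FUS.MD.PG

/-! # Weights of an automorphism of a `p`-group of maximal class -/

set_option autoImplicit false
set_option linter.unusedSectionVars false

namespace CL.MCD

open Subgroup Cfsg CL.MaxCl CL.Fus
open scoped commutatorElement

variable {G : Type*} [Group G] [Finite G] {p n : ℕ} [hp : Fact p.Prime]

omit [Finite G] hp in
theorem aut_mem_cs {A N : Subgroup G} [N.Normal] (hA : ∀ σ : MulAut G, ∀ x ∈ A, σ x ∈ A)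
    (hN : ∀ σ : MulAut G, ∀ x ∈ N, σ x ∈ N) (σ : MulAut G) {x : G} (hx : x ∈ cs A N) : σ x ∈ cs A N :=
  mem_cs.2 fun a ha => by simpa [map_commutatorElement] using hN σ _ (mem_cs.1 hx _ (hA σ⁻¹ a ha))

omit [Finite G] hp in
theorem mk_eq_iff {N : Subgroup G} [N.Normal] {x y : G} {k : ℕ} :
    (y : G ⧸ N) = (x : G ⧸ N) ^ k ↔ y * (x ^ k)⁻¹ ∈ N := by
  rw [← QuotientGroup.mk_pow, QuotientGroup.eq_iff_div_mem, div_eq_mul_inv]

theorem exists_step {Q : ℕ → Prop} {a b : ℕ} (hab : a ≤ b) (ha : Q a) (hb : ¬ Q b) :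
    ∃ i, a ≤ i ∧ i < b ∧ Q i ∧ ¬ Q (i + 1) := by
  induction b, hab using Nat.le_induction with
  | base => exact (hb ha).elim
  | succ b hab ih =>
    by_cases e : Q b
    · exact ⟨b, hab, by omega, e, hb⟩
    · obtain ⟨i, h1, h2, h3⟩ := ih e
      exact ⟨i, h1, by omega, h3⟩

theorem pow_mem_succ (h : IsMC p n G) {i : ℕ} {x : G} (hx : x ∈ P G i) : x ^ p ∈ P G (i + 1) := by
  have := hp.out.two_le
  by_cases e : 2 ≤ i
  · exact P_anti (by omega) (h.pow_mem_add e hx)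
  · exact P_anti (by omega) (h.pow_mem_P_two x)

theorem mk_pow_prime (h : IsMC p n G) {i : ℕ} {x : G} (hx : x ∈ P G i) : (x : G ⧸ P G (i + 1)) ^ p = 1 := by
  rw [← QuotientGroup.mk_pow]
  exact (QuotientGroup.eq_one_iff _).2 (pow_mem_succ h hx)

omit [Finite G] hp in
/-- All `P i` are characteristic. -/
theorem aut_mem_P (σ : MulAut G) {i : ℕ} {x : G} (hx : x ∈ P G i) : σ x ∈ P G i := by
  have k : ∀ (i : ℕ) (σ : MulAut G), ∀ x ∈ (⊤ : Subgroup G).lowerCentralSeries i,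
      σ x ∈ (⊤ : Subgroup G).lowerCentralSeries i := fun i σ => characteristic_iff_le_comap.1 inferInstance σ
  match i with
  | 0 => trivial
  | 1 => exact aut_mem_cs (k 1) (k 3) σ hx
  | i + 2 => exact k (i + 1) σ x hx

omit [Finite G] hp in
theorem aut_mem_C (σ : MulAut G) {i : ℕ} {x : G} (hx : x ∈ C G i) : σ x ∈ C G i :=
  aut_mem_cs (fun σ _ => aut_mem_P σ) (fun σ _ => aut_mem_P σ) σ hx

theorem isPGroup_of_layers (h : IsMC p n G) {σ : MulAut G} (hσ : ∀ i, ∀ x ∈ P G i, σ x * x⁻¹ ∈ P G (i + 1)) :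
    IsPGroup p (zpowers σ) := by
  refine isPGroup_of_forall_coprime fun α hα hc => ?_
  obtain ⟨k, rfl⟩ := mem_powers_iff_mem_zpowers.2 hα
  have k1 : ∀ i, ∀ x ∈ P G i, (σ ^ k) x * x⁻¹ ∈ P G (i + 1) := fun i x hx => by
    clear hα hc
    induction k with
    | zero => simp
    | succ k ih =>
      have := mul_mem (aut_mem_P σ ih) (hσ i x hx)
      rwa [map_mul, map_inv, mul_assoc, inv_mul_cancel_left, ← MulAut.mul_apply, ← pow_succ'] at this
  simp only at hc ⊢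
  generalize σ ^ k = α at hc k1 ⊢
  have k2 : ∀ m i, n ≤ i + m → ∀ x ∈ P G i, α x = x := fun m => by
    induction m with
    | zero => intro i hi x hx; rw [h.P_eq_bot (i := i) hi, mem_bot] at hx; rw [hx, map_one]
    | succ m ih =>
      intro i hi x hx
      have k3 : ∀ j : ℕ, (α ^ j) x = (α x * x⁻¹) ^ j * x := fun j => by
        induction j with
        | zero => simp
        | succ j ih' =>
          rw [pow_succ', MulAut.mul_apply, ih', map_mul, ih (i + 1) (by omega) _ (pow_mem (k1 i x hx) j), pow_succ,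
            mul_assoc, inv_mul_cancel_right]
      have k4 := k3 (orderOf α)
      rw [pow_orderOf_eq_one, MulAut.one_apply, right_eq_mul] at k4
      obtain ⟨r, hr⟩ := h.isPGroup (α x * x⁻¹)
      have k5 := pow_gcd_eq_one.2 ⟨k4, hr⟩
      rwa [(hc.pow_right r).gcd_eq_one, pow_one, mul_inv_eq_one] at k5
  exact MulEquiv.ext fun x => k2 n 0 (by omega) x (mem_top x)

/-- An additive function on a `τ`-invariant subgroup `T`, multiplied by `ν` under `τ` and vanishing on `T ⊓ N`: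
`τ x = c * x ^ w` with `c ∈ T ⊓ N`. -/
theorem add_eq_of_pow {F : Type*} [Field F] {T N : Subgroup G} {τ : G → G} (hT : ∀ t ∈ T, τ t ∈ T) {f : G → F}
    (hf : ∀ t ∈ T, ∀ u ∈ T, f (t * u) = f t + f u) {ν : F} {x : G} (hx : x ∈ T) (hν : f (τ x) = ν * f x)
    (h0 : ∀ t ∈ T, t ∈ N → f t = 0) {w : ℕ} (hw : τ x * (x ^ w)⁻¹ ∈ N) : ν * f x = (w : F) * f x := by
  have hc := mul_mem (hT x hx) (inv_mem (pow_mem hx w))
  have := hf _ hc _ (pow_mem hx w)
  rwa [inv_mul_cancel_right, h0 _ hc hw, zero_add, add_pow' hf (add_one hf) hx, hν] at this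

variable (h : IsMC p n G) (h4 : 4 ≤ n) {σ : MulAut G}
include h h4

/-- `P i / P (i+1)` has order `p` and is generated by `x` (`sup_zpowers`). -/
theorem wt_of {i : ℕ} {x : G} (hx : x ∈ P G i) (hx' : x ∉ P G (i + 1)) {v : ZMod p}
    (hv : σ x * (x ^ v.val)⁻¹ ∈ P G (i + 1)) : Wt σ i v := by
  refine fun y hy => mk_eq_iff.1 ?_
  obtain ⟨c, hc, _, ⟨k, rfl⟩, rfl⟩ := mem_sup_of_normal_left.1 ((h.sup_zpowers (Or.inr h4) hx hx').le hy)
  simp only [map_mul, map_zpow, QuotientGroup.mk_mul, QuotientGroup.mk_zpow, (QuotientGroup.eq_one_iff _).2 hc,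
    (QuotientGroup.eq_one_iff _).2 (aut_mem_P σ hc), one_mul, mk_eq_iff.2 hv]
  rw [← zpow_natCast, ← zpow_natCast, ← zpow_mul, ← zpow_mul, mul_comm]

theorem wt_one {i : ℕ} {x : G} (hx : x ∈ P G i) (hx' : x ∉ P G (i + 1)) (hv : σ x * x⁻¹ ∈ P G (i + 1)) :
    Wt σ i (1 : ZMod p) :=
  wt_of h h4 hx hx' (by rwa [ZMod.val_one, pow_one])

theorem wt_neg_one {i : ℕ} {x : G} (hx : x ∈ P G i) (hx' : x ∉ P G (i + 1)) (hv : x * σ x ∈ P G (i + 1)) :
    Wt σ i (-1 : ZMod p) := by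
  refine wt_of h h4 hx hx' (mk_eq_iff.1 ?_)
  have e := (QuotientGroup.eq_one_iff _).2 hv
  rw [QuotientGroup.mk_mul, ← mk_pow_prime h hx] at e
  obtain ⟨q, rfl⟩ : ∃ q, p = q + 1 := ⟨p - 1, by have := hp.out.pos; omega⟩
  rw [ZMod.val_neg_one]
  exact mul_left_cancel (e.trans (pow_succ' _ _))

theorem Wt.unique {i : ℕ} (hi : i < n) {v w : ZMod p} (hv : Wt σ i v) (hw : Wt σ i w) : v = w := by
  obtain ⟨x, hx, hx'⟩ := h.exists_mem_not_mem (Or.inr h4) hi
  have e := (mk_eq_iff.2 (hv x hx)).symm.trans (mk_eq_iff.2 (hw x hx))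
  rw [pow_eq_pow_iff_modEq, orderOf_eq_prime (mk_pow_prime h hx) (fun e => hx' ((QuotientGroup.eq_one_iff _).1 e)),
    ← ZMod.natCast_eq_natCast_iff, ZMod.natCast_zmod_val, ZMod.natCast_zmod_val] at e
  exact e

theorem exists_wt (σ : MulAut G) {i : ℕ} (hi : i < n) : ∃ w : ZMod p, w ≠ 0 ∧ Wt σ i w := by
  obtain ⟨x, hx, hx'⟩ := h.exists_mem_not_mem (Or.inr h4) hi
  obtain ⟨c, hc, y, hy, e⟩ := mem_sup_of_normal_left.1 ((h.sup_zpowers (Or.inr h4) hx hx').le (aut_mem_P σ hx))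
  obtain ⟨k, rfl⟩ := mem_powers_iff_mem_zpowers.2 hy
  have e1 : ((σ x : G) : G ⧸ P G (i + 1)) = (x : G ⧸ P G (i + 1)) ^ (k : ZMod p).val := by
    rw [← e, QuotientGroup.mk_mul, (QuotientGroup.eq_one_iff _).2 hc, one_mul, QuotientGroup.mk_pow, ZMod.val_natCast,
      ← pow_eq_pow_mod _ (mk_pow_prime h hx)]
  refine ⟨k, fun e0 => hx' ?_, wt_of h h4 hx hx' (mk_eq_iff.1 e1)⟩
  rw [e0, ZMod.val_zero, pow_zero, QuotientGroup.eq_one_iff] at e1
  simpa using aut_mem_P σ⁻¹ e1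

/-- The commutator map `P i × P j → P l / P (l+1)` is bimultiplicative (`P l / P (l+1)` is central as `l ≥ 1`) and kills
`P (i+1)` and `P (j+1)`: `σ ⁅x, y⁆ = ⁅σ x, σ y⁆ ≡ ⁅x, y⁆ ^ (u v)`. -/
theorem Wt.comm {i j l : ℕ} {u v : ZMod p} (hu : Wt σ i u) (hv : Wt σ j v) (hl : 1 ≤ l) (h0 : ⁅P G i, P G j⁆ ≤ P G l)
    (h1 : ⁅P G (i + 1), P G j⁆ ≤ P G (l + 1)) (h2 : ⁅P G i, P G (j + 1)⁆ ≤ P G (l + 1))
    (hne : ¬ ⁅P G i, P G j⁆ ≤ P G (l + 1)) : Wt σ l (u * v) := by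
  obtain ⟨x, hx, y, hy, hxy⟩ : ∃ x ∈ P G i, ∃ y ∈ P G j, ⁅x, y⁆ ∉ P G (l + 1) := by
    by_contra! e
    exact hne (commutator_le.2 e)
  have hz := h0 (commutator_mem_commutator hx hy)
  refine wt_of h h4 hz hxy (mk_eq_iff.1 ?_)
  let π := QuotientGroup.mk' (P G (l + 1))
  have cen : ∀ (g : G ⧸ P G (l + 1)), ∀ a ∈ P G i, ∀ b ∈ P G j, Commute g ⁅π a, π b⁆ := fun g a ha b hb => by
    obtain ⟨g, rfl⟩ := QuotientGroup.mk'_surjective _ g
    rw [← commutatorElement_eq_one_iff_commute, ← map_commutatorElement, ← map_commutatorElement]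
    exact (QuotientGroup.eq_one_iff _).2 (comm_mem hl g (h0 (commutator_mem_commutator ha hb)))
  have ex : σ x = σ x * (x ^ u.val)⁻¹ * x ^ u.val := (inv_mul_cancel_right _ _).symm
  have ey : σ y = σ y * (y ^ v.val)⁻¹ * y ^ v.val := (inv_mul_cancel_right _ _).symm
  have k1 : ⁅π (σ x * (x ^ u.val)⁻¹), π (σ y)⁆ = 1 := by
    rw [← map_commutatorElement]
    exact (QuotientGroup.eq_one_iff _).2 (h1 (commutator_mem_commutator (hu x hx) (aut_mem_P σ hy)))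
  have k2 : ⁅π (x ^ u.val), π (σ y * (y ^ v.val)⁻¹)⁆ = 1 := by
    rw [← map_commutatorElement]
    exact (QuotientGroup.eq_one_iff _).2 (h2 (commutator_mem_commutator (pow_mem hx _) (hv y hy)))
  change π (σ ⁅x, y⁆) = π ⁅x, y⁆ ^ (u * v).val
  rw [map_commutatorElement, map_commutatorElement, ex, map_mul,
    CL.PG.commutator_mul_left_of_commute (cen _ _ (pow_mem hx _) _ (aut_mem_P σ hy)), k1, mul_one, ey, map_mul,
    CL.PG.commutator_mul_right_of_commute (cen _ _ (pow_mem hx _) _ (pow_mem hy _)), k2, one_mul, map_pow π y,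
    CL.PG.commutator_pow_right (cen _ _ (pow_mem hx _) _ hy), map_pow, CL.PG.commutator_pow_left (cen _ _ hx _ hy),
    ← pow_mul, ← map_commutatorElement, ZMod.val_mul]
  exact pow_eq_pow_mod _ (mk_pow_prime h hz)

/-- `Wt.comm` with `P 0 = ⊤` (`commutator_P_top'`, `commutator_P_one_le`, `commutator_P_le_succ'`). -/
theorem Wt.succ {i : ℕ} {a w : ZMod p} (ha : Wt σ 0 a) (hw : Wt σ i w) (hi : 1 ≤ i)
    (hn : i + 3 ≤ n ∨ (i + 2 = n ∧ C G (n - 2) = P G 1)) : Wt σ (i + 1) (a * w) := by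
  have t : ∀ j, 1 ≤ j → ⁅P G 0, P G j⁆ = P G (j + 1) := fun j hj => by
    rw [commutator_comm, P_zero, h.commutator_P_top' h4 hj]
  refine Wt.comm h h4 ha hw (by omega) (t i hi).le ?_ (t _ (by omega)).le
    fun e => h.not_P_succ_le (i := i + 1) (by omega) (by omega) ((t i hi).ge.trans e)
  rcases hn with hn | ⟨-, hn⟩
  · exact h.commutator_P_one_le h4 i hi hn
  · exact (h.commutator_P_le_succ' h4 hn (a := 1) le_rfl hi).trans (P_anti (by omega))

/-- `Wt.comm` with `⁅P 1, P (n-2)⁆ ≠ 1` (`C_eq_of_le`). -/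
theorem Wt.last (hne : C G (n - 2) ≠ P G 1) {b w : ZMod p} (hb : Wt σ 1 b) (hw : Wt σ (n - 2) w) :
    Wt σ (n - 1) (b * w) :=
  Wt.comm h h4 hb hw (by omega) ((commutator_P_le le_rfl (by omega)).trans (P_anti (by omega)))
    ((commutator_P_le (by omega) (by omega)).trans (P_anti (by omega)))
    ((commutator_P_le le_rfl (by omega)).trans (P_anti (by omega)))
    fun e => hne (h.C_eq_of_le h4 (by omega) (by omega) (e.trans (P_anti (by omega))))

theorem Wt.pow {a b : ZMod p} (ha : Wt σ 0 a) (hb : Wt σ 1 b) {i : ℕ}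
    (hi : i + 3 ≤ n ∨ (i + 2 = n ∧ C G (n - 2) = P G 1)) : Wt σ (i + 1) (a ^ i * b) := by
  induction i with
  | zero => simpa using hb
  | succ i ih =>
    rw [pow_succ', mul_assoc]
    exact Wt.succ h h4 ha (ih (Or.inl (by omega))) (by omega) hi

/-- Let `b` be the weight on the layer `1`; all weights on the layers `1, …, n - 2` (and `n - 1` if `C = P 1`) are `b`
(`Wt.pow`). `⁅P 1, P 1⁆ = P m` (`normal_cases`, it lies in `P 3`), `m < n`, and `m ≤ n - 2` unless `C = P 1`. Take `i, j ≥ 1`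
with `¬ ⁅P i, P j⁆ ≤ P (m+1)` and `i + j` maximal (`i, j ≤ n - 2` as `P (n-1)` is central): `Wt.comm` gives `b = b * b`,
`b = 1`; if `C ≠ P 1` the last weight is `1` by `Wt.last`. So `σ` acts trivially on all layers: `σ ^ p ^ n = 1`
(e.g. a power of `σ` of order prime to `p` is trivial by coprime action, `CL.Fus.isPGroup_of_forall_coprime`). -/
theorem isPGroup_of_wt (ha : Wt σ 0 (1 : ZMod p))
    (hc : ¬ ⁅P G 1, P G 1⁆ ≤ P G (n - 1) ∨ (C G (n - 2) = P G 1 ∧ ⁅P G 1, P G 1⁆ ≠ ⊥)) : IsPGroup p (zpowers σ) := by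
  obtain ⟨b, hb0, hb⟩ := exists_wt h h4 σ (i := 1) (by omega)
  have wb : ∀ i, 1 ≤ i → (i + 2 ≤ n ∨ (i + 1 = n ∧ C G (n - 2) = P G 1)) → Wt σ i b := fun i hi hi' => by
    obtain ⟨i, rfl⟩ := Nat.exists_eq_add_of_le' hi
    simpa using Wt.pow h h4 ha hb (i := i) (hi'.imp (by omega) fun e => ⟨by omega, e.2⟩)
  have d1 : ⁅P G 1, P G 1⁆ ≤ P G 1 := (commutator_P_le le_rfl le_rfl).trans (P_anti (by omega))
  obtain ⟨m, hm, hm', d2, d3⟩ : ∃ m, 1 ≤ m ∧ (m + 2 ≤ n ∨ (m + 1 = n ∧ C G (n - 2) = P G 1)) ∧ ⁅P G 1, P G 1⁆ ≤ P G m ∧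
      ¬ ⁅P G 1, P G 1⁆ ≤ P G (m + 1) := by
    rcases hc with hc | ⟨e, hc⟩
    · obtain ⟨m, h1, h2, h3⟩ := exists_step (Q := fun m => ⁅P G 1, P G 1⁆ ≤ P G m) (by omega) d1 hc
      exact ⟨m, h1, Or.inl (by omega), h3⟩
    · obtain ⟨m, h1, h2, h3⟩ := exists_step (Q := fun m => ⁅P G 1, P G 1⁆ ≤ P G m) (b := n) (by omega) d1
        fun e => hc (eq_bot_iff.2 (e.trans (h.P_eq_bot le_rfl).le))
      exact ⟨m, h1, (show m + 2 ≤ n ∨ m + 1 = n by omega).imp_right fun e' => ⟨e', e⟩, h3⟩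
  have z : ∀ j, ⁅P G (n - 1), P G j⁆ ≤ P G (m + 1) := fun j =>
    (commutator_eq_bot_iff_le_centralizer.2 (h.P_le_center.trans (center_le_centralizer _))).le.trans bot_le
  obtain ⟨i, i1, i2, i3, i4⟩ := exists_step (Q := fun i => ¬ ⁅P G i, P G 1⁆ ≤ P G (m + 1)) (b := n - 1) (by omega) d3
    (not_not.2 (z 1))
  obtain ⟨j, j1, j2, j3, j4⟩ := exists_step (Q := fun j => ¬ ⁅P G i, P G j⁆ ≤ P G (m + 1)) (b := n - 1) (by omega) i3
    (not_not.2 (by rw [commutator_comm]; exact z i))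
  have e := Wt.unique h h4 (by omega) (Wt.comm h h4 (wb i i1 (by omega)) (wb j j1 (by omega)) hm
    ((commutator_mono (P_anti i1) (P_anti j1)).trans d2) ((commutator_mono le_rfl (P_anti j1)).trans (not_not.1 i4))
    (not_not.1 j4) j3) (wb m hm hm')
  obtain rfl : b = 1 := mul_right_cancel₀ hb0 (e.trans (one_mul b).symm)
  refine isPGroup_of_layers h fun i => ?_
  have k : i < n → Wt σ i (1 : ZMod p) := fun hi => by
    by_cases i0 : i = 0
    · exact i0 ▸ ha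
    by_cases i1 : i + 2 ≤ n
    · exact wb i (by omega) (Or.inl i1)
    by_cases e : C G (n - 2) = P G 1
    · exact wb i (by omega) (Or.inr ⟨by omega, e⟩)
    · have := Wt.last h h4 e hb (wb (n - 2) (by omega) (Or.inl (by omega)))
      rwa [one_mul, show n - 1 = i by omega] at this
  intro x hx
  by_cases hi : i < n
  · simpa [ZMod.val_one] using k hi x hx
  · rw [h.P_eq_bot (not_lt.1 hi), mem_bot] at hx
    simp [hx]

/-- `p` is odd and `n` is even (`exceptional`). The weights are `a = -1` (use `s`), `w (n-2) = -1`, `w (n-1) = 1`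
(`z = ⁅s, y⁆` generates `Z` for `y ∈ P (n-2) \ Z`, `σ z = ⁅s⁻¹, y⁻¹⁆ = z`; or `Wt.comm`-like computation), so `b = -1` by
`Wt.last` and `w (n-2) = a ^ (n-3) * b = 1` by `Wt.pow`. -/
theorem not_inv (hne : C G (n - 2) ≠ P G 1) {s : G} (hs : Unif n s)
    (hσ : ∀ y ∈ P G (n - 2) ⊔ zpowers s, y * σ y ∈ P G (n - 1)) : False := by
  obtain ⟨ev, h6, hp1⟩ := h.exceptional h4 hne
  obtain ⟨y, hy, hy'⟩ := h.exists_mem_not_mem (i := n - 2) (Or.inr h4) (by omega)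
  have e1 : n - 2 + 1 = n - 1 := by omega
  have hs' := hσ s (mem_sup_right (mem_zpowers s))
  have hy2 := hσ y (mem_sup_left hy)
  have wa : Wt σ 0 (-1 : ZMod p) := wt_neg_one h h4 (mem_top s) hs.1 (P_anti (by omega) hs')
  have w2 : Wt σ (n - 2) (-1 : ZMod p) := wt_neg_one h h4 hy hy' (e1 ▸ hy2)
  have hz : ⁅s, y⁆ ∈ P G (n - 1) := e1 ▸ comm_mem (by omega) s hy
  have cz : ∀ g : G, ∀ z ∈ P G (n - 1), Commute g z := fun g z hz => mem_center_iff.1 (h.P_le_center hz) g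
  have w1 : Wt σ (n - 1) (1 : ZMod p) := by
    refine wt_one h h4 hz (fun e => hy' (h.reg_of_unif h4 hs (by omega) (by omega) y hy (P_anti (by omega) e))) ?_
    have k1 : σ s = s⁻¹ * (s * σ s) := (inv_mul_cancel_left _ _).symm
    have k2 : σ y = y⁻¹ * (y * σ y) := (inv_mul_cancel_left _ _).symm
    have k3 : ∀ a b : G, ∀ z ∈ P G (n - 1), ⁅a * z, b⁆ = ⁅a, b⁆ := fun a b z hz => by
      rw [commutatorElement_def, commutatorElement_def, mul_assoc a, ← (cz b z hz).eq]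
      group
    have k4 : ∀ a b : G, ∀ z ∈ P G (n - 1), ⁅a, b * z⁆ = ⁅a, b⁆ := fun a b z hz => by
      rw [← commutatorElement_inv, k3 b a z hz, commutatorElement_inv]
    have k5 : ⁅s, y⁻¹⁆ = ⁅s, y⁆⁻¹ := CL.PG.commutator_inv_right_of_commute (cz _ _ hz)
    rw [map_commutatorElement, k1, k2, k3 _ _ _ hs', k4 _ _ _ hy2,
      CL.PG.commutator_inv_left_of_commute (cz _ _ (k5 ▸ inv_mem hz)), k5, inv_inv, mul_inv_cancel]
    exact one_mem _
  obtain ⟨b, -, hb⟩ := exists_wt h h4 σ (i := 1) (by omega)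
  have eb := Wt.unique h h4 (by omega) (Wt.last h h4 hne hb w2) w1
  have w3 := Wt.pow h h4 wa hb (i := n - 3) (Or.inl (by omega))
  rw [show n - 3 + 1 = n - 2 by omega, (Nat.Even.sub_odd (by omega) ev (by decide : Odd 3)).neg_one_pow, mul_comm, eb] at w3
  have e2 : ((2 : ℕ) : ZMod p) = 0 := by
    have := Wt.unique h h4 (by omega) w3 w2
    rw [Nat.cast_ofNat, ← one_add_one_eq_two, add_eq_zero_iff_eq_neg]
    exact this
  have := Nat.le_of_dvd two_pos ((ZMod.natCast_eq_zero_iff 2 p).1 e2)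
  omega

end CL.MCD
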