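import Cfsg.Agent.FUS.MD.Co
import Cfsg.Agent.FUS.MD.Wt
import Cfsg.Agent.FUS.MD.PC
import Cfsg.Agent.PLOC.ClassTwo

/-! # The configuration when `τ` extends to `C_G(Z₂)` -/

set_option autoImplicit false

namespace CL.MCD

open Subgroup Cfsg CL.MaxCl CL.Fus
open scoped commutatorElement

variable {G F : Type*} [Group G] [Finite G] [Field F] [Finite F] {p : ℕ} [hp : Fact p.Prime] [CharP F p]

namespace EndC

omit [Finite G] in
theorem cen_cm {a b u v : G} (hu : Commute u (b * v)) (hv : Commute v a) : ⁅a * u, b * v⁆ = ⁅a, b⁆ := by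
  rw [commutatorElement_def, commutatorElement_def, mul_assoc a, hu.eq,
    show a * (b * v * u) * (a * u)⁻¹ * (b * v)⁻¹ = a * b * (v * a⁻¹) * v⁻¹ * b⁻¹ by group, hv.inv_right.eq]
  group

omit [Finite F] in
theorem ord {H : Type*} [Group H] {w : H} (h : w ^ p = 1) (h1 : w ≠ 1) {a b : ℕ} (e : w ^ a = w ^ b) :
    (a : F) = b := by
  rw [pow_eq_pow_iff_modEq, orderOf_eq_prime h h1] at e
  exact CharP.natCast_eq_natCast' F p e

omit [Finite G] in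
theorem key {C A Z : Subgroup G} [Z.Normal] (AC : A ≤ C) (c1 : ⁅C, C⁆ ≤ A) (c2 : ⁅A, C⁆ ≤ Z) {τ : G → G}
    (hom : IsHomOn C τ) (maps : ∀ x ∈ C, τ x ∈ C) {d : ℕ}
    (hd : ∀ w ∈ A, QuotientGroup.mk' Z (τ w) = QuotientGroup.mk' Z w ^ d) {x₁ x₂ : G} (h1 : x₁ ∈ C) (h2 : x₂ ∈ C)
    {b c : ℕ} (e1 : x₁⁻¹ * τ x₁ ^ d ∈ A) (e2 : (x₁ ^ c * x₂ ^ b)⁻¹ * τ x₂ ^ d ∈ A) :
    QuotientGroup.mk' Z ⁅x₁, x₂⁆ ^ d ^ 3 = QuotientGroup.mk' Z ⁅x₁, x₂⁆ ^ b := by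
  generalize hq : QuotientGroup.mk' Z = q at *
  have cen : ∀ a ∈ A, ∀ x ∈ C, Commute (q a) (q x) := fun a ha x hx => by
    rw [← commutatorElement_eq_one_iff_commute, ← map_commutatorElement, ← hq]
    exact (QuotientGroup.eq_one_iff _).2 (c2 (commutator_mem_commutator ha hx))
  have cc : ∀ {a b x}, a ∈ C → b ∈ C → x ∈ C → Commute (q x) ⁅q a, q b⁆ := fun ha hb hx => by
    rw [← map_commutatorElement]; exact (cen _ (c1 (commutator_mem_commutator ha hb)) _ hx).symm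
  have t1 := maps _ h1
  have t2 := maps _ h2
  have h3 := mul_mem (pow_mem h1 c) (pow_mem h2 b)
  calc _ = ⁅q (τ x₁ ^ d), q (τ x₂ ^ d)⁆ := by
        rw [map_pow q (τ x₁), PG.commutator_pow_left (cc t1 (pow_mem t2 d) t1), map_pow,
          PG.commutator_pow_right (cc t1 t2 t2), ← map_commutatorElement, ← hom.map_commutator h1 h2,
          hd _ (c1 (commutator_mem_commutator h1 h2)), ← pow_mul, ← pow_mul]
        congr 1; ring
    _ = ⁅q x₁ * q (x₁⁻¹ * τ x₁ ^ d), q (x₁ ^ c * x₂ ^ b) * q ((x₁ ^ c * x₂ ^ b)⁻¹ * τ x₂ ^ d)⁆ := by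
        rw [← map_mul, ← map_mul, mul_inv_cancel_left, mul_inv_cancel_left]
    _ = _ := by
        rw [cen_cm (by rw [← map_mul]; exact cen _ e1 _ (mul_mem h3 (AC e2))) (cen _ e2 _ h1), map_mul,
          PG.commutator_mul_right_of_commute (cc h1 (pow_mem h2 b) (pow_mem h1 c)), map_pow, map_pow,
          commutatorElement_eq_one_iff_commute.2 ((Commute.refl _).pow_right c), one_mul,
          PG.commutator_pow_right (cc h1 h2 h2), map_commutatorElement]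

end EndC

/-- By `six`: `C' = P 3`, `⁅P 3, C⁆ = P 4 = Z(C)`, `C(P 3) = P 3`; `τ` maps `C`, `P 3`, `P 4` into themselves; `C / P 3` and `P 4`
are elementary abelian of order `p²` (`pow_mem_P`, `pow_eq_one`). Fix `y ∈ P 3 \ P 4`, `τ y = y ^ d z`, `z ∈ P 4`, `p ∤ d`
(`τ` is injective, so bijective on `C` and `P 4`). `β x = ⁅x, y⁆` is a homomorphism `C → P 4` with kernel `P 3`, so onto, and
`τ (β x) = β (τ x) ^ d`. `|T| = |F|³ |B| ≤ p⁵` (`card_T`, `card_E`), so `|F| = p`. `P 4 ≤ C(E) ≤ E` with `ψ₂ = 0` on it,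
`P 3 ≤ T` (`mem_T`). `C = ⟨x₁, x₂⟩ P 3` for any `x₁ ∉ P 3`, `x₂ ∉ ⟨x₁⟩ P 3`, and `⁅x₁, x₂⁆ ∈ P 3 \ P 4`; the commutator map
`C × C → P 3 / P 4` is bimultiplicative, alternating and kills `P 3`.
* `P 4 ≤ B`: `|B| ≥ p²`, so `T = C`, `B = P 4`; `P 3 = ⁅T, T⁆ ≤ E`, `⁅T, P 3⁆ ≤ B` gives `ψ₂ y = 0`, `ψ₁ y ≠ 0`, `d = μ`.
  `β x = τ (β x) = β ((τ x) ^ d)`, so `(τ x) ^ d ≡ x` mod `P 3`, and `⁅x₁, x₂⁆ ≡ τ ⁅x₁, x₂⁆ ^ (d²) ≡ ⁅x₁, x₂⁆ ^ (d³)`
  mod `P 4`: `μ³ = 1`, against `even_of_pow`.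
* `P 4 ≰ B`: `ψ₁ : P 4 → F` is onto with kernel `B₄ = B ⊓ P 4` of order `p`. Take `x₁` with `1 ≠ β x₁ ∈ B₄` and `x₂` with
  `β x₂ ∉ B`: `(τ x₁) ^ d ≡ x₁`, `(τ x₂) ^ d ≡ x₂ ^ μ x₁ ^ c` mod `P 3` (compare `β`), so `d³ = μ`.
  If `κ y ≠ 0`, `d = μ²`, `μ⁵ = 1`, against `even_of_pow`. So `P 3 ≤ E`. If `ψ₂ y = 0`, `y = z b` with `z ∈ P 4`, `b ∈ B`,
  so `τ y * y⁻¹ ∈ P 4`, `d = 1`, `μ = 1`, against `sq_ne`. So `ψ₂ y ≠ 0`, `d = μ⁻¹ ≠ 1`; for `b ∈ B`, `β b ∈ B₄` is fixed by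
  `τ` and `τ (β b) = (β b) ^ d`, so `β b = 1`, `b ∈ P 3`; `E = P 3 B = P 3` (`ψ (P 3) = F²`), against `not_normal`. -/
theorem Cf.endC {T E : Subgroup G} {τ : G → G} {μ : F} {κ ψ₁ ψ₂ : G → F} (h : Cf p 6 T E τ μ κ ψ₁ ψ₂)
    (hne : C G 4 ≠ P G 1) (hT : T ≤ C G 4) (hom : IsHomOn (C G 4) τ) (inj : Set.InjOn τ (C G 4))
    (maps : ∀ x ∈ C G 4, τ x ∈ C G 4) : False := by
  have h6 := h.mc
  have hG := h6.isPGroup
  have h5 := h.five
  obtain ⟨c1, c2, -, c3, c4⟩ := six h6 hne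
  have cC : Nat.card (C G 4) = p ^ 5 := by simpa only [Nat.reduceSub] using card_C h6 (by decide)
  have cA : Nat.card (P G 3) = p ^ 3 := h6.card_P (by decide) rfl
  have cZ : Nat.card (P G 4) = p ^ 2 := h6.card_P (by decide) rfl
  have ZA : P G 4 ≤ P G 3 := P_anti (by decide)
  have AC : P G 3 ≤ C G 4 := (P_anti (by decide)).trans (P_two_le_C (by decide))
  have pA : ∀ a ∈ P G 3, a ^ p = 1 := fun a ha => h6.pow_eq_one (by decide) (by omega) ha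
  obtain ⟨y, yA, yZ⟩ := h6.exists_mem_not_mem (i := 3) (Or.inl (by decide)) (by decide)
  have gA := h6.sup_zpowers (Or.inl (by decide)) yA yZ
  simp only [Nat.reduceAdd] at yZ gA
  have nA : (P G 3).Normal := inferInstance
  have nZ : (P G 4).Normal := inferInstance
  generalize C G 4 = C at *
  generalize P G 3 = A at *
  generalize P G 4 = Z at *
  have yC := AC yA
  have τA : ∀ a ∈ A, τ a ∈ A := c1 ▸ hom_comm hom le_rfl le_rfl maps maps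
  have τZ : ∀ a ∈ Z, τ a ∈ Z := c2 ▸ hom_comm hom AC le_rfl τA maps
  have dec : ∀ a ∈ A, ∃ k : ℕ, ∃ z ∈ Z, a = y ^ k * z := fun a ha => by
    rw [gA, sup_comm, ← SetLike.mem_coe, mul_normal] at ha
    obtain ⟨_, h1, z, hz, rfl⟩ := ha
    obtain ⟨k, rfl⟩ := mem_powers_iff_mem_zpowers.2 h1
    exact ⟨k, z, hz, rfl⟩
  obtain ⟨d, z₀, hz₀, ey⟩ := dec _ (τA y yA)
  have cen : ∀ z ∈ Z, ∀ x ∈ C, Commute x z := fun z hz x hx => c4.ge hz x hx
  have hd : ∀ w ∈ A, QuotientGroup.mk' Z (τ w) = QuotientGroup.mk' Z w ^ d := fun w hw => by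
    obtain ⟨k, z, hz, rfl⟩ := dec w hw
    have t : ∀ z ∈ Z, QuotientGroup.mk' Z z = 1 := fun z hz => (QuotientGroup.eq_one_iff z).2 hz
    rw [hom.map_mul (pow_mem yC k) (AC (ZA hz)), hom.map_pow yC, ey]
    simp only [map_mul, map_pow, t _ hz₀, t _ hz, t _ (τZ z hz), mul_one, ← pow_mul, mul_comm]
  have βZ : ∀ x ∈ C, ⁅x, y⁆ ∈ Z := fun x hx => by
    rw [← c2, commutator_comm]; exact commutator_mem_commutator hx yA
  let β : C →* Z := MonoidHom.mk' (fun x => ⟨⁅(x : G), y⁆, βZ x x.2⟩) fun a b => Subtype.ext (by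
    change ⁅(a : G) * b, y⁆ = ⁅(a : G), y⁆ * ⁅(b : G), y⁆
    rw [PG.commutator_mul_left_of_commute (cen _ (βZ b b.2) a a.2)]
    exact cen _ (βZ a a.2) _ (AC (ZA (βZ b b.2))))
  have kβ : β.ker = A.subgroupOf C := by
    ext x
    rw [MonoidHom.mem_ker, mem_subgroupOf, Subtype.ext_iff]
    change ⁅(x : G), y⁆ = 1 ↔ _
    rw [commutatorElement_eq_one_iff_mul_comm]
    refine ⟨fun e => c3.le ?_, fun e => (c3.ge e y yA).symm⟩
    have : A ≤ centralizer {(x : G)} := gA.le.trans (sup_le (fun z hz => mem_centralizer_singleton_iff.2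
      (cen z hz x x.2).symm) (zpowers_le.2 (mem_centralizer_singleton_iff.2 e.symm)))
    exact fun a ha => mem_centralizer_singleton_iff.1 (this ha)
  have eβ : ∀ a b : C, β a = β b → (a : G)⁻¹ * b ∈ A := fun a b e =>
    kβ.le (show a⁻¹ * b ∈ β.ker by rw [MonoidHom.mem_ker, map_mul, map_inv, e, inv_mul_cancel])
  have sβ : Function.Surjective β := by
    have := β.ker.card_mul_index
    rw [index_ker, kβ, Nat.card_congr (subgroupOfEquivOfLe AC).toEquiv, cA, cC, show p ^ 5 = p ^ 3 * p ^ 2 by ring,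
      ← cZ] at this
    exact MonoidHom.range_eq_top.1 (eq_top_of_card_eq _ (Nat.eq_of_mul_eq_mul_left (pow_pos hp.out.pos 3) this))
  have τβ : ∀ x : C, τ (β x) = β (⟨τ x, maps x x.2⟩ ^ d) := fun x => by
    rw [map_pow]
    change τ ⁅(x : G), y⁆ = ⁅τ x, y⁆ ^ d
    rw [hom.map_commutator x.2 yC, ey, ← PG.commutator_pow_right (cen _ (βZ _ (maps x x.2)) y yC)]
    simpa using EndC.cen_cm (a := τ x) (Commute.one_left _) (cen z₀ hz₀ _ (maps x x.2)).symm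
  have key : ∀ (x₁ x₂ : C) (b c : ℕ), ⁅(x₁ : G), (x₂ : G)⁆ ∉ Z → τ (β x₁) = β x₁ → τ (β x₂) = β (x₁ ^ c * x₂ ^ b) →
      (d : F) ^ 3 = b := fun x₁ x₂ b c n e1 e2 => by
    have := EndC.key AC c1.le c2.le hom maps hd x₁.2 x₂.2 (eβ _ _ (Subtype.ext (e1.symm.trans (τβ x₁))))
      (eβ _ _ (Subtype.ext (e2.symm.trans (τβ x₂))))
    rw [← Nat.cast_pow]
    refine EndC.ord (p := p) ?_ (fun l => n ((QuotientGroup.eq_one_iff _).1 l)) this
    rw [← QuotientGroup.mk_pow, pA _ (c1.le (commutator_mem_commutator x₁.2 x₂.2)), QuotientGroup.mk_one]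
  have ZE : Z ≤ E := c4.ge.trans ((centralizer_le (h.le.trans hT)).trans h.cent)
  have AT : A ≤ T := fun a ha => h.mem_T fun e he => ZE (c2.le (commutator_mem_commutator ha (hT (h.le he))))
  have ψZ : ∀ z ∈ Z, ψ₂ z = 0 := fun z hz => h.psi2_eq_zero (ZE hz) fun t ht => by
    rw [commutatorElement_eq_one_iff_mul_comm.2 (cen z hz t (hT ht))]; exact one_mem _
  have lin : ∀ {X : Subgroup G} {f : G → F}, (∀ t ∈ X, ∀ u ∈ X, f (t * u) = f t + f u) → y ∈ X → Z ≤ X → f z₀ = 0 →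
      f (τ y) = d * f y := fun hf hy hZ h0 => by
    rw [ey, hf _ (pow_mem hy d) _ (hZ hz₀), h0, add_zero, add_pow' hf (add_one hf) hy]
  have cT := h.card_T
  rw [h.card_E] at cT
  have cT' := Subgroup.card_le_of_le hT
  have cF : Nat.card F = p := by
    have := Fintype.ofFinite F
    obtain ⟨k, -, hk⟩ := FiniteField.card F p
    rw [Nat.card_eq_fintype_card, hk]
    have h1 : Nat.card F ^ 3 ≤ p ^ 5 := by
      calc _ = Nat.card F * (Nat.card F ^ 2 * 1) := by ring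
        _ ≤ _ := by rw [← cC]; refine le_trans ?_ cT'; rw [cT]; gcongr; exact Nat.card_pos
    rw [Nat.card_eq_fintype_card, hk, ← pow_mul, Nat.pow_le_pow_iff_right hp.out.one_lt] at h1
    have := k.pos
    rw [show (k : ℕ) = 1 by omega, pow_one]
  have μ1 : μ ≠ 1 := fun l => h.sq_ne (by rw [l, one_pow])
  by_cases hB : Z ≤ h.B
  · have h1 := Subgroup.card_le_of_le hB
    rw [cF] at cT
    have h2 : p ^ 5 = p * (p ^ 2 * p ^ 2) := by ring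
    have eT : T = C := Subgroup.eq_of_le_of_card_ge hT (by rw [cT, cC, h2, ← cZ]; gcongr)
    have eB : Z = h.B := Subgroup.eq_of_le_of_card_ge hB (by
      rw [cT, cC, h2, ← cZ] at cT'
      exact Nat.le_of_mul_le_mul_left (Nat.le_of_mul_le_mul_left cT' hp.out.pos) Nat.card_pos)
    subst eT
    have AE : A ≤ E := c1.ge.trans (commutator_le.2 fun a ha b hb => (h.k_eq _ (AC (c1.le
      (commutator_mem_commutator ha hb)))).1 (by
        rw [commutatorElement_def, h.k_mul _ (mul_mem (mul_mem ha hb) (inv_mem ha)) _ (inv_mem hb),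
          h.k_mul _ (mul_mem ha hb) _ (inv_mem ha), h.k_mul _ ha _ hb, add_inv h.k_mul ha, add_inv h.k_mul hb]
        ring))
    have y2 : ψ₂ y = 0 := h.psi2_eq_zero (AE yA) fun t ht => hB (βZ t ht)
    have y1 : ψ₁ y ≠ 0 := fun l => yZ (eB.ge ⟨AE yA, l, y2⟩)
    have e1 : μ = d := mul_right_cancel₀ y1 ((h.t₁ y (AE yA)).symm.trans (lin h.mul₁ (AE yA) ZE (hB hz₀).2.1))
    obtain ⟨a, ha, b, hb, n⟩ : ∃ a ∈ T, ∃ b ∈ T, ⁅a, b⁆ ∉ Z := by
      by_contra! l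
      exact yZ (commutator_le.2 l (c1.ge yA))
    have := key ⟨a, ha⟩ ⟨b, hb⟩ 1 0 n (h.fix_B (hB (β _).2)) (by simpa using h.fix_B (hB (β _).2))
    exact absurd (h.even_of_pow (k := 3) (by rw [e1, this, Nat.cast_one])) (by decide)
  obtain ⟨z₂, hz₂, n₂⟩ := SetLike.not_le_iff_exists.1 hB
  have m₂ : ψ₁ z₂ ≠ 0 := fun l => n₂ ⟨ZE hz₂, l, ψZ _ hz₂⟩
  obtain ⟨z₁, hz₁, n₁, b₁⟩ : ∃ z₁ ∈ Z, z₁ ≠ 1 ∧ z₁ ∈ h.B := by
    obtain ⟨a, b, e, n⟩ := Function.not_injective_iff.1 fun l : Function.Injective fun z : Z => ψ₁ z =>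
      (Nat.card_le_card_of_injective _ l).not_gt (by rw [cF, cZ, sq]; exact lt_mul_self hp.out.one_lt)
    have m := mul_mem (inv_mem a.2) b.2
    exact ⟨_, m, fun l => n (Subtype.ext (inv_mul_eq_one.1 l)), ZE m, by
      rw [h.mul₁ _ (inv_mem (ZE a.2)) _ (ZE b.2), add_inv h.mul₁ (ZE a.2), e, neg_add_cancel], ψZ _ m⟩
  obtain ⟨x₁, e₁⟩ := sβ ⟨z₁, hz₁⟩
  obtain ⟨x₂, e₂⟩ := sβ ⟨z₂, hz₂⟩
  have gZ : ∀ z : Z, ∃ i j : ℕ, z = β (x₁ ^ i * x₂ ^ j) := fun z => by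
    have := eq_sup_zpowers hG (zpowers_le.2 hz₁) hz₂ (fun l => n₂ (zpowers_le.2 b₁ l)) (by
      rw [Nat.card_zpowers, orderOf_eq_prime (pA _ (ZA hz₁)) n₁, cZ, sq])
    obtain ⟨_, u, _, v, l⟩ := (coe_mul_of_right_le_normalizer_left _ _ (zpowers_le.2 (centralizer_le_normalizer _ (by
      rintro _ ⟨k, rfl⟩; exact ((cen _ hz₂ _ (AC (ZA hz₁))).zpow_left k).eq)))).le (this.le z.2)
    obtain ⟨i, rfl⟩ := mem_powers_iff_mem_zpowers.2 u
    obtain ⟨j, rfl⟩ := mem_powers_iff_mem_zpowers.2 v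
    exact ⟨i, j, Subtype.ext (by rw [map_mul, map_pow, map_pow, e₁, e₂]; exact l.symm)⟩
  have n₁₂ : ⁅(x₁ : G), (x₂ : G)⁆ ∉ Z := fun l => by
    have gen : ∀ X : Subgroup G, A ≤ X → (x₁ : G) ∈ X → (x₂ : G) ∈ X → C ≤ X := fun X h1 h2 h3 x hx => by
      obtain ⟨i, j, l⟩ := gZ (β ⟨x, hx⟩)
      exact (mul_mem_cancel_left (inv_mem (mul_mem (pow_mem h2 i) (pow_mem h3 j)))).1 (h1 (eβ _ _ l.symm))
    have a1 : ∀ x ∈ C, A ≤ cm x Z := fun x hx a ha => mem_cm'.2 (c2.le (commutator_mem_commutator ha hx))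
    have a2 : ∀ x : G, x ∈ cm x Z := fun x => mem_cm.2 (by rw [commutatorElement_self]; exact one_mem _)
    exact yZ (le_cs_iff.1 (gen (cs C Z) (le_cs_iff.2 c2.le)
      (mem_cs.2 fun a ha => mem_cm.1 (gen _ (a1 _ x₁.2) (a2 _) (mem_cm.2 l) ha))
      (mem_cs.2 fun a ha => mem_cm.1 (gen _ (a1 _ x₂.2) (mem_cm'.2 l) (a2 _) ha))) (c1.ge yA))
  obtain ⟨c, b, l⟩ := gZ ⟨_, τZ _ hz₂⟩
  have l' : τ z₂ = β (x₁ ^ c * x₂ ^ b) := congrArg Subtype.val l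
  have d3 := key x₁ x₂ b c n₁₂ (by rw [e₁]; exact h.fix_B b₁) (by rw [e₂]; exact l')
  have eb : μ = b := by
    rw [map_mul, map_pow, map_pow, e₁, e₂] at l'
    refine mul_right_cancel₀ m₂ ((h.t₁ _ (ZE hz₂)).symm.trans ?_)
    rw [l']
    change ψ₁ (z₁ ^ c * z₂ ^ b) = _
    rw [h.mul₁ _ (pow_mem (ZE hz₁) _) _ (pow_mem (ZE hz₂) _), (pow_mem b₁ c).2.1, zero_add,
      add_pow' h.mul₁ (add_one h.mul₁) (ZE hz₂)]
  rw [← eb] at d3
  have yE : y ∈ E := by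
    by_contra n
    have e1 : μ ^ 2 = d := mul_right_cancel₀ (mt (h.k_eq y (AT yA)).1 n) ((h.t_k y (AT yA)).symm.trans
      (lin h.k_mul (AT yA) (ZE.trans h.le) ((h.k_eq _ (h.le (ZE hz₀))).2 (ZE hz₀))))
    refine absurd (h.even_of_pow (k := 5) (mul_right_cancel₀ h.ne ?_)) (by decide)
    rw [one_mul]
    conv_rhs => rw [← d3, ← e1]
    ring
  have AE : A ≤ E := gA.le.trans (sup_le ZE (zpowers_le.2 yE))
  have nat : ∀ a : F, ∃ k : ℕ, (k : F) = a := fun a => by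
    obtain ⟨x, rfl⟩ := ((ZMod.castHom (dvd_refl p) F).injective.bijective_of_nat_card_le
      (by rw [cF, Nat.card_zmod])).2 a
    exact ⟨x.val, by simp⟩
  have kill : ∀ {f : G → F}, (∀ t ∈ E, ∀ u ∈ E, f (t * u) = f t + f u) → ∀ u ∈ E, f u ≠ 0 → ∀ e ∈ E,
      ∃ k : ℕ, f (e * u ^ k) = 0 := fun {f} hf u hu h0 e he => by
    obtain ⟨k, hk⟩ := nat (-f e / f u)
    exact ⟨k, by rw [hf _ he _ (pow_mem hu k), add_pow' hf (add_one hf) hu, hk, div_mul_cancel₀ _ h0, add_neg_cancel]⟩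
  have toB : ∀ e ∈ E, ψ₂ e = 0 → ∃ z ∈ Z, e * z ∈ h.B := fun e he h0 => by
    obtain ⟨k, hk⟩ := kill h.mul₁ z₂ (ZE hz₂) m₂ e he
    exact ⟨_, pow_mem hz₂ k, mul_mem he (pow_mem (ZE hz₂) k), hk, by
      rw [h.mul₂ _ he _ (pow_mem (ZE hz₂) k), h0, ψZ _ (pow_mem hz₂ k), add_zero]⟩
  have d1 : (d : F) ≠ (1 : ℕ) := fun l => μ1 (by rw [← d3, l]; simp)
  by_cases y2 : ψ₂ y = 0
  · obtain ⟨z, hz, hb⟩ := toB y yE y2
    have := hd _ (mul_mem yA (ZA hz))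
    rw [h.fix_B hb] at this
    refine d1 (EndC.ord (p := p) ?_ (fun l => yZ ((mul_mem_cancel_right hz).1 ((QuotientGroup.eq_one_iff _).1 l)))
      (this.symm.trans (pow_one _).symm))
    rw [← QuotientGroup.mk_pow, pA _ (mul_mem yA (ZA hz)), QuotientGroup.mk_one]
  have BA : h.B ≤ A := fun e he => by
    have eC := hT (h.le he.1)
    have := (h.fix_B (h.comm_mem_B he.1 yE)).symm.trans (τβ ⟨e, eC⟩)
    simp only [h.fix_B he, map_pow] at this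
    refine kβ.le (show (⟨e, eC⟩ : C) ∈ β.ker from ?_)
    by_contra n
    exact d1 (EndC.ord (p := p) (Subtype.ext (pA _ (ZA (β _).2))) n
      ((Subtype.ext this).symm.trans (pow_one _).symm))
  refine h.not_normal (le_antisymm AE (fun e he => ?_) ▸ nA)
  obtain ⟨k, hk⟩ := kill h.mul₂ y yE y2 e he
  obtain ⟨z, hz, hb⟩ := toB _ (mul_mem he (pow_mem yE k)) hk
  exact (mul_mem_cancel_right (pow_mem yA k)).1 ((mul_mem_cancel_right (ZA hz)).1 (BA hb))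

end CL.MCD
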