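import Cfsg.Agent.FUS.MD.Defs

/-! # Basic properties of coordinates -/

set_option autoImplicit false
set_option linter.unusedSectionVars false

namespace CL.MCD

open Subgroup Cfsg CL.MaxCl CL.Fus
open scoped commutatorElement

theorem add_one {X F : Type*} [Group X] [AddGroup F] {T : Subgroup X} {f : X → F}
    (hf : ∀ t ∈ T, ∀ u ∈ T, f (t * u) = f t + f u) : f 1 = 0 := by
  simpa using hf 1 T.one_mem 1 T.one_mem

theorem add_inv {X F : Type*} [Group X] [AddGroup F] {T : Subgroup X} {f : X → F}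
    (hf : ∀ t ∈ T, ∀ u ∈ T, f (t * u) = f t + f u) {x : X} (hx : x ∈ T) : f x⁻¹ = -f x := by
  have := hf _ (inv_mem hx) x hx
  rw [inv_mul_cancel, add_one hf] at this
  exact eq_neg_of_add_eq_zero_left this.symm

theorem add_pow' {X F : Type*} [Group X] [Semiring F] {T : Subgroup X} {f : X → F}
    (hf : ∀ t ∈ T, ∀ u ∈ T, f (t * u) = f t + f u) (h1 : f 1 = 0) {x : X} (hx : x ∈ T) (k : ℕ) :
    f (x ^ k) = k * f x := by
  induction k with
  | zero => simpa using h1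
  | succ k ih => rw [pow_succ, hf _ (pow_mem hx k) x hx, ih, Nat.cast_succ, add_mul, one_mul]

namespace Co
variable {X F : Type*} [Group X] [Field F] {T E : Subgroup X} {τ : X → X} {μ : F} {κ ψ₁ ψ₂ : X → F}
  (h : Co T E τ μ κ ψ₁ ψ₂)

/-- the kernel of `(ψ₁, ψ₂)` -/
def B : Subgroup X where
  carrier := {e | e ∈ E ∧ ψ₁ e = 0 ∧ ψ₂ e = 0}
  one_mem' := ⟨E.one_mem, add_one h.mul₁, add_one h.mul₂⟩
  mul_mem' := fun {a b} ha hb => ⟨E.mul_mem ha.1 hb.1, by rw [h.mul₁ a ha.1 b hb.1, ha.2.1, hb.2.1, add_zero],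
    by rw [h.mul₂ a ha.1 b hb.1, ha.2.2, hb.2.2, add_zero]⟩
  inv_mem' := fun {a} ha => ⟨E.inv_mem ha.1, by rw [add_inv h.mul₁ ha.1, ha.2.1, neg_zero],
    by rw [add_inv h.mul₂ ha.1, ha.2.2, neg_zero]⟩

theorem mem_B {e : X} : e ∈ h.B ↔ e ∈ E ∧ ψ₁ e = 0 ∧ ψ₂ e = 0 := Iff.rfl

theorem B_le : h.B ≤ E := fun _ he => he.1

theorem fix_B {e : X} (he : e ∈ h.B) : τ e = e := h.fix e he.1 he.2.1 he.2.2

include h

theorem conj_mem {t e : X} (ht : t ∈ T) (he : e ∈ E) : t * e * t⁻¹ ∈ E := by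
  have he' := h.le he
  rw [← h.k_eq _ (mul_mem (mul_mem ht he') (inv_mem ht)), h.k_mul _ (mul_mem ht he') _ (inv_mem ht), h.k_mul t ht e he',
    add_inv h.k_mul ht, (h.k_eq e he').2 he, add_zero, add_neg_cancel]

theorem maps_E {e : X} (he : e ∈ E) : τ e ∈ E := by
  rw [← h.k_eq _ (h.maps e (h.le he)), h.t_k e (h.le he), (h.k_eq e (h.le he)).2 he, mul_zero]

theorem comm_mem {t e : X} (ht : t ∈ T) (he : e ∈ E) : ⁅t, e⁆ ∈ E :=
  mul_mem (h.conj_mem ht he) (inv_mem he)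

theorem comm₁ {t e : X} (ht : t ∈ T) (he : e ∈ E) : ψ₁ ⁅t, e⁆ = κ t * ψ₂ e := by
  rw [commutatorElement_def, h.mul₁ _ (h.conj_mem ht he) _ (inv_mem he), add_inv h.mul₁ he, h.cj₁ t ht e he]
  ring

theorem comm₂ {t e : X} (ht : t ∈ T) (he : e ∈ E) : ψ₂ ⁅t, e⁆ = 0 := by
  rw [commutatorElement_def, h.mul₂ _ (h.conj_mem ht he) _ (inv_mem he), add_inv h.mul₂ he, h.cj₂ t ht e he,
    add_neg_cancel]

theorem comm_mem_B {t e : X} (ht : t ∈ E) (he : e ∈ E) : ⁅t, e⁆ ∈ h.B :=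
  ⟨h.comm_mem (h.le ht) he, by rw [h.comm₁ (h.le ht) he, (h.k_eq t (h.le ht)).2 ht, zero_mul], h.comm₂ (h.le ht) he⟩

theorem comm_mem_B' {t e : X} (ht : t ∈ T) (he : e ∈ E) (h2 : ψ₂ e = 0) : ⁅t, e⁆ ∈ h.B :=
  ⟨h.comm_mem ht he, by rw [h.comm₁ ht he, h2, mul_zero], h.comm₂ ht he⟩

theorem conj_mem_B {t e : X} (ht : t ∈ T) (he : e ∈ h.B) : t * e * t⁻¹ ∈ h.B :=
  ⟨h.conj_mem ht he.1, by rw [h.cj₁ t ht e he.1, he.2.1, he.2.2, mul_zero, add_zero], by rw [h.cj₂ t ht e he.1, he.2.2]⟩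

theorem mem_E_of_comm {t : X} (ht : t ∈ T) (hc : ∀ e ∈ E, ⁅t, e⁆ ∈ h.B) : t ∈ E := by
  obtain ⟨e, he, -, h2⟩ := h.surj 0 1
  have := (hc e he).2.1
  rw [h.comm₁ ht he, h2, mul_one] at this
  exact (h.k_eq t ht).1 this

theorem psi2_eq_zero {e : X} (he : e ∈ E) (hc : ∀ t ∈ T, ⁅t, e⁆ ∈ h.B) : ψ₂ e = 0 := by
  obtain ⟨t, ht, h1⟩ := h.k_surj 1
  have := (hc t ht).2.1
  rwa [h.comm₁ ht he, h1, one_mul] at this

theorem exists_not_mem : ∃ t ∈ T, t ∉ E := by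
  obtain ⟨t, ht, h1⟩ := h.k_surj 1
  exact ⟨t, ht, fun e => one_ne_zero (h1.symm.trans ((h.k_eq t ht).2 e))⟩

theorem exists_not_comm : ∃ t ∈ T, ∃ e ∈ E, ⁅t, e⁆ ∉ h.B := by
  obtain ⟨t, ht, h1⟩ := h.exists_not_mem
  by_contra! e
  exact h1 (h.mem_E_of_comm ht (e t ht))

theorem orderOf_eq [Finite F] : orderOf μ = Nat.card F - 1 := by
  let u := Units.mk0 μ h.ne
  have : zpowers u = ⊤ := eq_top_iff.2 fun x _ => by
    obtain ⟨k, hk⟩ := h.gen x x.ne_zero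
    exact ⟨k, Units.ext (by simpa [u] using hk)⟩
  rw [← Nat.card_units, ← orderOf_eq_card_of_zpowers_eq_top this, ← orderOf_units]
  rfl

theorem card_E : Nat.card E = Nat.card F ^ 2 * Nat.card h.B := by
  let f : E →* Multiplicative (F × F) := MonoidHom.mk' (fun e => Multiplicative.ofAdd (ψ₁ e, ψ₂ e)) fun a b => by
    rw [← ofAdd_add, Prod.mk_add_mk, coe_mul, h.mul₁ _ a.2 _ b.2, h.mul₂ _ a.2 _ b.2]
  have h1 : f.ker = h.B.subgroupOf E := by
    ext e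
    simp [f, mem_subgroupOf, mem_B, MonoidHom.mem_ker, Prod.ext_iff]
  have h2 : f.range = ⊤ := eq_top_iff.2 fun x _ => by
    obtain ⟨e, he, e1, e2⟩ := h.surj x.toAdd.1 x.toAdd.2
    exact ⟨⟨e, he⟩, by simp [f, e1, e2]⟩
  rw [← f.ker.index_mul_card, index_ker, h2, h1, card_top, Nat.card_congr (subgroupOfEquivOfLe h.B_le).toEquiv,
    Nat.card_congr Multiplicative.toAdd, Nat.card_prod, pow_two]

theorem card_T : Nat.card T = Nat.card F * Nat.card E := by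
  let f : T →* Multiplicative F := MonoidHom.mk' (fun e => Multiplicative.ofAdd (κ e)) fun a b => by
    rw [← ofAdd_add, coe_mul, h.k_mul _ a.2 _ b.2]
  have h1 : f.ker = E.subgroupOf T := by
    ext e
    simp [f, mem_subgroupOf, MonoidHom.mem_ker, h.k_eq _ e.2]
  have h2 : f.range = ⊤ := eq_top_iff.2 fun x _ => by
    obtain ⟨e, he, e1⟩ := h.k_surj x.toAdd
    exact ⟨⟨e, he⟩, by simp [f, e1]⟩
  rw [← f.ker.index_mul_card, index_ker, h2, h1, card_top, Nat.card_congr (subgroupOfEquivOfLe h.le).toEquiv,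
    Nat.card_congr Multiplicative.toAdd]

/-- transport along an isomorphism -/
theorem transport {Y : Type*} [Group Y] {T' : Subgroup Y} {e : X → Y} {e' : Y → X} (hi : IsoOn T T' e e') {τ' : Y → Y}
    (hτ : ∀ t ∈ T, τ' (e t) = e (τ t)) : Co T' (img e E) τ' μ (κ ∘ e') (ψ₁ ∘ e') (ψ₂ ∘ e') := by
  have l : ∀ t ∈ T, e' (e t) = t := hi.left
  have oT : ∀ {Q : Y → Prop}, (∀ t ∈ T, Q (e t)) → ∀ y ∈ T', Q y := fun H y hy => hi.right y hy ▸ H _ (hi.maps' y hy)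
  have oE : ∀ {Q : Y → Prop}, (∀ t ∈ E, Q (e t)) → ∀ y ∈ img e E, Q y := fun H y hy => by
    obtain ⟨x, hx, rfl⟩ := (hi.mem_img h.le).1 hy
    exact H x hx
  have m : ∀ t ∈ T, ∀ u ∈ T, e' (e t * e u) = t * u := fun t ht u hu => by
    rw [← hi.map_mul ht hu, l _ (mul_mem ht hu)]
  have c : ∀ t ∈ T, ∀ u ∈ T, e' (e t * e u * (e t)⁻¹) = t * u * t⁻¹ := fun t ht u hu => by
    rw [← hi.map_inv ht, ← hi.map_mul ht hu, m _ (mul_mem ht hu) _ (inv_mem ht)]
  have r : ∀ t ∈ T, e' (τ' (e t)) = τ t := fun t ht => by rw [hτ t ht, l _ (h.maps t ht)]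
  refine ⟨hi.img_le h.le, ?_, oT fun t ht => hτ t ht ▸ hi.maps _ (h.maps t ht), oT fun t ht => oT fun u hu => ?_,
    oT fun t ht => ?_, fun a => ?_, oE fun t ht => oE fun u hu => ?_, oE fun t ht => oE fun u hu => ?_, fun a b => ?_,
    oT fun t ht => oE fun u hu => ?_, oT fun t ht => oE fun u hu => ?_, oT fun t ht => ?_, oE fun t ht => ?_,
    oE fun t ht => ?_, oE fun t ht h1 h2 => ?_, h.gen, h.ne⟩
  · intro x hx y hy
    revert y
    revert x
    refine oT fun t ht => oT fun u hu => ?_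
    rw [← hi.map_mul ht hu, hτ _ (mul_mem ht hu), hτ t ht, hτ u hu, h.hom.map_mul ht hu,
      hi.map_mul (h.maps t ht) (h.maps u hu)]
  · simp only [Function.comp, m t ht u hu, l t ht, l u hu, h.k_mul t ht u hu]
  · simp only [Function.comp, l t ht, h.k_eq t ht, hi.map_mem_img_iff h.le ht]
  · obtain ⟨t, ht, rfl⟩ := h.k_surj a
    exact ⟨e t, hi.maps t ht, by simp only [Function.comp, l t ht]⟩
  · simp only [Function.comp, m t (h.le ht) u (h.le hu), l t (h.le ht), l u (h.le hu), h.mul₁ t ht u hu]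
  · simp only [Function.comp, m t (h.le ht) u (h.le hu), l t (h.le ht), l u (h.le hu), h.mul₂ t ht u hu]
  · obtain ⟨t, ht, rfl, rfl⟩ := h.surj a b
    exact ⟨e t, mem_img_of_mem e ht, by simp only [Function.comp, l t (h.le ht)], by
      simp only [Function.comp, l t (h.le ht)]⟩
  · simp only [Function.comp, c t ht u (h.le hu), l t ht, l u (h.le hu), h.cj₁ t ht u hu]
  · simp only [Function.comp, c t ht u (h.le hu), l u (h.le hu), h.cj₂ t ht u hu]
  · simp only [Function.comp, r t ht, l t ht, h.t_k t ht]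
  · simp only [Function.comp, r t (h.le ht), l t (h.le ht), h.t₁ t ht]
  · simp only [Function.comp, r t (h.le ht), l t (h.le ht), h.t₂ t ht]
  · simp only [Function.comp, l t (h.le ht)] at h1 h2
    rw [hτ t (h.le ht), h.fix t ht h1 h2]

theorem congr {τ' : X → X} (e : Set.EqOn τ' τ T) : Co T E τ' μ κ ψ₁ ψ₂ :=
  { h with
    hom := h.hom.congr e.symm
    maps := fun t ht => e ht ▸ h.maps t ht
    t_k := fun t ht => e ht ▸ h.t_k t ht
    t₁ := fun t ht => e (h.le ht) ▸ h.t₁ t ht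
    t₂ := fun t ht => e (h.le ht) ▸ h.t₂ t ht
    fix := fun t ht h1 h2 => (e (h.le ht)).trans (h.fix t ht h1 h2) }

end Co

namespace Cf
variable {G F : Type*} [Group G] [Finite G] [Field F] {p n : ℕ} [hp : Fact p.Prime] {T E : Subgroup G} {τ : G → G} {μ : F}
  {κ ψ₁ ψ₂ : G → F} (h : Cf p n T E τ μ κ ψ₁ ψ₂)
include h

theorem mem_T {y : G} (hy : ∀ e ∈ E, ⁅y, e⁆ ∈ E) : y ∈ T := by
  rw [← h.norm]
  refine mem_normalizer_fintype fun e he => ?_
  simpa [commutatorElement_def] using mul_mem (hy e he) he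

theorem mem_E {y : G} (hy : ∀ e ∈ E, ⁅y, e⁆ ∈ h.B) : y ∈ E :=
  h.mem_E_of_comm (h.mem_T fun e he => h.B_le (hy e he)) hy

theorem false_of_norm (hn : normalizer (T : Set G) ≤ normalizer (E : Set G)) : False := by
  have := h.mc.isPGroup.isNilpotent
  exact (Group.normalizerCondition_of_isNilpotent T h.ne_top.lt_top).not_ge (hn.trans h.norm.le)

theorem false_of_inf {Y : Subgroup G} [hY : Y.Normal] (e : E = T ⊓ Y) : False :=
  h.false_of_norm fun g hg => mem_normalizer_fintype fun x hx => by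
    rw [e] at hx ⊢
    exact ⟨(mem_normalizer_iff.1 hg x).1 hx.1, hY.conj_mem x hx.2 g⟩

theorem not_normal : ¬ E.Normal := fun e => h.ne_top (h.norm.symm.trans (normalizer_eq_top E))

theorem last_le : P G (n - 1) ≤ E := CL.MCD.last_le h.mc h.cent

/-- the order of `μ` is even and at least `4` -/
theorem order [Finite F] [CharP F p] : Even (orderOf μ) ∧ 4 ≤ orderOf μ := by
  have := Fintype.ofFinite F
  obtain ⟨k, -, hk⟩ := FiniteField.card F p
  have h5 := h.five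
  have h1 : p ≤ p ^ (k : ℕ) := Nat.le_self_pow k.ne_zero p
  have h2 : Odd (p ^ (k : ℕ)) := (hp.out.odd_of_ne_two (by omega)).pow
  rw [h.orderOf_eq, Nat.card_eq_fintype_card, hk]
  exact ⟨Nat.Odd.sub_odd h2 odd_one, by omega⟩

theorem even_of_pow [Finite F] [CharP F p] {k : ℕ} (e : μ ^ k = 1) : Even k :=
  h.order.1.trans_dvd (orderOf_dvd_of_pow_eq_one e)

theorem sq_ne [Finite F] [CharP F p] : μ ^ 2 ≠ 1 := fun e => by
  have := Nat.le_of_dvd two_pos (orderOf_dvd_of_pow_eq_one e)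
  have := h.order.2
  omega

theorem not_isSquare [Finite F] [CharP F p] : ¬ IsSquare μ := by
  rintro ⟨r, hr⟩
  obtain ⟨k, rfl⟩ := h.gen r fun e => h.ne (by rw [hr, e, mul_zero])
  rcases k with _ | k
  · exact h.sq_ne (by rw [hr]; simp)
  · have : μ ^ (2 * k + 1) = 1 := mul_right_cancel₀ h.ne (by rw [one_mul]; nth_rewrite 3 [hr]; ring)
    exact (Nat.not_even_iff_odd.2 ⟨k, rfl⟩) (h.even_of_pow this)

end Cf

end CL.MCD
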