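import Cfsg.Agent.FUS.MD.Defs

/-! # A determinant character and a Frobenius group argument -/

set_option autoImplicit false

namespace CL.MCD

open Subgroup Cfsg CL.Fus
open scoped commutatorElement

variable {p : ℕ} [hp : Fact p.Prime]

universe u

theorem Det.lin {V F : Type*} [AddCommGroup V] [Module (ZMod p) V] [Module.Finite (ZMod p) V] [Field F]
    [Algebra (ZMod p) F] (T : Module.End (ZMod p) V) (ω : V →ₗ[ZMod p] F) {μ : F} (hω : ∀ v, ω (T v) = μ * ω v)
    (fix : ∀ v, ω v = 0 → T v = v) {v : V} (h1 : ω v ≠ 0) (gen : ∀ x : F, x ≠ 0 → ∃ k : ℕ, μ ^ k = x) :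
    LinearMap.det T = Algebra.norm (ZMod p) μ := by
  have pw : ∀ k : ℕ, ω ((T ^ k) v) = μ ^ k * ω v := fun k => by
    induction k with
    | zero => simp
    | succ k ih => rw [pow_succ', Module.End.mul_apply, hω, ih, pow_succ', mul_assoc]
  have sj : Function.Surjective ω := fun x => by
    by_cases h : x = 0
    · exact ⟨0, by rw [h, map_zero]⟩
    obtain ⟨k, hk⟩ := gen (x / ω v) (div_ne_zero h h1)
    exact ⟨_, by rw [pw k, hk, div_mul_cancel₀ _ h1]⟩
  have he : LinearMap.ker ω ≤ (LinearMap.ker ω).comap T := fun x hx => by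
    rw [Submodule.mem_comap, fix x hx]; exact hx
  have e1 : T.restrict he = LinearMap.id := LinearMap.ext fun x => Subtype.ext (fix x x.2)
  rw [T.det_eq_det_mul_det _ he, e1, LinearMap.det_id, one_mul,
    ← LinearMap.det_conj _ (ω.quotKerEquivOfSurjective sj), Algebra.norm_apply]
  congr 1
  refine LinearMap.ext fun x => ?_
  obtain ⟨q, rfl⟩ := (ω.quotKerEquivOfSurjective sj).surjective x
  obtain ⟨y, rfl⟩ := Submodule.Quotient.mk_surjective _ q
  simpa using hω y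

theorem Det.mod {Γ : Type u} {F : Type*} [Group Γ] [Finite Γ] [AddCommGroup F] {A : Subgroup (MulAut Γ)}
    {Y Y' : Subgroup Γ} (hY : ∀ a ∈ A, ∀ y ∈ Y, a y ∈ Y) (hY' : ∀ a ∈ A, ∀ y ∈ Y', a y ∈ Y')
    (hc : ∀ x ∈ Y, ∀ y ∈ Y, ⁅x, y⁆ ∈ Y') (hpow : ∀ y ∈ Y, y ^ p ∈ Y') {ω : Γ → F}
    (add : ∀ x ∈ Y, ∀ y ∈ Y, ω (x * y) = ω x + ω y) (h0 : ∀ y ∈ Y', ω y = 0) :
    ∃ (V : Type u) (_ : AddCommGroup V) (_ : Module (ZMod p) V) (_ : Module.Finite (ZMod p) V)
      (ρ : A →* Module.End (ZMod p) V) (ν : Y → V) (ω₁ : V →+ F), Function.Surjective ν ∧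
        (∀ (a : A) (x : Y), ρ a (ν x) = ν ⟨a.1 x, hY a a.2 x x.2⟩) ∧ ∀ x, ω₁ (ν x) = ω x := by
  have : (Y'.subgroupOf Y).Normal := ⟨fun x hx g => by
    have := mul_mem (hc g g.2 x x.2) (mem_subgroupOf.1 hx)
    rw [commutatorElement_def, inv_mul_cancel_right] at this
    exact this⟩
  let _ : CommGroup (Y ⧸ Y'.subgroupOf Y) :=
    { (inferInstance : Group (Y ⧸ Y'.subgroupOf Y)) with
      mul_comm := fun a b => by
        obtain ⟨a, rfl⟩ := QuotientGroup.mk_surjective a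
        obtain ⟨b, rfl⟩ := QuotientGroup.mk_surjective b
        rw [← QuotientGroup.mk_mul, ← QuotientGroup.mk_mul, QuotientGroup.eq]
        have := hc _ (inv_mem b.2) _ (inv_mem a.2)
        rw [commutatorElement_def] at this
        simpa [mul_assoc, mem_subgroupOf] using this }
  let _ : Module (ZMod p) (Additive (Y ⧸ Y'.subgroupOf Y)) := AddCommGroup.zmodModule fun x => by
    obtain ⟨a, ha⟩ := QuotientGroup.mk_surjective (Additive.toMul x)
    change Additive.ofMul (Additive.toMul x ^ p) = Additive.ofMul 1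
    rw [← ha, ← QuotientGroup.mk_pow, (QuotientGroup.eq_one_iff (N := Y'.subgroupOf Y) _).2 (hpow a a.2)]
  let ω₀ : Y →* Multiplicative F := MonoidHom.mk' (fun y => Multiplicative.ofAdd (ω y)) fun a b =>
    congrArg Multiplicative.ofAdd (add a a.2 b b.2)
  refine ⟨Additive (Y ⧸ Y'.subgroupOf Y), inferInstance, inferInstance, Module.Finite.of_finite,
    (MCN.Fu.toEnd p _).comp
      (QuadCent.quotHom (QuadCent.resHom A.subtype Y fun g => hY g g.2) _ fun g a ha => hY' g g.2 a ha),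
    fun x => Additive.ofMul (x : Y ⧸ Y'.subgroupOf Y), MonoidHom.toAdditiveLeft
      (QuotientGroup.lift (Y'.subgroupOf Y) ω₀ fun y hy => congrArg Multiplicative.ofAdd (h0 y hy)),
    fun v => QuotientGroup.mk_surjective (s := Y'.subgroupOf Y) v, fun _ _ => ?_, fun _ => ?_⟩
  · rfl
  · rfl

/-- `M = Y / Y'` is an elementary abelian `p`-group, an `𝔽_p`-module for `A` (compare `CL.MCN.Fu.toEnd`, `exists_lin`);
`χ = det`. `ω` induces a linear surjection `M → F` with kernel `W`; `τ` is the identity on `W` and induces on `M / W ≅ F` the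
multiplication by `μ`, so `det τ = Algebra.norm (ZMod p) μ` (`LinearMap.det_eq_det_mul_det`, `LinearMap.det_conj`,
`Algebra.norm_apply`), and `χ (τ ^ k)` runs over all norms (`FiniteField.norm_surjective`). -/
theorem exists_det {Γ F : Type*} [Group Γ] [Finite Γ] [Field F] [Finite F] [CharP F p] {A : Subgroup (MulAut Γ)}
    {Y Y' : Subgroup Γ} (hle : Y' ≤ Y) (hY : ∀ a ∈ A, ∀ y ∈ Y, a y ∈ Y) (hY' : ∀ a ∈ A, ∀ y ∈ Y', a y ∈ Y')
    (hc : ∀ x ∈ Y, ∀ y ∈ Y, ⁅x, y⁆ ∈ Y') (hpow : ∀ y ∈ Y, y ^ p ∈ Y') {τ : MulAut Γ} (hτ : τ ∈ A) {ω : Γ → F} {μ : F}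
    (add : ∀ x ∈ Y, ∀ y ∈ Y, ω (x * y) = ω x + ω y) (h0 : ∀ y ∈ Y', ω y = 0) (h1 : ∃ y ∈ Y, ω y ≠ 0)
    (hω : ∀ y ∈ Y, ω (τ y) = μ * ω y) (fix : ∀ y ∈ Y, ω y = 0 → τ y = y) (gen : ∀ x : F, x ≠ 0 → ∃ k : ℕ, μ ^ k = x) :
    ∃ χ : A →* (ZMod p)ˣ, Function.Surjective χ := by
  let _ := ZMod.algebra F p
  obtain ⟨V, _, _, _, ρ, ν, ω₁, hsur, hρ, h2⟩ := Det.mod hY hY' hc hpow add h0
  have ind : ∀ {Q : V → Prop}, (∀ y : Y, Q (ν y)) → ∀ v, Q v := fun H v => by
    obtain ⟨y, rfl⟩ := hsur v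
    exact H y
  obtain ⟨y, hy, hy0⟩ := h1
  have key := Det.lin (ρ ⟨τ, hτ⟩) (ω₁.toZModLinearMap p) (ind fun y => by
      rw [hρ]; exact (h2 _).trans ((hω y y.2).trans (congrArg _ (h2 y).symm))) (ind fun y h => by
      rw [hρ]; exact congrArg ν (Subtype.ext (fix y y.2 ((h2 y).symm.trans h))))
    (v := ν ⟨y, hy⟩) (fun l => hy0 ((h2 ⟨y, hy⟩).symm.trans l)) gen
  refine ⟨(LinearMap.det.comp ρ).toHomUnits, fun u => ?_⟩
  obtain ⟨x, hx⟩ := FiniteField.norm_surjective (ZMod p) F u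
  obtain ⟨k, rfl⟩ := gen x (by rintro rfl; exact u.ne_zero (by rw [← hx, Algebra.norm_zero]))
  exact ⟨⟨τ, hτ⟩ ^ k, Units.ext (by
    rw [MonoidHom.coe_toHomUnits, map_pow, MonoidHom.comp_apply, key, ← map_pow, hx])⟩

/-- `R` is a `p'`-subgroup normalized by `s` with `C_R(s) = 1`. The elements `r sⁱ r⁻¹` (`r ∈ R`, `0 < i < p`) are distinct and
are exactly the `r' sⁱ` (`r ↦ r sⁱ r⁻¹ s⁻ⁱ` is an injective, so bijective, self-map of `R`). With `N = ∑ sⁱ = (s - 1) ^ (p-1) = 0`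
(`CL.MCN.De.sum_pow`) and `Σ = ∑ r`: `0 = ∑ r N r⁻¹ = |R| + ∑_{i ≠ 0} Σ sⁱ` and `0 = Σ N = Σ + ∑_{i ≠ 0} Σ sⁱ`, so
`Σ = |R|`, `ρ r * |R| = ρ r * Σ = Σ = |R|`, `ρ r = 1`. -/
theorem frob_eq_bot {G V : Type*} [Group G] [Finite G] [AddCommGroup V] [Module (ZMod p) V]
    (ρ : G →* Module.End (ZMod p) V) (inj : Function.Injective ρ) {s : G} (hs : s ^ p = 1)
    (hD : (ρ s - 1) ^ (p - 1) = 0) {R : Subgroup G} (hR : ¬ p ∣ Nat.card R) (hn : s ∈ normalizer (R : Set G))
    (hc : ∀ r ∈ R, Commute r s → r = 1) : R = ⊥ := by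
  classical
  have := Fintype.ofFinite R
  have hN : ∑ i : ZMod p, ρ (s ^ i.val) = 0 := by simp only [map_pow]; rw [MCN.De.sum_pow, hD]
  have h1 : ∑ i : ZMod p, ∑ r : R, ρ (r * s ^ i.val * r⁻¹) = 0 := by
    rw [Finset.sum_comm]
    refine Finset.sum_eq_zero fun r _ => ?_
    simp only [map_mul]
    rw [← Finset.sum_mul, ← Finset.mul_sum, hN, mul_zero, zero_mul]
  have h2 : ∑ i : ZMod p, ∑ r : R, ρ (r * s ^ i.val) = 0 := by
    rw [Finset.sum_comm]
    refine Finset.sum_eq_zero fun r _ => ?_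
    simp only [map_mul]
    rw [← Finset.mul_sum, hN, mul_zero]
  have h3 : ∀ i : ZMod p, i ≠ 0 → ∑ r : R, ρ (r * s ^ i.val * r⁻¹) = ∑ r : R, ρ (r * s ^ i.val) := fun i hi => by
    let f : R → R := fun r => ⟨r * (s ^ i.val * r⁻¹ * (s ^ i.val)⁻¹),
      mul_mem r.2 ((mem_normalizer_iff.1 (pow_mem hn _) _).1 (inv_mem r.2))⟩
    have hf : Function.Injective f := fun a b e => by
      have e1 : (a : G) * (s ^ i.val * (a : G)⁻¹ * (s ^ i.val)⁻¹) = b * (s ^ i.val * (b : G)⁻¹ * (s ^ i.val)⁻¹) :=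
        congrArg Subtype.val e
      have e2 : Commute ((b : G)⁻¹ * a) (s ^ i.val) := by
        calc (b : G)⁻¹ * a * s ^ i.val =
            (b : G)⁻¹ * (a * (s ^ i.val * (a : G)⁻¹ * (s ^ i.val)⁻¹)) * s ^ i.val * a := by group
          _ = _ := by rw [e1]; group
      obtain ⟨m, hm⟩ := exists_pow_eq_self_of_coprime (x := s) (n := i.val)
        (Nat.Coprime.coprime_dvd_right (orderOf_dvd_of_pow_eq_one hs)
          (Nat.coprime_of_lt_prime (by rwa [Ne, ZMod.val_eq_zero]) i.val_lt hp.out).symm)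
      exact Subtype.ext (inv_mul_eq_one.1 (hc _ (mul_mem (inv_mem b.2) a.2) (hm ▸ e2.pow_right m))).symm
    exact Fintype.sum_bijective f (Finite.injective_iff_bijective.1 hf) _ _ fun r => by
      simp only [f]; congr 1; group
  rw [← Finset.add_sum_erase _ _ (Finset.mem_univ 0)] at h1 h2
  rw [Finset.sum_congr rfl fun i hi => h3 i (Finset.ne_of_mem_erase hi), ← h2, add_left_inj] at h1
  simp only [ZMod.val_zero, pow_zero, mul_one, mul_inv_cancel, map_one, Finset.sum_const, Finset.card_univ,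
    ← coe_mul, coe_one] at h1
  refine (eq_bot_iff_forall _).2 fun r hr => inj ?_
  have h4 : ρ r * ∑ x : R, ρ x = ∑ x : R, ρ x := by
    rw [Finset.mul_sum]
    exact Fintype.sum_equiv (Equiv.mulLeft ⟨r, hr⟩) _ _ fun x => (map_mul ..).symm
  rw [← h1, mul_smul_comm, mul_one, ← Nat.cast_smul_eq_nsmul (ZMod p), ← Nat.cast_smul_eq_nsmul (ZMod p)] at h4
  rw [map_one]
  exact smul_right_injective _ (by rwa [Ne, ZMod.natCast_eq_zero_iff, ← Nat.card_eq_fintype_card]) h4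

/-- Let `S = ⟨s⟩`, `N = N(S)`, `K = ker χ ≥ S`. `N / C(s)` embeds in `Aut(S)`, so `|N| ≤ p (p - 1)`; by the Frattini argument
(`SylIn.frattini`) `χ N` is everything, so `|N ⊓ K| ≤ p`, `N ⊓ K = S`. By Burnside (`MonoidHom.transferSylow`,
`MonoidHom.not_dvd_card_ker_transferSylow` in `K`, as in `CL.MCN.Pair.exists_norm`) `K = R S` with a normal `p'`-subgroup `R`,
`R = 1` by `frob_eq_bot`, so `S = K` is normal. (If `s = 1` there is nothing to prove.) -/
theorem normal_of_det {G V : Type*} [Group G] [Finite G] [AddCommGroup V] [Module (ZMod p) V]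
    (ρ : G →* Module.End (ZMod p) V) (inj : Function.Injective ρ) {s : G} (hs : s ^ p = 1)
    (syl : SylIn p (zpowers s) ⊤) (hD : (ρ s - 1) ^ (p - 1) = 0) (hc : ∀ g, Commute g s → g ∈ zpowers s)
    (χ : G →* (ZMod p)ˣ) (hχ : Function.Surjective χ) : (zpowers s).Normal := by
  by_cases s1 : s = 1
  · rw [s1, zpowers_one_eq_bot]; infer_instance
  have cS : Nat.card (zpowers s) = p := by rw [Nat.card_zpowers, orderOf_eq_prime hs s1]
  have SK : zpowers s ≤ χ.ker := zpowers_le.2 (by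
    have h1 := ZMod.units_pow_card_sub_one_eq_one p (χ s)
    have h2 : χ s ^ (p - 1 + 1) = 1 := by rw [Nat.sub_add_cancel hp.out.pos, ← map_pow, hs, map_one]
    rwa [pow_succ, h1, one_mul] at h2)
  have sK := syl.of_le SK le_top
  have c1 : Nat.card (normalizer (zpowers s : Set G)) ≤ p * (p - 1) := by
    rw [← (zpowers s).normalizerMonoidHom.ker.card_mul_index, index_ker, normalizerMonoidHom_ker]
    refine Nat.mul_le_mul ?_ ?_
    · rw [Nat.card_congr (subgroupOfEquivOfLe (centralizer_le_normalizer _)).toEquiv, ← cS]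
      exact card_le_of_le fun g hg => hc g (hg s (mem_zpowers s)).symm
    · refine (card_le_card_group _).trans ?_
      rw [IsCyclic.card_mulAut, cS, Nat.totient_prime hp.out]
  have c2 : Nat.card (normalizer (zpowers s : Set G)) =
      Nat.card ↥(χ.ker ⊓ normalizer (zpowers s : Set G)) * (p - 1) := by
    rw [← (χ.comp (normalizer (zpowers s : Set G)).subtype).ker.card_mul_index, index_ker,
      MonoidHom.range_eq_top.2, card_top, Nat.card_units, Nat.card_zmod, ← MonoidHom.comap_ker,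
      ← Nat.card_congr (subgroupOfEquivOfLe inf_le_right).toEquiv, inf_subgroupOf_right]
    · rfl
    · intro u
      obtain ⟨b, rfl⟩ := hχ u
      obtain ⟨c, hc', e⟩ := sK.frattini (b := b) ((normalizer_eq_top _).ge (mem_top b))
      exact ⟨⟨_, e⟩, by simp [MonoidHom.mem_ker.1 hc']⟩
  have e1 : zpowers s = χ.ker ⊓ normalizer (zpowers s : Set G) :=
    Subgroup.eq_of_le_of_card_ge (le_inf SK le_normalizer) (by
      rw [c2] at c1
      rw [cS]
      exact Nat.le_of_mul_le_mul_right c1 (Nat.sub_pos_of_lt hp.out.one_lt))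
  obtain ⟨-, P, hP⟩ := sylIn_iff_exists_sylow.1 sK
  have hB : normalizer (P : Set χ.ker) ≤ centralizer (P : Set χ.ker) := fun x hx y hy => by
    have h1 : x ∈ normalizer ((P : Subgroup χ.ker) : Set χ.ker) := hx
    rw [hP, ← subgroupOf_normalizer_eq SK] at h1
    obtain ⟨a, ha⟩ := mem_zpowers_iff.1 (e1.ge ⟨x.2, h1⟩)
    obtain ⟨b, hb⟩ := mem_zpowers_iff.1 (hP.le hy)
    exact Subtype.ext (by
      rw [coe_mul, coe_mul, ← ha, ← show s ^ b = y from hb]; exact (Commute.zpow_zpow_self s b a).eq)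
  have hC := MonoidHom.ker_transferSylow_isComplement' P hB
  have e2 := frob_eq_bot ρ inj hs hD (R := (MonoidHom.transferSylow P hB).ker.map χ.ker.subtype)
    (by rw [card_map_of_injective χ.ker.subtype_injective]; exact MonoidHom.not_dvd_card_ker_transferSylow P hB)
    (le_normalizer_map _ ⟨⟨s, SK (mem_zpowers s)⟩, (normalizer_eq_top _).ge (mem_top _), rfl⟩)
    (by
      rintro _ ⟨r, hr, rfl⟩ h
      exact congrArg Subtype.val (mem_bot.1 (hC.disjoint.le_bot ⟨hr, hP.ge (hc _ h)⟩)))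
  rw [map_eq_bot_iff_of_injective _ χ.ker.subtype_injective] at e2
  rw [e2, isComplement'_bot_left, hP, subgroupOf_eq_top] at hC
  rw [le_antisymm SK hC]
  infer_instance

end CL.MCD
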