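import Cfsg.Agent.FUS.MD.Out
import Cfsg.Agent.FUS.MD.Co
import Cfsg.Agent.FUS.MD.Wt
import Cfsg.Agent.FUS.MD.Det

/-! # The configuration when `τ` extends to `Γ₁` -/

set_option autoImplicit false
set_option linter.unusedSectionVars false

namespace CL.MCD

open Subgroup Cfsg Cfsg.FusionSystem CL.MaxCl CL.Fus
open scoped commutatorElement

universe u
variable {G : Type u} {K : Type*} [Group G] [Finite G] [Field K] [Finite K] {p n : ℕ} [hp : Fact p.Prime] [CharP K p]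
  {T E : Subgroup G} {τ : G → G} {μ : K} {κ ψ₁ ψ₂ : G → K}

theorem exists_char_step {Γ : Type*} [Group Γ] [Finite Γ] (hΓ : IsPGroup p Γ) {Y' : Subgroup Γ}
    (h : ∀ a : MulAut Γ, ∀ y ∈ Y', a y ∈ Y') (hne : Y' ≠ ⊤) : ∃ Y : Subgroup Γ, Y' < Y ∧ (∀ a : MulAut Γ, ∀ y ∈ Y, a y ∈ Y) ∧
      (∀ y ∈ Y, y ^ p ∈ Y') ∧ ∀ y ∈ Y, ∀ g : Γ, ⁅g, y⁆ ∈ Y' := by
  have hn : Y'.Normal := ⟨fun x hx g => h (MulAut.conj g) x hx⟩
  have cm : ∀ g y : Γ, ⁅g, y⁆ ∈ Y' ↔ Commute (g : Γ ⧸ Y') y := fun g y => by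
    rw [← QuotientGroup.eq_one_iff, ← commutatorElement_eq_one_iff_commute]; rfl
  have pw : ∀ y : Γ, y ^ p ∈ Y' ↔ (y : Γ ⧸ Y') ^ p = 1 := fun y => by rw [← QuotientGroup.eq_one_iff]; rfl
  refine ⟨{
    carrier := {y | y ^ p ∈ Y' ∧ ∀ g : Γ, ⁅g, y⁆ ∈ Y'}
    one_mem' := by simp
    mul_mem' := fun {a b} ha hb => ?_
    inv_mem' := fun {a} ha => ?_ }, lt_of_le_of_ne (fun y hy => ⟨pow_mem hy p, fun g =>
      mul_mem (hn.conj_mem y hy g) (inv_mem hy)⟩) fun e => ?_, fun a y hy => ⟨map_pow a y p ▸ h a _ hy.1, fun g => ?_⟩,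
    fun y hy => hy.1, fun y hy => hy.2⟩
  · simp only [Set.mem_ofPred_eq, cm, pw, QuotientGroup.mk_mul] at *
    exact ⟨by rw [(hb.2 a).mul_pow, ha.1, hb.1, one_mul], fun g => (ha.2 g).mul_right (hb.2 g)⟩
  · simp only [Set.mem_ofPred_eq, cm, pw, QuotientGroup.mk_inv] at *
    exact ⟨by rw [inv_pow, ha.1, inv_one], fun g => (ha.2 g).inv_right⟩
  · have := QuotientGroup.nontrivial_iff.2 hne
    obtain ⟨z, -, hz, o⟩ := PN.exists_mem_center_orderOf_eq (hΓ.to_quotient Y') ⊤ top_ne_bot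
    obtain ⟨z, rfl⟩ := QuotientGroup.mk_surjective z
    have : z ∈ Y' := e.ge ⟨(pw z).2 (o ▸ pow_orderOf_eq_one _), fun g => (cm g z).2 (mem_center_iff.1 hz _)⟩
    rw [(QuotientGroup.eq_one_iff z).2 this, orderOf_one] at o
    exact hp.out.ne_one o.symm
  · simpa [map_commutatorElement] using h a _ (hy.2 (a⁻¹ g))

namespace Cf
variable (h : Cf p n T E τ μ κ ψ₁ ψ₂) (hT : T ≤ P G 1)
include h hT

/-- `⁅P 1, P 1⁆ ≠ ⊥` by `exists_not_comm`. Suppose `⁅P 1, P 1⁆ ≤ Z = P (n-1)` and `C ≠ P 1`. Then `P 1 ≤ T` (`mem_T`),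
`Z ≰ B` (`exists_not_comm`), so `Z ⊓ B = ⊥`. `C(P 1) = Z` (a normal subgroup not containing `P (n-2)`, `normal_cases`,
`C_last`). If `1 ≠ b ∈ B`, `⁅t, b⁆ ∈ Z ⊓ B = 1` for `t ∈ T`, so `b ∈ Z`: `B = ⊥`. `ψ₁ ⁅t, e⁆ = κ t * ψ₂ e` takes all values
on `Z`, so `|K| ≤ p`, `p ^ (n-1) = |T| = |K|³` (`card_T`, `card_E`), against `n ≥ 5`. -/
theorem comm_cases : ¬ ⁅P G 1, P G 1⁆ ≤ P G (n - 1) ∨ (C G (n - 2) = P G 1 ∧ ⁅P G 1, P G 1⁆ ≠ ⊥) := by
  have hn := h.hn
  have h4 : 4 ≤ n := by omega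
  obtain ⟨t, ht, e, he, hte⟩ := h.exists_not_comm
  have m := commutator_mem_commutator (hT ht) (hT (h.le he))
  by_contra hc
  push Not at hc
  have cz : ∀ t ∈ T, ∀ e ∈ E, ⁅t, e⁆ ∈ P G (n - 1) := fun t ht e he => hc.1 (commutator_mem_commutator (hT ht) (hT (h.le he)))
  have PT : P G 1 ≤ T := fun y hy => h.mem_T fun e he => h.last_le (hc.1 (commutator_mem_commutator hy (hT (h.le he))))
  have pn : P G (n - 1 + 1) = ⊥ := h.mc.P_eq_bot (by omega)
  have ZB : ∀ z ∈ P G (n - 1), z ∈ h.B → z = 1 := fun z hz hb => by_contra fun z1 => hte <|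
    ((h.mc.sup_zpowers (.inr h4) hz (by rwa [pn])).le.trans (sup_le (pn.le.trans bot_le) (zpowers_le.2 hb))) (cz t ht e he)
  have CZ : centralizer (P G 1 : Set G) ≤ P G (n - 1) := by
    have : ¬ P G (n - 2) ≤ centralizer (P G 1 : Set G) := fun e => hte (by
      have := commutator_eq_bot_iff_le_centralizer.2 (le_centralizer_iff.1 e)
      rw [hc.2 (h.mc.C_eq_of_le h4 (by omega) (by omega) (this.le.trans bot_le))] at m
      exact mem_bot.1 m ▸ one_mem _)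
    obtain a | ⟨i, -, -, a⟩ := h.mc.normal_cases h4 (centralizer (P G 1 : Set G))
    · exact (this ((P_anti (by omega)).trans a)).elim
    · rw [a] at this ⊢
      exact P_anti (by_contra fun b => this (P_anti (by omega)))
  have B0 : h.B = ⊥ := (eq_bot_iff_forall _).2 fun b hb => ZB b (CZ fun y hy => commutatorElement_eq_one_iff_mul_comm.1
    (ZB _ (cz y (PT hy) b hb.1) (h.comm_mem_B' (PT hy) hb.1 hb.2.2))) hb
  have cK : Nat.card K ≤ p := by
    rw [← pow_one p, ← h.mc.card_P' h4 (i := n - 1) (by omega)]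
    refine Nat.card_le_card_of_surjective (fun z => ψ₁ z) fun a => ?_
    obtain ⟨t, ht, rfl⟩ := h.k_surj a
    obtain ⟨e, he, -, e2⟩ := h.surj 0 1
    exact ⟨⟨_, cz t ht e he⟩, by simp only [h.comm₁ ht he, e2, mul_one]⟩
  have c1 := card_le_of_le PT
  rw [h.mc.card_P' h4 (j := n - 1) (by omega), h.card_T, h.card_E, B0, card_bot, mul_one, ← pow_succ'] at c1
  have := (Nat.pow_le_pow_iff_right hp.out.one_lt).1 (c1.trans (Nat.pow_le_pow_left cK _))
  omega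

/-- In `Γ = P 1` take `Y'` maximal among the characteristic subgroups contained in `B`; `Y' ≠ ⊤`; `Y` is the set of `y` with
`y ^ p ∈ Y'` and `⁅y, Γ⁆ ≤ Y'` (the preimage of `Ω₁(Z(Γ / Y'))`), characteristic and `> Y'`, so `Y ≰ B`. `Y ≤ E` (`mem_E`),
`ψ₂ = 0` on `Y` (`psi2_eq_zero`); `exists_det` with `ω = ψ₁`. -/
theorem exists_chi {A : Subgroup (MulAut (P G 1))} {t : MulAut (P G 1)} (ht : t ∈ A) (e : Set.EqOn (autFun t) τ T) :
    ∃ χ : A →* (ZMod p)ˣ, Function.Surjective χ := by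
  obtain ⟨Y', ⟨i1, l1⟩, mx⟩ := Set.Finite.exists_maximal (Set.toFinite {Y : Subgroup (P G 1) |
    (∀ a : MulAut (P G 1), ∀ y ∈ Y, a y ∈ Y) ∧ Y ≤ h.B.subgroupOf (P G 1)}) ⟨⊥, by simp, bot_le⟩
  obtain ⟨Y, lt, i2, pw, cm⟩ := exists_char_step (h.mc.isPGroup.to_subgroup _) i1 fun e => by
    obtain ⟨t, ht, ht'⟩ := h.exists_not_mem
    exact ht' (l1 (e.ge (mem_top ⟨t, hT ht⟩))).1
  have YE : ∀ y ∈ Y, (y : G) ∈ E := fun y hy => h.mem_E fun e he => by
    rw [← commutatorElement_inv]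
    exact inv_mem (l1 (cm y hy ⟨e, hT (h.le he)⟩))
  have Y2 : ∀ y ∈ Y, ψ₂ y = 0 := fun y hy => h.psi2_eq_zero (YE y hy) fun t ht => l1 (cm y hy ⟨t, hT ht⟩)
  have et : ∀ y ∈ Y, (t y : G) = τ y := fun y hy => (autFun_coe t y).symm.trans (e (h.le (YE y hy)))
  refine exists_det (ω := fun y => ψ₁ y) lt.le (fun a _ => i2 a) (fun a _ => i1 a) (fun x _ y hy => cm y hy x) pw ht
    (fun x hx y hy => h.mul₁ _ (YE x hx) _ (YE y hy)) (fun y hy => (l1 hy).2.1) ?_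
    (fun y hy => by rw [et y hy, h.t₁ _ (YE y hy)]) (fun y hy z => Subtype.ext ?_) h.gen
  · by_contra hc
    push Not at hc
    exact lt.not_ge (mx ⟨i2, fun y hy => ⟨YE y hy, hc y hy, Y2 y hy⟩⟩ lt.le)
  · rw [et y hy, h.fix _ (YE y hy) z (Y2 y hy)]

/-- `exists_out` for `R = P 1`, `s` uniform, `κ.range = ⟨κ s⟩` (`exists_pow_mul`, `pow_mem_P_two`). `χ` (`exists_chi`) kills the
`p`-group `Inn R`, so it factors through `Γ`. `(ρ (κ s) - 1) ^ j (ν x) = ν` of an element of `P (1 + j)` and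
`P p ≤ Φ(P 1)`: trivial if `n ≤ p`; if `n = p + 1`, `Z ≤ ⁅P 1, P 1⁆` (`last_le_of_normal`); if `n ≥ p + 2`, `Φ(P 1)` is
normal, contains `x ^ p ∈ P p \ P (p+1)` (`pow_not_mem_one`, `P_le_of_normal`/`normal_cases`). If `π a` commutes with `κ s`,
`a` normalizes `Aut_G(R)`, so it extends to `σ ∈ Aut_F(⊤)` (`exists_extend_of_isCentric`, `Nphi = ⊤`) with
`σ s * s⁻¹ ∈ P 1` (centric), `Wt σ 0 1` (`wt_of`), `σ` is a `p`-element (`isPGroup_of_wt`, `comm_cases`), so `π a` is a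
`p`-element commuting with the Sylow subgroup `⟨κ s⟩`, so lies in it. `normal_of_det`: `⟨κ s⟩` is a normal `p`-subgroup, so
`κ s = 1`, `s ∈ P 1`. -/
theorem endG {F : FusionSystem (⊤ : Subgroup G)} (hF : F.IsSaturated p) (hc : F.IsCentric (P G 1))
    (hr : F.IsRadical p (P G 1)) (hτ : Mor F (P G 1) τ) (hm : ∀ x ∈ P G 1, τ x ∈ P G 1) : False := by
  have hn := h.hn
  have h5 := h.five
  have h4 : 4 ≤ n := by omega
  have pG := h.mc.isPGroup
  obtain ⟨Γ, _, _, V, _, _, _, ρ, π, k, ν, inj, sj, kπ, eπ, kk, syl, core, add, sν, kν, act⟩ := exists_out pG hF hc hr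
  obtain ⟨s, hs⟩ := h.mc.exists_unif h4
  have rg : k.range = zpowers (k s) := le_antisymm (by
    rintro _ ⟨g, rfl⟩
    obtain ⟨a, u, hu, rfl⟩ := MCN.Fu.exists_pow_mul h.mc h4 hs g
    rw [map_mul, (kk u).2 hu, mul_one, map_pow]
    exact pow_mem (mem_zpowers _) a) (zpowers_le.2 ⟨s, rfl⟩)
  rw [rg] at syl
  obtain ⟨t, ht, et⟩ := hτ.exists_aut (hτ.img_eq_self hm)
  obtain ⟨χ, hχ⟩ := h.exists_chi hT ht (et.mono hT)
  have kχ : π.ker ≤ χ.ker := fun a ha => by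
    obtain ⟨j, hj⟩ := isPGroup_inn (pG.to_subgroup _) ⟨_, (kπ a).1 ha⟩
    have : a ^ p ^ j = 1 := Subtype.ext (by simpa using congrArg Subtype.val hj)
    exact Units.ext (by rw [← ZMod.pow_card_pow (n := j) (χ a : ZMod p), ← Units.val_pow_eq_pow_val, ← map_pow, this, map_one])
  have hΦ : P G p ≤ (frattini (P G 1)).map (P G 1).subtype := by
    obtain a | ⟨i, -, hi, a⟩ := h.mc.normal_cases h4 ((frattini (P G 1)).map (P G 1).subtype)
    · exact (P_anti (by omega)).trans a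
    refine (P_anti (by_contra fun b => ?_)).trans a.ge
    by_cases c : p + 2 ≤ n
    · obtain ⟨x, hx, hx'⟩ := h.mc.exists_mem_not_mem (i := 1) (.inr h4) (by omega)
      exact (h.mc.pow_not_mem_one h4 c hx hx').2 (P_anti (by omega) (a.le ⟨_, PG.pow_mem_frattini (pG.to_subgroup _) ⟨x, hx⟩, rfl⟩))
    · obtain ⟨t, ht, e, he, hte⟩ := h.exists_not_comm
      rw [h.mc.P_eq_bot (i := i) (by omega)] at a
      exact hte (bot_le (a := h.B) (a.le ⟨_, PG.commutator_le_frattini (pG.to_subgroup _)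
        (commutator_mem_commutator (mem_top ⟨t, hT ht⟩) (mem_top ⟨e, hT (h.le he)⟩)), rfl⟩))
  have hD : ∀ j, ∀ x ∈ P G 1, ∃ y ∈ P G (j + 1), ((ρ (k s) - 1) ^ j) (ν x) = ν y := fun j x hx => by
    induction j with
    | zero => exact ⟨x, hx, rfl⟩
    | succ j ih =>
      obtain ⟨y, hy, e⟩ := ih
      have y1 := P_anti (by omega : 1 ≤ j + 1) hy
      refine ⟨_, comm_mem (by omega) s hy, ?_⟩
      rw [pow_succ', Module.End.mul_apply, e, LinearMap.sub_apply, act s y y1, commutatorElement_def,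
        add _ (Normal.conj_mem inferInstance y y1 s) _ (inv_mem y1), add_inv add y1, sub_eq_add_neg, Module.End.one_apply]
  have := normal_of_det ρ inj (s := k s) (by rw [← map_pow, kk]; exact P_succ_le 1 (h.mc.pow_mem_P_two s)) syl
    (LinearMap.ext fun v => ?_) (fun g hg => ?_) (π.liftOfSurjective sj ⟨χ, kχ⟩) fun c => ?_
  · exact hs.1 ((kk s).1 (zpowers_eq_bot.1 (core _ this syl.isPGroup)))
  · obtain ⟨x, hx, rfl⟩ := sν v
    obtain ⟨y, hy, e⟩ := hD (p - 1) x hx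
    rw [Nat.sub_add_cancel hp.out.pos] at hy
    obtain ⟨y, hy', rfl⟩ := hΦ hy
    exact e.trans ((kν y).2 hy')
  · obtain ⟨a, rfl⟩ := sj g
    have sn : s ∈ normalizer (P G 1 : Set G) := (normalizer_eq_top _).ge trivial
    let c : F.autGroup (P G 1) := ⟨_, cjAut_mem_autGroup F le_top trivial sn⟩
    have ec : π c = k s := (eπ s c).2 ⟨1, one_mem _, by rw [mul_one]; exact autFun_cjAut sn⟩
    obtain ⟨r, hr, er⟩ := (eπ s (a * c * a⁻¹)).1 (by rw [map_mul, map_mul, map_inv, ec, hg.eq, mul_inv_cancel_right])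
    have er' : ∀ x ∈ P G 1, autFun a.1 (cj s x) = cj (s * r) (autFun a.1 x) := fun x hx => by
      rw [← er (autFun_mem _ hx), ← autFun_mul _ _ hx, ← autFun_cjAut sn hx, ← autFun_mul _ _ hx]
      congr 1
      exact (inv_mul_cancel_right _ _).symm
    have ma := mor_autFun le_top a.2
    obtain ⟨f, hf, ef⟩ := exists_extend_of_isCentric (pTop h.mc) hF ma hc
    replace hf : Mor F ⊤ f := hf.mono fun g _ => by
      obtain ⟨i, u, hu, rfl⟩ := MCN.Fu.exists_pow_mul h.mc h4 hs g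
      exact mul_mem (pow_mem (mem_Nphi.2 ⟨mem_top _, sn, _, mem_top _, er'⟩) i) (ma.le_Nphi hu)
    obtain ⟨σ, hσ⟩ : ∃ σ : MulAut G, ∀ x, σ x = f x := ⟨MulEquiv.ofBijective (MonoidHom.mk' f fun a b => hf.map_mul trivial trivial)
      (Finite.injective_iff_bijective.1 fun a b e => hf.injOn trivial trivial e), fun _ => rfl⟩
    have w : σ s * s⁻¹ ∈ P G 1 := by
      have : (s * r)⁻¹ * σ s ∈ P G 1 := cent_le hc (mem_centralizer_iff_cj.2 fun y hy => by
        rw [← autFun_autFun_inv a.1 hy, cj_mul]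
        have m := autFun_mem a.1⁻¹ hy
        generalize autFun a.1⁻¹ y = x at m
        rw [← ef m, hσ, ← hf.map_cj trivial trivial, ef (cj_mem_of_mem_normalizer sn m), er' x m, cj_inv_cj, ef m])
      rw [show σ s * s⁻¹ = s * (r * ((s * r)⁻¹ * σ s)) * s⁻¹ by group]
      exact Normal.conj_mem inferInstance _ (mul_mem hr this) s
    obtain ⟨j, hj⟩ := isPGroup_zpowers_iff.1 (isPGroup_of_wt h.mc h4 (wt_one h.mc h4 (i := 0) trivial hs.1 w) (h.comm_cases hT))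
    have pw : ∀ m : ℕ, ∀ x : P G 1, ((a.1 ^ m) x : G) = (σ ^ m) x := fun m x => by
      induction m with
      | zero => rfl
      | succ m ih => rw [pow_succ', pow_succ', MulAut.mul_apply, MulAut.mul_apply, ← ih, hσ, ef (Subtype.mem _), autFun_coe]
    have a1 : a ^ p ^ j = 1 := Subtype.ext (MulEquiv.ext fun x => Subtype.ext (by rw [SubgroupClass.coe_pow, pw, hj]; rfl))
    exact syl.le_of_le_normalizer' le_top (isPGroup_zpowers_of_pow_eq_one (by rw [← map_pow, a1, map_one]))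
      (zpowers_le.2 (centralizer_le_normalizer _ (by rintro _ ⟨i, rfl⟩; exact (hg.zpow_right i).symm))) (mem_zpowers _)
  · obtain ⟨a, rfl⟩ := hχ c
    exact ⟨π a, by simp⟩

end Cf

end CL.MCD
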