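import Cfsg.Agent.FUS.MD.Co
import Cfsg.Agent.FUS.MD.Wt

/-! # The configuration when `τ` extends to `G` -/

set_option autoImplicit false
set_option linter.unusedSectionVars false

namespace CL.MCD

open Subgroup Cfsg CL.MaxCl CL.Fus
open scoped commutatorElement

theorem isSquare_of_cube {K : Type*} [Field K] {a m : K} (hm : m ≠ 0) (ha : IsSquare a) {k : ℕ} (e : a ^ k = m ^ 3) :
    IsSquare m := by
  obtain ⟨t, ht⟩ := ha.pow k
  refine ⟨t / m, ?_⟩
  field_simp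
  linear_combination ht - e

theorem cast_val {F : Type*} [Field F] {p : ℕ} [Fact p.Prime] [CharP F p] (w : ZMod p) :
    (w.val : F) = ZMod.castHom (dvd_refl p) F w := by
  rw [ZMod.castHom_apply, ZMod.natCast_val]

theorem exists_pow_eq {G F : Type*} [Group G] [Field F] {p : ℕ} [Fact p.Prime] [CharP F p]
    (sur : Function.Surjective (ZMod.castHom (dvd_refl p) F)) {S : Subgroup G} {f : G → F}
    (hf : ∀ t ∈ S, ∀ u ∈ S, f (t * u) = f t + f u) {x y : G} (hx : x ∈ S) (h0 : f x ≠ 0) (hy : y ∈ S) :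
    ∃ k : ℕ, f ((x ^ k)⁻¹ * y) = 0 := by
  obtain ⟨w, hw⟩ := sur (f y / f x)
  refine ⟨w.val, ?_⟩
  rw [hf _ (inv_mem (pow_mem hx _)) y hy, add_inv hf (pow_mem hx _), add_pow' hf (add_one hf) hx, cast_val, hw,
    div_mul_cancel₀ _ h0, neg_add_cancel]

namespace Cf
variable {G F : Type*} [Group G] [Finite G] [Field F] [Finite F] {p n : ℕ} [hp : Fact p.Prime] [CharP F p]
  {T E : Subgroup G} {σ : MulAut G} {μ : F} {κ ψ₁ ψ₂ : G → F} (h : Cf p n T E σ μ κ ψ₁ ψ₂)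
include h

/-! Notation: `w l` is the weight of `σ` on the layer `l` (`exists_wt`), `a = w 0`, `Z = P (n-1)`, `Z₂ = P (n-2)`; weights are
compared with `μ` through the injective ring map `ZMod.castHom _ F` and `add_eq_of_pow` (applied to `κ` on `T`, factor `μ²`,
`ψ₁` on `E`, factor `μ`, `ψ₂` on `E`, factor `μ⁻¹`). If `y = y' b` with `y' ∈ P (l+1)`, `b ∈ B`, `y ∈ P l \ P (l+1)`, then
`σ y * y⁻¹ = σ y' * y'⁻¹ ∈ P (l+1)`, so `w l = 1` (`wt_of`). -/

theorem four : 4 ≤ n := h.hn.trans' (by norm_num)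

theorem wt_one_of {l : ℕ} {y z b : G} (hy : y ∈ P G l) (hy' : y ∉ P G (l + 1)) (hz : z ∈ P G (l + 1)) (hb : b ∈ h.B)
    (e : y = z * b) : Wt σ l (1 : ZMod p) := by
  refine wt_one h.mc h.four hy hy' ?_
  have k : σ b = b := h.fix_B hb
  rw [e, map_mul, k, mul_inv_rev, mul_assoc, mul_inv_cancel_left]
  exact mul_mem (aut_mem_P σ hz) (inv_mem hz)

theorem wt_k {m : ZMod p} (em : ZMod.castHom (dvd_refl p) F m = μ) {l : ℕ} {w : ZMod p} (hw : Wt σ l w) {y : G} (hT : y ∈ T)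
    (hy : y ∈ P G l) (hE : y ∉ E) (h0 : T ⊓ P G (l + 1) ≤ E) : w = m ^ 2 := by
  refine (ZMod.castHom (dvd_refl p) F).injective ?_
  rw [map_pow, em, ← cast_val]
  exact (mul_right_cancel₀ (fun e => hE ((h.k_eq y hT).1 e)) (add_eq_of_pow h.maps h.k_mul hT (h.t_k y hT)
    (fun t ht ht' => (h.k_eq t ht).2 (h0 ⟨ht, ht'⟩)) (hw y hy))).symm

/-- Take `i` least with `P (i+1) ≤ B`; `i ≥ 2`, otherwise `P 2 ≤ E` is normal (`not_normal`). `⁅P i, ⊤⁆ ≤ B`, so `P i ≤ E`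
(`mem_E`), `ψ₂ = 0` on it (`psi2_eq_zero`), `ψ₁ y ≠ 0` for `y ∈ P i \ P (i+1)`, so `μ = w i` lies in the prime field; as `μ`
generates `Fˣ`, every element of `F` is a multiple `k • ψ₁ y = ψ₁ (y ^ k)`. -/
theorem start : ∃ (i : ℕ) (m : ZMod p), 2 ≤ i ∧ i < n ∧ P G (i + 1) ≤ h.B ∧ P G i ≤ E ∧ ZMod.castHom (dvd_refl p) F m = μ ∧
    Wt σ i m ∧ Function.Bijective (ZMod.castHom (dvd_refl p) F) ∧
    ∀ e ∈ E, ψ₂ e = 0 ↔ ∃ y ∈ P G i, ∃ b ∈ h.B, e = y * b := by
  classical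
  have hex : ∃ j, P G (j + 1) ≤ h.B := ⟨n, (h.mc.P_eq_bot (by omega)).le.trans bot_le⟩
  have h4 := h.four
  have i1 : Nat.find hex ≤ n - 1 := Nat.find_min' hex ((h.mc.P_eq_bot (by omega)).le.trans bot_le)
  have i2 := Nat.find_spec hex
  have i3 : 2 ≤ Nat.find hex := by
    by_contra e
    refine h.not_normal ⟨fun x hx g => ?_⟩
    have : ⁅g, x⁆ ∈ E := h.B_le (i2 (P_anti (by omega) (show ⁅g, x⁆ ∈ P G 2 from
      commutator_mem_commutator (mem_top g) (mem_top x))))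
    simpa [commutatorElement_def] using mul_mem this hx
  have i4 := Nat.find_min hex (show Nat.find hex - 1 < Nat.find hex by omega)
  rw [show Nat.find hex - 1 + 1 = Nat.find hex by omega] at i4
  generalize Nat.find hex = i at i1 i2 i3 i4
  have iE : P G i ≤ E := fun y hy => h.mem_E fun e _ => i2 (comm_mem' (by omega) e hy)
  have i5 : ∀ y ∈ P G i, ψ₂ y = 0 := fun y hy => h.psi2_eq_zero (iE hy) fun t _ => i2 (comm_mem (by omega) t hy)
  obtain ⟨y, hy, hyB⟩ := SetLike.not_le_iff_exists.1 i4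
  have y1 : ψ₁ y ≠ 0 := fun e => hyB ⟨iE hy, e, i5 y hy⟩
  obtain ⟨m, -, hm⟩ := exists_wt h.mc h4 σ (i := i) (by omega)
  have em : ZMod.castHom (dvd_refl p) F m = μ := by
    rw [← cast_val]
    exact (mul_right_cancel₀ y1 (add_eq_of_pow (fun e he => h.maps_E he) h.mul₁ (iE hy) (h.t₁ y (iE hy))
      (fun t _ ht => (i2 ht).2.1) (hm y hy))).symm
  have sur : Function.Surjective (ZMod.castHom (dvd_refl p) F) := fun x => by
    by_cases e : x = 0
    · exact ⟨0, by rw [e, map_zero]⟩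
    · obtain ⟨k, rfl⟩ := h.gen x e
      exact ⟨m ^ k, by rw [map_pow, em]⟩
  refine ⟨i, m, i3, by omega, i2, iE, em, hm, ⟨RingHom.injective _, sur⟩, fun e he => ⟨fun h2 => ?_, ?_⟩⟩
  · obtain ⟨k, hk⟩ := exists_pow_eq sur h.mul₁ (iE hy) y1 he
    have k1 := iE (inv_mem (pow_mem hy k))
    exact ⟨y ^ k, pow_mem hy k, (y ^ k)⁻¹ * e, ⟨mul_mem k1 he, hk, by
      rw [h.mul₂ _ k1 e he, i5 _ (inv_mem (pow_mem hy k)), h2, add_zero]⟩, (mul_inv_cancel_left _ _).symm⟩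
  · rintro ⟨z, hz, b, hb, rfl⟩
    rw [h.mul₂ z (iE hz) b hb.1, i5 z hz, hb.2.2, add_zero]

/-- The case `Z ≤ B` (`i ≤ n - 2` in `start`, all weights above `i` are `1`).
* `C = P 1`: `T ≤ P 1`, `⁅P (i-1), T⁆ ≤ P (i+1) ≤ B`, so `P (i-1) ≤ E` with `ψ₂ = 0`, `w (i-1) = 1`, `a = m` (`Wt.succ`),
  `1 = w (i+1) = m²`, against `sq_ne`.
* `C ≠ P 1`, `n` even, `i ≤ n - 3`: `w (n-1) = w (n-2) = 1`, so `w 1 = 1` (`Wt.last`), `a ^ (n-3) = 1` (`Wt.pow`),
  `1 = w (i+1) = a m`, so `μ ^ (n-3) = 1`, against `even_of_pow`.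
* `C ≠ P 1`, `i = n - 2`: `w 1 = m⁻¹`, `a ^ (n-3) = m²`, so `a = (m / a ^ ((n-4)/2))²` is a square and
  `w l = a ^ (l-1) m⁻¹` is not a square for `1 ≤ l ≤ n - 2` (`not_isSquare`). Downwards induction on `l`: `T ⊓ P l ≤ E`
  (`κ` vanishes on `T ⊓ P (l+1)`, `μ² κ y = w l * κ y`). So `T ⊓ P 1 ≤ E < T`, `|T : T ⊓ P 1| ≤ p`, `E = T ⊓ P 1`,
  `false_of_inf`. -/
theorem false_of_le (hZ : P G (n - 1) ≤ h.B) : False := by
  obtain ⟨i, m, i2, i1, iB, iE, em, wm, bij, ker⟩ := h.start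
  have h4 := h.four
  have h5 := h.hn
  have mc := h.mc
  have m2 : m ^ 2 ≠ 1 := fun e => h.sq_ne (by rw [← em, ← map_pow, e, map_one])
  have mS : ¬ IsSquare m := fun e => h.not_isSquare (em ▸ e.map _)
  have w1 : ∀ l, l < n → P G l ≤ h.B → Wt σ l (1 : ZMod p) := fun l hl hB => by
    obtain ⟨y, hy, hy'⟩ := mc.exists_mem_not_mem (Or.inr h4) hl
    exact h.wt_one_of hy hy' (one_mem _) (hB hy) (one_mul y).symm
  have i3 : i + 2 ≤ n := by
    by_contra e
    have := Wt.unique mc h4 i1 wm (w1 i i1 ((P_anti (by omega)).trans hZ))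
    exact m2 (by rw [this, one_pow])
  obtain ⟨a, a0, wa⟩ := exists_wt mc h4 σ (i := 0) (by omega)
  obtain ⟨b, -, wb⟩ := exists_wt mc h4 σ (i := 1) (by omega)
  by_cases hC : C G (n - 2) = P G 1
  · have hT : T ≤ P G 1 := h.unif.elim id fun e => hC ▸ e
    have k1 : ∀ y ∈ P G (i - 1), ∀ t ∈ T, ⁅y, t⁆ ∈ h.B := fun y hy t ht =>
      iB (P_anti (by omega) (mc.commutator_P_le_succ' h4 hC (by omega) le_rfl (commutator_mem_commutator hy (hT ht))))
    obtain ⟨y, hy, hy'⟩ := mc.exists_mem_not_mem (i := i - 1) (Or.inr h4) (by omega)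
    have yE : y ∈ E := h.mem_E fun e he => k1 y hy e (h.le he)
    obtain ⟨z, hz, c, hc, e⟩ := (ker y yE).1 (h.psi2_eq_zero yE fun t ht => by
      rw [← commutatorElement_inv]
      exact inv_mem (k1 y hy t ht))
    have e1 : i - 1 + 1 = i := by omega
    have k2 := Wt.succ mc h4 wa (h.wt_one_of hy hy' (e1.symm ▸ hz) hc e) (by omega) (Or.inl (by omega))
    rw [e1, mul_one] at k2
    obtain rfl := Wt.unique mc h4 i1 wm k2
    exact m2 ((pow_two m).trans (Wt.unique mc h4 (by omega) (Wt.succ mc h4 wa wm (by omega)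
      ((show i + 3 ≤ n ∨ i + 2 = n by omega).imp_right fun e => ⟨e, hC⟩)) (w1 _ (by omega) iB)))
  obtain ⟨ev, h6, -⟩ := mc.exceptional h4 hC
  have od : Odd (n - 3) := Nat.Even.sub_odd (by omega) ev (by decide)
  have wz := w1 (n - 1) (by omega) hZ
  have w3 := Wt.pow mc h4 wa wb (i := n - 3) (Or.inl (by omega))
  rw [show n - 3 + 1 = n - 2 by omega] at w3
  by_cases i4 : i + 3 ≤ n
  · have w2 := w1 (n - 2) (by omega) ((P_anti (by omega)).trans iB)
    have e1 := Wt.unique mc h4 (by omega) (Wt.last mc h4 hC wb w2) wz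
    have e2 := Wt.unique mc h4 (by omega) w3 w2
    have e3 := Wt.unique mc h4 (by omega) (Wt.succ mc h4 wa wm (by omega) (Or.inl i4)) (w1 _ (by omega) iB)
    rw [mul_one] at e1
    rw [e1, mul_one] at e2
    have e4 : m ^ (n - 3) = 1 := by rw [← one_mul (m ^ _), ← e2, ← mul_pow, e3, one_pow, e2]
    exact Nat.not_even_iff_odd.2 od (h.even_of_pow (by rw [← em, ← map_pow, e4, map_one]))
  obtain rfl : i = n - 2 := by omega
  have e1 := Wt.unique mc h4 (by omega) (Wt.last mc h4 hC wb wm) wz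
  have e2 := Wt.unique mc h4 (by omega) w3 wm
  have m0 : m ≠ 0 := fun e => by simp [e] at e1
  have aS : IsSquare a := by
    obtain ⟨r, hr⟩ := od
    refine ⟨m / a ^ r, ?_⟩
    rw [hr] at e2
    field_simp
    linear_combination m * e2 - a ^ (2 * r + 1) * e1
  have key : ∀ k l, l + 1 + k = n - 2 → T ⊓ P G (l + 1) ≤ E := fun k => by
    induction k with
    | zero => exact fun l e => inf_le_right.trans ((P_anti (by omega)).trans iE)
    | succ k ih =>
      intro l e t ht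
      by_contra tE
      have e3 := h.wt_k em (Wt.pow mc h4 wa wb (i := l) (Or.inl (by omega))) ht.1 ht.2 tE (ih (l + 1) (by omega))
      exact mS (isSquare_of_cube m0 aS (k := l) (by linear_combination m * e3 - a ^ l * e1))
  have k1 := key (n - 3) 0 (by omega)
  refine h.false_of_inf (Y := P G 1) (le_antisymm (le_inf h.le fun e he => ?_) k1)
  by_contra e1
  obtain ⟨t, ht, tE⟩ := h.exists_not_mem
  have k2 := mc.card_inf_P_le h4 T (i := 0) (by omega)
  rw [P_zero, inf_top_eq] at k2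
  exact tE ((sup_le k1 (zpowers_le.2 he) : _ ≤ E)
    ((eq_sup_zpowers mc.isPGroup inf_le_left (h.le he) (fun e' => e1 e'.2) k2).le ht))

/-- The case `Z ≰ B`: `i = n - 1`, `Z ⊓ B = 1`, `w (n-1) = m`, `ker ψ₂ = Z B`, `|F| = p`. Always `Z₂ ≤ T` (`mem_T`).
* `T ≤ C = C(Z₂)`: `Z₂ ≤ C(E) ≤ E`, `ψ₂ Z₂ = 0`, `w (n-2) = 1`. If `C = P 1`, `a = m`; otherwise `w 1 = m`,
  `a ^ (n-3) = m⁻¹`. In both cases `a` is not a square, nor is `w (n-3) = a⁻¹`. `P (n-3) ≤ T` (`mem_T`), `κ = 0` on it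
  (`μ²` is a square), so `P (n-3) ≤ E`. For `y ∈ P (n-3) \ Z₂`, `ψ₂ y ≠ 0` (else `w (n-3) = 1`), so `w (n-3) = m⁻¹ ≠ 1`.
  For `b ∈ B`, `c = ⁅y, b⁆ ∈ B ⊓ Z₂` is fixed by `σ` and central in `T`, `σ c = ⁅σ y, b⁆ = c ^ (w (n-3))`, `c ^ p = 1`
  (`pow_eq_one`), so `c = 1`. `E = P (n-3) B` (`ψ` maps `Z` and `y` onto generators of `F²`), `P (n-3)` is abelian
  (`⁅P (n-3), P (n-3)⁆ ≤ P (2n-5)`), so `E ≤ C(P (n-3))`; for `t ∈ T \ E`, `ψ₁ ⁅t, y⁆ = κ t * ψ₂ y ≠ 0`. Hence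
  `E = T ⊓ C(P (n-3))`, `false_of_inf`.
* `T ≰ C`: `C ≠ P 1`, `T ≤ P 1`, `⁅P 1, P (n-3)⁆ ≤ Z`, `P (n-3) ≤ T`, and `⁅e, y⁆ ∈ Z ⊓ B = 1` for `e ∈ E`,
  `y ∈ E ⊓ P (n-3)`. If `Z₂ ≤ E`: some `⁅t, z₂⁆ ≠ 1` lies in `Z`, not in `B`, so `ψ₂ z₂ ≠ 0` and `E = T ⊓ C(Z₂)`.
  Otherwise `κ z₂ ≠ 0`, `w (n-2) = m²`, `w 1 = m⁻¹`, `a ^ (n-3) = m³` is not a square, so `w (n-3) = m² / a ≠ 1`;
  `T = E ⟨z₂⟩`, take `y ∈ E ⊓ P (n-3) \ Z₂` (multiply by a power of `z₂`): it is centralized by `E` and `z₂`, so `ψ₂ y = 0`,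
  `w (n-3) = 1`. -/
theorem false_of_not_le (hZ : ¬ P G (n - 1) ≤ h.B) : False := by
  obtain ⟨i, m, -, i1, iB, -, em, wm, bij, ker⟩ := h.start
  have h4 := h.four
  have h5 := h.hn
  have p5 := h.five
  have mc := h.mc
  obtain rfl : i = n - 1 := by
    by_contra e
    exact hZ ((P_anti (by omega)).trans iB)
  have mS : ¬ IsSquare m := fun e => h.not_isSquare (em ▸ e.map _)
  have m0 : m ≠ 0 := fun e => mS (e ▸ IsSquare.zero)
  have ZB : ∀ z ∈ P G (n - 1), z ∈ h.B → z = 1 := fun z hz hB => by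
    by_contra e
    have b0 : P G (n - 1 + 1) = ⊥ := mc.P_eq_bot (by omega)
    refine hZ ((mc.sup_zpowers (Or.inr h4) hz (by rwa [b0, mem_bot])).le.trans (sup_le (b0.le.trans bot_le) (zpowers_le.2 hB)))
  have ZE := h.last_le
  have e12 : n - 2 + 1 = n - 1 := by omega
  have e23 : n - 3 + 1 = n - 2 := by omega
  have l12 : P G (n - 1) ≤ P G (n - 2) := P_anti (by omega)
  have l23 : P G (n - 2) ≤ P G (n - 3) := P_anti (by omega)
  have cz : ∀ g : G, ∀ z ∈ P G (n - 1), Commute g z := fun g z hz => mem_center_iff.1 (mc.P_le_center hz) g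
  have kz : ∀ t ∈ T, ∀ y ∈ E, ψ₂ y ≠ 0 → t * y = y * t → t ∈ E := fun t ht y hy h2 e => by
    have := h.comm₁ ht hy
    rw [commutatorElement_eq_one_iff_mul_comm.2 e, add_one h.mul₁] at this
    exact (h.k_eq t ht).1 ((mul_eq_zero.1 this.symm).resolve_right h2)
  obtain ⟨a, a0, wa⟩ := exists_wt mc h4 σ (i := 0) (by omega)
  obtain ⟨b, -, wb⟩ := exists_wt mc h4 σ (i := 1) (by omega)
  obtain ⟨w, -, ww⟩ := exists_wt mc h4 σ (i := n - 3) (by omega)
  have w3 := Wt.pow mc h4 wa wb (i := n - 3) (Or.inl (by omega))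
  have w4 := Wt.succ mc h4 wa ww (by omega) (Or.inl (by omega))
  rw [e23] at w3 w4
  have w5 : ∀ y ∈ E, y ∈ P G (n - 3) → y ∉ P G (n - 3 + 1) → ψ₂ y = 0 → w = 1 := fun y yE hy hy' h2 => by
    obtain ⟨z, hz, c, hc, e⟩ := (ker y yE).1 h2
    exact Wt.unique mc h4 (by omega) ww (h.wt_one_of hy hy' (P_anti (by omega) hz) hc e)
  obtain ⟨y, hy, hy'⟩ := mc.exists_mem_not_mem (i := n - 3) (Or.inr h4) (by omega)
  by_cases hC : T ≤ C G (n - 2)
  · have tc : ∀ t ∈ T, ∀ z ∈ P G (n - 2), Commute z t := fun t ht z hz => (mc.C_last h4).le (hC ht) z hz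
    have E2 : P G (n - 2) ≤ E := fun z hz => h.cent fun e he => (tc e (h.le he) z hz).symm
    have w2 : Wt σ (n - 2) (1 : ZMod p) := by
      obtain ⟨x, hx, hx'⟩ := mc.exists_mem_not_mem (i := n - 2) (Or.inr h4) (by omega)
      obtain ⟨z, hz, c, hc, e⟩ := (ker x (E2 hx)).1 (h.psi2_eq_zero (E2 hx) fun t ht => by
        rw [commutatorElement_eq_one_iff_commute.2 (tc t ht x hx).symm]
        exact one_mem _)
      exact h.wt_one_of hx hx' (e12.symm ▸ hz) hc e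
    have e1 := Wt.unique mc h4 (by omega) w4 w2
    have wS : ¬ IsSquare w := fun e => by
      have aS : IsSquare a := by
        rw [eq_inv_of_mul_eq_one_left e1]
        exact e.inv
      by_cases hP : C G (n - 2) = P G 1
      · have := Wt.succ mc h4 wa w2 (by omega) (Or.inr ⟨by omega, hP⟩)
        rw [e12, mul_one] at this
        exact mS (Wt.unique mc h4 i1 this wm ▸ aS)
      · have e2 := Wt.unique mc h4 i1 (Wt.last mc h4 hP wb w2) wm
        have e3 := Wt.unique mc h4 (by omega) w3 w2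
        rw [mul_one] at e2
        rw [e2] at e3
        exact mS (by
          rw [eq_inv_of_mul_eq_one_right e3]
          exact (aS.pow _).inv)
    have w1 : w ≠ 1 := fun e => wS (e ▸ IsSquare.one)
    have yT : y ∈ T := h.mem_T fun e _ => E2 (e23 ▸ comm_mem' (by omega) e hy)
    have yE : y ∈ E := by
      by_contra e
      exact wS (h.wt_k em ww yT hy e (inf_le_right.trans (e23.symm ▸ E2)) ▸ IsSquare.sq m)
    have y2 : ψ₂ y ≠ 0 := fun e => w1 (w5 y yE hy hy' e)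
    have yB : ∀ c ∈ h.B, Commute y c := fun c hc => by
      by_contra e
      have k0 : ⁅y, c⁆ ∈ P G (n - 2) := e23 ▸ comm_mem' (by omega) c hy
      have k1 : σ ⁅y, c⁆ = ⁅y, c⁆ := h.fix_B (h.comm_mem_B yE hc.1)
      have k2 : σ y * (y ^ w.val)⁻¹ ∈ P G (n - 2) := e23 ▸ ww y hy
      have k3 : σ c = c := h.fix_B hc
      have cT := h.le hc.1
      rw [map_commutatorElement, k3, ← inv_mul_cancel_right (σ y) (y ^ w.val), CL.PG.commutator_mul_left_of_commute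
        (tc _ (h.le (h.comm_mem (pow_mem yT _) hc.1)) _ k2), commutatorElement_eq_one_iff_commute.2 (tc c cT _ k2), mul_one,
        CL.PG.commutator_pow_left (tc y yT _ k0).symm] at k1
      have k4 := k1.trans (pow_one _).symm
      rw [pow_eq_pow_iff_modEq, orderOf_eq_prime (mc.pow_eq_one (by omega) (by omega) k0)
        (fun e' => e (commutatorElement_eq_one_iff_commute.1 e')), ← ZMod.natCast_eq_natCast_iff, ZMod.natCast_zmod_val,
        Nat.cast_one] at k4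
      exact w1 k4
    refine h.false_of_inf (Y := centralizer (P G (n - 3) : Set G)) (le_antisymm (le_inf h.le fun e he => ?_)
      fun t ht => kz t ht.1 y yE y2 (ht.2 y hy).symm)
    obtain ⟨k, hk⟩ := exists_pow_eq bij.2 h.mul₂ yE y2 he
    obtain ⟨z, hz, c, hc, e1⟩ := (ker _ (mul_mem (inv_mem (pow_mem yE k)) he)).1 hk
    have k1 : Commute y e := by
      rw [inv_mul_eq_iff_eq_mul.1 e1]
      exact (Commute.self_pow y k).mul_right ((cz y z hz).mul_right (yB c hc))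
    have k2 : P G (n - 3) ≤ centralizer {e} := (mc.sup_zpowers (Or.inr h4) hy hy').le.trans (sup_le
      (fun x hx => mem_centralizer_singleton_iff.2 (tc e (h.le he) x (e23 ▸ hx)))
      (zpowers_le.2 (mem_centralizer_singleton_iff.2 k1)))
    exact fun x hx => mem_centralizer_singleton_iff.1 (k2 hx)
  have hT := h.unif.resolve_right hC
  have hP : C G (n - 2) ≠ P G 1 := fun e => hC (e ▸ hT)
  have c3 : ∀ t ∈ T, ∀ x ∈ P G (n - 3), ⁅t, x⁆ ∈ P G (n - 1) := fun t ht x hx => P_anti (by omega)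
    (mc.commutator_P_one_le h4 (n - 3) (by omega) (by omega) (commutator_mem_commutator (hT ht) hx))
  have T3 : P G (n - 3) ≤ T := fun x hx => h.mem_T fun e he => by
    rw [← commutatorElement_inv]
    exact inv_mem (ZE (c3 e (h.le he) x hx))
  by_cases E2 : P G (n - 2) ≤ E
  · obtain ⟨t, ht, tC⟩ := SetLike.not_le_iff_exists.1 hC
    obtain ⟨z, hz, tz⟩ : ∃ z ∈ P G (n - 2), z * t ≠ t * z := by
      by_contra! e
      exact tC ((mc.C_last h4).ge e)
    have z2 : ψ₂ z ≠ 0 := fun e => tz (commutatorElement_eq_one_iff_mul_comm.1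
      (ZB _ (c3 t ht z (l23 hz)) (h.comm_mem_B' ht (E2 hz) e))).symm
    exact h.false_of_inf (Y := centralizer (P G (n - 2) : Set G)) (le_antisymm (le_inf h.le fun e he x hx =>
      (commutatorElement_eq_one_iff_mul_comm.1 (ZB _ (c3 e (h.le he) x (l23 hx)) (h.comm_mem_B he (E2 hx)))).symm)
      fun t ht => kz t ht.1 z (E2 hz) z2 (ht.2 z hz).symm)
  obtain ⟨z, hz, zE⟩ := SetLike.not_le_iff_exists.1 E2
  have zT := T3 (l23 hz)
  have e1 := h.wt_k em w3 zT hz zE (inf_le_right.trans (e12.symm ▸ ZE))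
  have e2 := Wt.unique mc h4 i1 (Wt.last mc h4 hP wb w3) wm
  have e3 := Wt.unique mc h4 (by omega) w4 w3
  rw [e1] at e2 e3
  obtain ⟨k, hk⟩ := exists_pow_eq bij.2 h.k_mul zT (fun e => zE ((h.k_eq z zT).1 e)) (T3 hy)
  have k1 : (z ^ k)⁻¹ * y ∈ P G (n - 3) := mul_mem (inv_mem (pow_mem (l23 hz) k)) hy
  have k2 := (h.k_eq _ (T3 k1)).1 hk
  have k3 : ψ₂ ((z ^ k)⁻¹ * y) = 0 := by
    by_contra e
    refine zE (kz z zT _ k2 e (commutatorElement_eq_one_iff_mul_comm.1 ?_))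
    exact (mc.P_eq_bot le_rfl).le (comm_mem_add (by omega) hz k1)
  rw [w5 _ k2 k1 (fun e => hy' ((mul_mem_cancel_left (inv_mem (pow_mem (e23.symm ▸ hz) k))).1 e)) k3, mul_one] at e3
  have e4 : b * m = 1 := mul_right_cancel₀ m0 (by linear_combination e2)
  exact mS (isSquare_of_cube m0 (e3 ▸ IsSquare.sq m : IsSquare a) (k := n - 3)
    (by linear_combination m * e1 - a ^ (n - 3) * e4))

theorem endS : False := h.false_of_not_le h.false_of_le

end Cf

end CL.MCD
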