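import Cfsg.Agent.FUS.MD.Fin
import Cfsg.Agent.FUS.MD.BadE
import Cfsg.Agent.FUS.MD.EndS
import Cfsg.Agent.FUS.MD.EndC
import Cfsg.Agent.FUS.MD.EndG

/-! # There are no bad subgroups -/

set_option autoImplicit false

namespace CL.MCD

open Subgroup Cfsg Cfsg.FusionSystem CL.MaxCl CL.Fus
open scoped commutatorElement

universe u
variable {G : Type u} [Group G] [Finite G] {p n : ℕ} [hp : Fact p.Prime] {F : FusionSystem (⊤ : Subgroup G)}

section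
variable {K : Type*} [Field K] {μ : K} {T E R : Subgroup G} {τ : G → G} {κ ψ₁ ψ₂ : G → K}

omit [Finite G] hp in
theorem Fn.congr (h : Fn p n F T E τ μ κ ψ₁ ψ₂) {τ' : G → G} (e : Set.EqOn τ' τ T) : Fn p n F T E τ' μ κ ψ₁ ψ₂ :=
  { h.toCo.congr e with bs := h.bs, bad := h.bad, norm := h.norm }

omit [Finite G] hp in
theorem Fn.centric (h : Fn p n F T E τ μ κ ψ₁ ψ₂) (hR : T ≤ R) : F.IsCentric R :=
  isCentric_of_le h.bad.cen (h.le.trans hR) le_top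

variable [Finite K] [CharP K p]

theorem Fn.top (h : Fn p n F T E τ μ κ ψ₁ ψ₂) (hτ : Mor F ⊤ τ) : False :=
  Cf.endS (σ := MulEquiv.ofBijective (MonoidHom.mk' τ fun _ _ => hτ.map_mul (mem_top _) (mem_top _))
    (Finite.injective_iff_bijective.1 fun _ _ e => hτ.injOn (mem_top _) (mem_top _) e)) h.cf

theorem Fn.of_normal (h : Fn p n F T E τ μ κ ψ₁ ψ₂) (hR : T ≤ R) (hτ : Mor F R τ) (hm : ∀ x ∈ R, τ x ∈ R) [R.Normal]
    (nc : ¬ IsPClosed p (F.autGroup R))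
    (ih : ∀ R' g, R < R' → Mor F R' g → (∀ x ∈ R', g x ∈ R') → ¬ Set.EqOn g τ R) : False := by
  obtain ⟨R', hle, -, -, hr, -, hext, hc⟩ := closure_normal h.bs.mc h.bs.hn h.bs.five h.bs.sat (h.centric hR) nc
  obtain ⟨g, hg, hgm, e⟩ := hext τ hτ hm
  obtain rfl : R = R' := by_contra fun hne => ih R' g (lt_of_le_of_ne hle hne) hg hgm e
  rcases hc with rfl | ⟨rfl, hne, rfl | rfl⟩
  · exact h.cf.endG hR h.bs.sat (h.centric hR) hr hτ hm
  · exact h.cf.endC hne hR hτ.isHomOn hτ.injOn hm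
  · obtain ⟨t, ht, x, hx, hb⟩ := h.exists_not_comm
    have : ⁅t, x⁆ ∈ P G 7 := h.bs.mc.commutator_P_self_le (i := 3) (by omega)
      (commutator_mem_commutator (hR ht) (hR (h.le hx)))
    rw [h.bs.mc.P_eq_bot (by omega), mem_bot] at this
    exact hb (this ▸ one_mem _)

end

theorem Fn.elim {K : Type*} [Field K] [Finite K] [CharP K p] {μ : K} (R : Subgroup G) :
    ∀ {T E : Subgroup G} {τ : G → G} {κ ψ₁ ψ₂ : G → K}, Fn p n F T E τ μ κ ψ₁ ψ₂ → T ≤ R → Mor F R τ →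
      (∀ x ∈ R, τ x ∈ R) → False := by
  refine induction_lt (S := ⊤) (motive := fun R => ∀ {T E : Subgroup G} {τ : G → G} {κ ψ₁ ψ₂ : G → K},
    Fn p n F T E τ μ κ ψ₁ ψ₂ → T ≤ R → Mor F R τ → (∀ x ∈ R, τ x ∈ R) → False) (fun R₀ _ ih => ?_) R le_top
  have key : ∀ R : Subgroup G, Nat.card R = Nat.card R₀ → F.IsFullyNormalized R → ∀ {T E : Subgroup G} {τ : G → G}
      {κ ψ₁ ψ₂ : G → K}, Fn p n F T E τ μ κ ψ₁ ψ₂ → T ≤ R → Mor F R τ → (∀ x ∈ R, τ x ∈ R) → False := by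
    intro R hc hn T E τ κ ψ₁ ψ₂ h hR hτ hm
    by_cases e : R = ⊤
    · exact h.top (e ▸ hτ)
    have hG := h.bs.mc.isPGroup
    have hlt : R < normalizer (R : Set G) := normalizerIn_top R ▸ lt_normalizerIn (pTop h.bs.mc) (Ne.lt_top e)
    by_cases pc : IsPClosed p (F.autGroup R)
    · obtain ⟨g, hg, hgm, e'⟩ := extend_of_pc hG h.bs.sat (h.centric hR) hn pc hτ hm
      exact ih _ le_top (hc ▸ CL.Fus.card_lt_of_lt hlt le_top) (h.congr (e'.mono hR)) (hR.trans hlt.le) hg hgm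
    obtain ⟨φ, hφ, hN⟩ := h.bs.normal (h.centric hR) pc
      ((Subgroup.card_le_of_le hR).trans_lt (CL.Fus.card_lt_of_lt hlt le_top))
    have hφ' := hφ.mono hlt.le
    obtain ⟨τ', κ', ψ₁', ψ₂', h', hτ', hm'⟩ := h.conj hR hτ hm hφ'
    refine h'.of_normal (img_mono φ hR) hτ' hm' (fun e => pc (pc_conj (isConj_symm hφ'.isConj) e))
      fun R' g hlt' hg hgm e' => ?_
    exact ih _ le_top (hc ▸ hφ'.card_img ▸ CL.Fus.card_lt_of_lt hlt' le_top) (h'.congr (e'.mono (img_mono φ hR)))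
      ((img_mono φ hR).trans hlt'.le) hg hgm
  intro T E τ κ ψ₁ ψ₂ h hR hτ hm
  obtain ⟨φ, hφ, hn⟩ := exists_mor_normalizer_fullyNormalized (pTop h.bs.mc) h.bs.sat (le_top (a := R₀))
  have hφ' := hφ.mono (le_normalizerIn le_top)
  obtain ⟨τ', κ', ψ₁', ψ₂', h', hτ', hm'⟩ := h.conj hR hτ hm hφ'
  exact key _ hφ'.card_img hn h' (img_mono φ hR) hτ' hm'

theorem not_bad (h : IsMC p n G) (hn : 5 ≤ n) (h5 : 5 ≤ p) (hF : F.IsSaturated p) (Q : Subgroup G) :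
    ¬ Bad p n F Q := fun hQ => by
  obtain ⟨Q, T, E, H, _, _, ι, hs⟩ := exists_st h hn h5 hF hQ
  obtain ⟨K, _, _, _, τ, μ, κ, ψ₁, ψ₂, hf, hτ⟩ := hs.self.exists_fn
  exact Fn.elim T hf le_rfl hτ hf.maps

end CL.MCD
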