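import Cfsg.Agent.FUS.MC.Main
import Cfsg.Agent.FUS.Realized
import Cfsg.Agent.FUS.KNormSat
import Cfsg.Agent.TECH.PIrr

/-!
# Essential subgroups of `p`-groups of maximal class: definitions

`G` is a `p`-group of maximal class and order `p ^ n`, `P G i` its series (`P G 1 = Γ₁`, `P G i = γ_i`),
`C G (n - 2) = C_G(Z₂)`, and `F` a fusion system over `⊤ : Subgroup G`.
-/

set_option autoImplicit false

namespace CL.MCD

open Subgroup Cfsg Cfsg.FusionSystem CL.MaxCl CL.Fus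
open scoped commutatorElement

/-- `σ` acts on the layer `P i / P (i + 1)` as the `w`-th power map. -/
def Wt {G : Type*} [Group G] {p : ℕ} (σ : G → G) (i : ℕ) (w : ZMod p) : Prop :=
  ∀ x ∈ P G i, σ x * (x ^ w.val)⁻¹ ∈ P G (i + 1)

/-- Coordinates: `E / B ≅ F²` through `(ψ₁, ψ₂)`, `T / E ≅ F` through `κ` acts as the upper unitriangular group, `τ` acts
as `diag(μ, μ⁻¹)` for a generator `μ` of `Fˣ` and fixes `B` pointwise. -/
structure Co {X F : Type*} [Group X] [Field F] (T E : Subgroup X) (τ : X → X) (μ : F) (κ ψ₁ ψ₂ : X → F) : Prop where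
  le : E ≤ T
  hom : IsHomOn T τ
  maps : ∀ t ∈ T, τ t ∈ T
  k_mul : ∀ t ∈ T, ∀ u ∈ T, κ (t * u) = κ t + κ u
  k_eq : ∀ t ∈ T, κ t = 0 ↔ t ∈ E
  k_surj : ∀ a, ∃ t ∈ T, κ t = a
  mul₁ : ∀ e ∈ E, ∀ f ∈ E, ψ₁ (e * f) = ψ₁ e + ψ₁ f
  mul₂ : ∀ e ∈ E, ∀ f ∈ E, ψ₂ (e * f) = ψ₂ e + ψ₂ f
  surj : ∀ a b, ∃ e ∈ E, ψ₁ e = a ∧ ψ₂ e = b
  cj₁ : ∀ t ∈ T, ∀ e ∈ E, ψ₁ (t * e * t⁻¹) = ψ₁ e + κ t * ψ₂ e
  cj₂ : ∀ t ∈ T, ∀ e ∈ E, ψ₂ (t * e * t⁻¹) = ψ₂ e
  t_k : ∀ t ∈ T, κ (τ t) = μ ^ 2 * κ t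
  t₁ : ∀ e ∈ E, ψ₁ (τ e) = μ * ψ₁ e
  t₂ : ∀ e ∈ E, ψ₂ (τ e) = μ⁻¹ * ψ₂ e
  fix : ∀ e ∈ E, ψ₁ e = 0 → ψ₂ e = 0 → τ e = e
  gen : ∀ x : F, x ≠ 0 → ∃ k : ℕ, μ ^ k = x
  ne : μ ≠ 0

/-- Coordinates inside a group of maximal class. -/
structure Cf (p n : ℕ) {G F : Type*} [Group G] [Field F] (T E : Subgroup G) (τ : G → G) (μ : F) (κ ψ₁ ψ₂ : G → F) :
    Prop extends Co T E τ μ κ ψ₁ ψ₂ where
  mc : IsMC p n G
  five : 5 ≤ p
  hn : 5 ≤ n
  norm : normalizer (E : Set G) = T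
  cent : centralizer (E : Set G) ≤ E
  ne_top : T ≠ ⊤
  unif : T ≤ P G 1 ∨ T ≤ C G (n - 2)

/-- `H` has characteristic `p` and is minimal among the overgroups of the Sylow subgroup `T` not normalizing it. -/
structure Mp (p : ℕ) {H : Type*} [Group H] (T : Subgroup H) : Prop where
  syl : SylIn p T ⊤
  cent : centralizer (pCore p H : Set H) ≤ pCore p H
  nn : ¬ T.Normal
  min : ∀ X : Subgroup H, T ≤ X → X ≠ ⊤ → X ≤ normalizer (T : Set H)

/-- Sections of exponent `p` of `T` have order at most `p ^ p`. -/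
def Rk (p : ℕ) {H : Type*} [Group H] (T : Subgroup H) : Prop :=
  ∀ A U : Subgroup H, A ≤ T → U ≤ A → (∀ x ∈ A, x ^ p ∈ U) → Nat.card A ≤ Nat.card U * p ^ p

section fus
variable (p n : ℕ) {G : Type*} [Group G] (F : FusionSystem (⊤ : Subgroup G))

/-- `H` has the Sylow subgroup `ι T`, `O_p(H) = ι E`, and `H` induces `F`-morphisms. -/
structure Loc (T E : Subgroup G) {H : Type*} [Group H] (ι : G → H) : Prop where
  hom : IsHomOn T ι
  inj : Set.InjOn ι T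
  mp : Mp p (img ι T)
  fus : ∀ (R : Subgroup G) (g : H) (f : G → G), R ≤ T → (∀ x ∈ R, f x ∈ T) → (∀ x ∈ R, ι (f x) = g * ι x * g⁻¹) →
    Mor F R f
  le : E ≤ T
  core : img ι E = pCore p H

/-- A centric subgroup with non-`p`-closed automizer, not conjugate to a normal subgroup and without uniform elements. -/
structure Bad (Q : Subgroup G) : Prop where
  cen : F.IsCentric Q
  nc : ¬ IsPClosed p (F.autGroup Q)
  nn : ∀ Q', F.IsConj Q Q' → ¬ Q'.Normal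
  nu : ∀ s ∈ Q, ¬ Unif n s

/-- `m` bounds the orders of the normalizers of the bad subgroups. -/
structure Bs (m : ℕ) : Prop where
  mc : IsMC p n G
  five : 5 ≤ p
  hn : 5 ≤ n
  sat : F.IsSaturated p
  max : ∀ Q, Bad p n F Q → Nat.card (normalizer (Q : Set G)) ≤ m
  four : p ^ 4 ≤ m

/-- A bad subgroup `Q` with normalizer `T` of largest order and a minimal parabolic over `T`. -/
structure St (Q T E : Subgroup G) {H : Type*} [Group H] (ι : G → H) : Prop extends Loc p F T E ι where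
  bs : Bs p n F (Nat.card T)
  bad : Bad p n F Q
  norm : normalizer (Q : Set G) = T
  QE : Q ≤ E

/-- The final configuration. -/
structure Fn {K : Type*} [Field K] (T E : Subgroup G) (τ : G → G) (μ : K) (κ ψ₁ ψ₂ : G → K) : Prop
    extends Co T E τ μ κ ψ₁ ψ₂ where
  bs : Bs p n F (Nat.card T)
  bad : Bad p n F E
  norm : normalizer (E : Set G) = T

end fus

theorem normalizerIn_top {G : Type*} [Group G] (X : Subgroup G) : normalizerIn ⊤ X = normalizer (X : Set G) :=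
  top_inf_eq _

theorem centralizerIn_top {G : Type*} [Group G] (X : Subgroup G) : centralizerIn ⊤ X = centralizer (X : Set G) :=
  top_inf_eq _

theorem pTop {G : Type*} [Group G] [Finite G] {p n : ℕ} [Fact p.Prime] (h : IsMC p n G) :
    IsPGroup p (⊤ : Subgroup G) :=
  h.isPGroup.to_subgroup ⊤

theorem cent_le {G : Type*} [Group G] {F : FusionSystem (⊤ : Subgroup G)} {X : Subgroup G} (h : F.IsCentric X) :
    centralizer (X : Set G) ≤ X :=
  centralizerIn_top X ▸ centralizerIn_le_of_isCentric h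

theorem last_le {G : Type*} [Group G] [Finite G] {p n : ℕ} [Fact p.Prime] (h : IsMC p n G) {X : Subgroup G}
    (hX : centralizer (X : Set G) ≤ X) : P G (n - 1) ≤ X :=
  h.P_le_center.trans ((Subgroup.center_le_centralizer _).trans hX)

end CL.MCD
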