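import Cfsg.Agent.FUS.MD.PU2
import Cfsg.Agent.FUS.MD.Co

/-! # Pushing up -/

set_option autoImplicit false

namespace CL.MCD

open Subgroup Cfsg CL.Fus
open scoped commutatorElement

variable {H : Type*} [Group H] [Finite H] {p : ℕ} [hp : Fact p.Prime] {T : Subgroup H}

/-- Apply `Mp.block`, `Mp.exists_nt`, `Nt.exists_co` in `H ⧸ K` (`Mp.quot`, `Rk.quot`). If `D ≤ T / K` is normal in `H / K` and
characteristic in `T / K`, its preimage `X` satisfies the hypothesis of `hK` (an automorphism `a` of `T` with `a K = K` induces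
an automorphism of `T / K`), so `D = ⊥`. Lift `τ` to an element of order prime to `p` (`CL.Fus.exists_pow_coprime`), compose
`κ`, `ψ₁`, `ψ₂` with the projection; `fix`: `τ e τ⁻¹ e⁻¹ ∈ K` and `τ` centralizes `K`, so `τ` centralizes `e`
(`τ ^ j e τ⁻ ^ j = k ^ j e`, `j` the order of `τ`). -/
theorem Mp.exists_co (h : Mp p T) (h5 : 5 ≤ p) (rk : Rk p T) {K : Subgroup H} [K.Normal] (hKE : K ≤ pCore p H)
    (hc : ∀ x : H, (orderOf x).Coprime p → x ∈ centralizer (K : Set H))
    (hK : ∀ X : Subgroup H, X.Normal → K ≤ X → X ≤ T →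
      (∀ a : MulAut T, (∀ x : T, (x : H) ∈ K → (a x : H) ∈ K) → ∀ x : T, (x : H) ∈ X → (a x : H) ∈ X) → X ≤ K) :
    ∃ (F : Type) (_ : Field F) (_ : Finite F) (_ : CharP F p) (τ : H) (μ : F) (κ ψ₁ ψ₂ : H → F),
      Co T (pCore p H) (cj τ) μ κ ψ₁ ψ₂ := by
  obtain ⟨hm, he⟩ := h.quot hKE hc
  have hKT := hKE.trans h.core_le
  have sj := QuotientGroup.mk'_surjective K
  have cm : ∀ X : Subgroup H, K ≤ X → ∀ x, QuotientGroup.mk' K x ∈ X.map (QuotientGroup.mk' K) ↔ x ∈ X := fun X hX x =>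
    SetLike.ext_iff.1 (comap_map_eq_self (f := QuotientGroup.mk' K) (by rwa [QuotientGroup.ker_mk'])) x
  obtain ⟨L, F, _, _, _, ρ, ψ, hL, top, hb⟩ := hm.block h5 (rk.quot hKT) fun D hD h0 hch hn => by
    refine h0 (le_bot_iff.1 ?_)
    rw [← map_comap_eq_self_of_surjective sj D, ← (map_eq_bot_iff K).2 (QuotientGroup.ker_mk' K).ge]
    refine map_mono (hK _ inferInstance (fun x hx => ?_) (fun x hx => (cm T hKT x).1 (hD hx)) fun a ha x hx => ?_)
    · rw [mem_comap, (QuotientGroup.eq_one_iff x).2 hx |> (QuotientGroup.mk'_apply K x).trans]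
      exact one_mem _
    have sf := (QuotientGroup.mk' K).subgroupMap_surjective T
    let b := ((QuotientGroup.mk' K).subgroupMap T).liftOfSurjective sf
      ⟨((QuotientGroup.mk' K).subgroupMap T).comp a.toMonoidHom, fun y hy => Subtype.ext
        ((QuotientGroup.eq_one_iff _).2 (ha y ((QuotientGroup.eq_one_iff _).1 (congrArg Subtype.val hy))))⟩
    have hb : ∀ y, b ((QuotientGroup.mk' K).subgroupMap T y) = (QuotientGroup.mk' K).subgroupMap T (a y) := fun y =>
      MonoidHom.liftOfRightInverse_comp_apply _ _ _ _ y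
    have bij : Function.Bijective b := Finite.surjective_iff_bijective.1 fun y => by
      obtain ⟨y, rfl⟩ := sf y
      exact ⟨_, (hb (a.symm y)).trans (by rw [a.apply_symm_apply])⟩
    have := characteristic_iff_le_comap.1 hch (MulEquiv.ofBijective b bij)
      (show (QuotientGroup.mk' K).subgroupMap T x ∈ D.subgroupOf _ from hx)
    rw [mem_comap, show (MulEquiv.ofBijective b bij).toMonoidHom _ = _ from hb x] at this
    exact this
  obtain ⟨θ, ψ', hn⟩ := hm.exists_nt (rk.quot hKT) hL top hb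
  obtain ⟨τ₀, μ, κ, ψ₁, ψ₂, ho, c⟩ := hn.exists_co (by omega)
  obtain ⟨τ₁, rfl⟩ := sj τ₀
  obtain ⟨τ, -, e, ho⟩ := exists_pow_coprime _ τ₁ hp.out ho
  rw [← e, he] at c
  have mT := fun t => (cm T hKT t).2
  have mE := fun t => (cm _ hKE t).2
  have j : ∀ t, QuotientGroup.mk' K (cj τ t) = cj (QuotientGroup.mk' K τ) (QuotientGroup.mk' K t) := fun t => by
    simp only [cj_apply, map_mul, map_inv]
  refine ⟨F, inferInstance, inferInstance, inferInstance, τ, μ, κ ∘ QuotientGroup.mk' K, ψ₁ ∘ QuotientGroup.mk' K,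
    ψ₂ ∘ QuotientGroup.mk' K, h.core_le, isHomOn_cj _ _, fun t ht => (cm T hKT _).1 (j t ▸ c.maps _ (mT t ht)),
    fun t ht u hu => ?_, fun t ht => (c.k_eq _ (mT t ht)).trans (cm _ hKE t), fun a => ?_, fun t ht u hu => ?_,
    fun t ht u hu => ?_, fun a b => ?_, fun t ht u hu => ?_, fun t ht u hu => ?_, fun t ht => ?_, fun t ht => ?_,
    fun t ht => ?_, fun t ht h1 h2 => ?_, c.gen, c.ne⟩
  · simpa only [Function.comp, map_mul] using c.k_mul _ (mT t ht) _ (mT u hu)
  · obtain ⟨_, ⟨t, ht, rfl⟩, rfl⟩ := c.k_surj a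
    exact ⟨t, ht, rfl⟩
  · simpa only [Function.comp, map_mul] using c.mul₁ _ (mE t ht) _ (mE u hu)
  · simpa only [Function.comp, map_mul] using c.mul₂ _ (mE t ht) _ (mE u hu)
  · obtain ⟨_, ⟨t, ht, rfl⟩, rfl, rfl⟩ := c.surj a b
    exact ⟨t, ht, rfl, rfl⟩
  · simpa only [Function.comp, map_mul, map_inv] using c.cj₁ _ (mT t ht) _ (mE u hu)
  · simpa only [Function.comp, map_mul, map_inv] using c.cj₂ _ (mT t ht) _ (mE u hu)
  · simpa only [Function.comp, j] using c.t_k _ (mT t ht)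
  · simpa only [Function.comp, j] using c.t₁ _ (mE t ht)
  · simpa only [Function.comp, j] using c.t₂ _ (mE t ht)
  · have h3 : cj τ t * t⁻¹ ∈ K := by
      rw [← QuotientGroup.eq_one_iff, ← QuotientGroup.mk'_apply, map_mul, map_inv, j, c.fix _ (mE t ht) h1 h2,
        mul_inv_cancel]
    have h4 : Commute τ⁻¹ (cj τ t * t⁻¹) := Commute.inv_left (hc τ ho _ h3).symm
    have h5 : (cj τ t * t⁻¹) ^ orderOf τ = 1 := by
      have := h4.mul_pow (orderOf τ)
      rw [show τ⁻¹ * (cj τ t * t⁻¹) = t * τ⁻¹ * t⁻¹ by simp [cj_apply, mul_assoc], conj_pow, inv_pow,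
        pow_orderOf_eq_one] at this
      simpa using this.symm
    exact mul_inv_eq_one.1 (MSS.eq_one_of_coprime_of_mem Fus.isPGroup_pCore
      (ho.coprime_dvd_left (orderOf_dvd_of_pow_eq_one h5)) (hKE h3))

end CL.MCD
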