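import Cfsg.Agent.FUS.MD.CentK
import Cfsg.Agent.FUS.MD.PU3

/-! # The final configuration -/

set_option autoImplicit false

namespace CL.MCD

open Subgroup Cfsg Cfsg.FusionSystem CL.MaxCl CL.Fus
open scoped commutatorElement

universe u
variable {G : Type u} [Group G] [Finite G] {p n : ℕ} [hp : Fact p.Prime] {F : FusionSystem (⊤ : Subgroup G)}

/-- `T' = N(T) > T` (`T ≠ ⊤`). Let `K` be the largest subgroup of `E` with `ι K` normal in `H` and `T' ≤ N(K)` (the join of two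
such subgroups is one). `Mp.exists_co` for `img ι K` (`St.cent`, `rk`, `Rk.img`, `St.unif`): for `hK`, `X = ι X₀` with
`X₀ ≤ E` (a normal `p`-subgroup), and `g ∈ T'` induces an automorphism of `ι T` (`IsoOn.autCongr` of `cjAut T g`) preserving
`ι K`, hence `X`; so `X₀ ≤ K`. Transport back along the `IsoOn T (img ι T) ι ι'` (`IsHomOn.exists_isoOn`, `Co.transport` for its
`symm`) with `τ = ι' ∘ cj τ₀ ∘ ι`, a morphism by `Loc.fus`. -/
theorem St.exists_fn {H : Type*} [Group H] [Finite H] {T E : Subgroup G} {ι : G → H} (h : St p n F E T E ι) :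
    ∃ (K : Type) (_ : Field K) (_ : Finite K) (_ : CharP K p) (τ : G → G) (μ : K) (κ ψ₁ ψ₂ : G → K),
      Fn p n F T E τ μ κ ψ₁ ψ₂ ∧ Mor F T τ := by
  have h4 : 4 ≤ n := by have := h.bs.hn; omega
  have hT : T < normalizer (T : Set G) := normalizerIn_top T ▸ lt_normalizerIn (pTop h.bs.mc) (Ne.lt_top fun e =>
    h.bad.nn E (isConj_refl F le_top) (normalizer_eq_top_iff.1 (h.norm.trans e)))
  obtain ⟨ι', hi⟩ := h.hom.exists_isoOn h.inj
  obtain ⟨K, ⟨hK, hn, hT'⟩, hmax⟩ := (Set.toFinite {K : Subgroup G | K ≤ E ∧ (img ι K).Normal ∧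
    normalizer (T : Set G) ≤ normalizer (K : Set G)}).exists_maximal
      ⟨⊥, bot_le, by rw [hi.img_bot]; infer_instance, le_top.trans (normalizer_eq_top (⊥ : Subgroup G)).ge⟩
  have hKT := hK.trans h.le
  obtain ⟨F₀, _, _, _, τ, μ, κ, ψ₁, ψ₂, hc⟩ := h.mp.exists_co h.bs.five ((rk h.bs.mc h4 h.unif).img h.hom h.inj)
    (K := img ι K) (h.core ▸ img_mono ι hK) (fun x hx => h.cent hK hn hT hT' hx) fun X hX h1 h2 h3 => by
      obtain ⟨X, hXT, rfl⟩ := hi.exists_img_eq h2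
      refine img_mono ι (hmax ⟨(hi.img_le_img_iff hXT h.le).1 (h.core ▸ le_pCore (h.mp.syl.isPGroup.to_le h2)), hX,
        fun g hg => mem_normalizer_of_cj_mem fun x hx => ?_⟩ ((hi.img_le_img_iff hKT hXT).1 h1))
      have e : ∀ y (hy : y ∈ T), ((hi.autCongr (cjAut T g hg) ⟨ι y, hi.maps y hy⟩ : img ι T) : H) = ι (cj g y) :=
        fun y hy => by rw [← autFun_of_mem, hi.autFun_autCongr _ hy, autFun_cjAut hg hy]
      have := h3 (hi.autCongr (cjAut T g hg)) (by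
        rintro ⟨y, hy⟩ hy'
        obtain ⟨y, hyK, rfl⟩ := (hi.mem_img hKT).1 hy'
        rw [e y (hKT hyK)]
        exact mem_img_of_mem ι (cj_mem_of_mem_normalizer (hT' hg) hyK)) ⟨ι x, hi.maps x (hXT hx)⟩ (mem_img_of_mem ι hx)
      rwa [e x (hXT hx), hi.map_mem_img_iff hXT (cj_mem_of_mem_normalizer hg (hXT hx))] at this
  have hc' := hc.transport hi.symm (τ' := ι' ∘ cj τ ∘ ι) fun t ht => by simp only [Function.comp, hi.right t ht]
  rw [← h.core, hi.img_img h.le] at hc'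
  exact ⟨F₀, inferInstance, inferInstance, inferInstance, _, μ, _, _, _, ⟨hc', h.bs, h.bad, h.norm⟩,
    h.fus T τ _ le_rfl hc'.maps fun x hx => hi.right _ (hc.maps _ (hi.maps x hx))⟩

variable {K : Type*} [Field K] {T E : Subgroup G} {τ : G → G} {μ : K} {κ ψ₁ ψ₂ : G → K}

theorem Fn.cf (h : Fn p n F T E τ μ κ ψ₁ ψ₂) : Cf p n T E τ μ κ ψ₁ ψ₂ :=
  { h.toCo with
    mc := h.bs.mc
    five := h.bs.five
    hn := h.bs.hn
    norm := h.norm
    cent := cent_le h.bad.cen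
    ne_top := fun e => h.bad.nn E (isConj_refl F le_top) (normalizer_eq_top_iff.1 (h.norm.trans e))
    unif := h.norm ▸ h.bad.norm_le h.bs.mc (by have := h.bs.hn; omega) }

/-- `τ' = φ ∘ τ ∘ φ'` with `φ'` the inverse of `φ` on `R` (`Mor.exists_isoOn`), `Co.transport`; `N(φ E) ≥ φ T` with equality by
`Bs.max` and `Bad.conj`. -/
theorem Fn.conj (h : Fn p n F T E τ μ κ ψ₁ ψ₂) {R : Subgroup G} (hR : T ≤ R) (hτ : Mor F R τ) (hm : ∀ x ∈ R, τ x ∈ R)
    {φ : G → G} (hφ : Mor F R φ) : ∃ (τ' : G → G) (κ' ψ₁' ψ₂' : G → K),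
      Fn p n F (img φ T) (img φ E) τ' μ κ' ψ₁' ψ₂' ∧ Mor F (img φ R) τ' ∧ ∀ x ∈ img φ R, τ' x ∈ img φ R := by
  obtain ⟨g, hi, hg⟩ := hφ.exists_isoOn
  have hb := h.bad.conj h.bs.mc (by have := h.bs.hn; omega) (hφ.mono (h.le.trans hR)).isConj
  have hc := hφ.card_img_of_le hR
  refine ⟨φ ∘ τ ∘ g, _, _, _, ⟨h.toCo.transport (hi.mono hR) fun t ht => by
    simp only [Function.comp, hi.left t (hR ht)], hc ▸ h.bs, hb, (eq_of_le_of_card_ge (S := ⊤) (img_le_iff.2 fun t ht =>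
      hφ.map_mem_normalizer (h.le.trans hR) (hR ht) (h.norm.ge ht)) le_top (hc ▸ h.bs.max _ hb)).symm⟩,
    hφ.comp (hτ.comp hg hi.maps') fun x hx => hm _ (hi.maps' x hx), fun x hx => hi.maps _ (hm _ (hi.maps' x hx))⟩

end CL.MCD
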