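import Cfsg.Agent.FUS.MD.B2
import Cfsg.Agent.FUS.MD.PC

/-! # Normal centric subgroups with non-`p`-closed automizer; bad subgroups -/

set_option autoImplicit false

namespace CL.MCD

open Subgroup Cfsg Cfsg.FusionSystem CL.MaxCl CL.Fus
open scoped commutatorElement

universe u
variable {G : Type u} [Group G] [Finite G] {p n : ℕ} [hp : Fact p.Prime] {F : FusionSystem (⊤ : Subgroup G)}

namespace LemG

omit [Finite G] hp in
theorem autFun_conj {X : Subgroup G} (a k : MulAut X) {x : G} (hx : x ∈ X) :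
    autFun (a * k * a⁻¹) (autFun a x) = autFun a (autFun k x) := by
  rw [autFun_mul _ _ (autFun_mem a hx), autFun_inv_autFun a hx, autFun_mul _ _ hx]

omit [Finite G] hp in
theorem conj_mem_core {X : Subgroup G} {A : Subgroup (MulAut X)} {a k : MulAut X} (ha : a ∈ A) (hk : k ∈ pCoreOf p A) :
    a * k * a⁻¹ ∈ pCoreOf p A :=
  (Subgroup.mem_normalizer_iff.1 (le_normalizer_map_pCore _ ha) k).1 hk

omit [Finite G] hp in
/-- an extension of `a` preserves `kNorm` for a subgroup normalized by `a` -/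
theorem map_mem {X R : Subgroup G} (hXR : X ≤ R) {a : MulAut X} (ha : a ∈ F.autGroup X) {g : G → G} (hg : Mor F R g)
    (e : Set.EqOn g (autFun a) X) {r : G} (hr : r ∈ R) (h : r ∈ kNorm ⊤ X (pCoreOf p (F.autGroup X))) :
    g r ∈ kNorm ⊤ X (pCoreOf p (F.autGroup X)) := by
  obtain ⟨-, k, hk, ek⟩ := h
  refine ⟨mem_top _, _, conj_mem_core ha hk, fun y hy => ?_⟩
  have hx := autFun_mem a⁻¹ hy
  rw [← autFun_autFun_inv a hy, autFun_conj a k hx, ← e (autFun_mem k hx), ek hx, hg.map_cj hr (hXR hx), e hx]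

theorem le_Nphi (hG : IsPGroup p G) (hF : F.IsSaturated p) {X : Subgroup G} (hn : F.IsFullyNormalized X)
    {a : MulAut X} (ha : a ∈ F.autGroup X) : kNorm ⊤ X (pCoreOf p (F.autGroup X)) ≤ Nphi ⊤ X (autFun a) := by
  rintro s ⟨hs, k, hk, ek⟩
  obtain ⟨t, -, et⟩ := mem_autInducedBy_iff.1
    ((sylIn_of_fullyNormalized (hG.to_subgroup ⊤) hF hn).map_pCore_le (conj_mem_core ha hk))
  exact ⟨hs, mem_normalizer_of_eqOn_autFun ek, t, mem_top _, fun x hx => by
    rw [← ek hx, ← autFun_conj a k hx, et (autFun_mem a hx)]⟩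

theorem extend (hG : IsPGroup p G) (hF : F.IsSaturated p) {X : Subgroup G} (hc : F.IsCentric X)
    (hn : F.IsFullyNormalized X) {f : G → G} (hf : Mor F X f) (hm : ∀ x ∈ X, f x ∈ X) :
    ∃ g, Mor F (kNorm ⊤ X (pCoreOf p (F.autGroup X))) g ∧
      (∀ x ∈ kNorm ⊤ X (pCoreOf p (F.autGroup X)), g x ∈ kNorm ⊤ X (pCoreOf p (F.autGroup X))) ∧ Set.EqOn g f X := by
  obtain ⟨a, ha, ea⟩ := hf.exists_aut (hf.img_eq_self hm)
  have ma := mor_autFun le_top ha
  obtain ⟨g, hg, e⟩ := exists_extend_of_isCentric (hG.to_subgroup ⊤) hF ma hc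
  have hle := le_Nphi hG hF hn ha
  exact ⟨g, hg.mono hle, fun x hx => map_mem ma.le_Nphi ha hg e (hle hx) hx, e.trans ea⟩

omit [Finite G] hp in
theorem le_kNorm (hG : IsPGroup p G) (X : Subgroup G) : X ≤ kNorm ⊤ X (pCoreOf p (F.autGroup X)) := fun x hx =>
  ⟨mem_top _, cjAut X x (le_normalizer hx), inn_le_map_pCore F le_top (hG.to_subgroup X)
    (mem_inn_iff.2 ⟨x, hx, autFun_cjAut _⟩), autFun_cjAut _⟩

omit [Finite G] hp in
theorem card_cond {Q Q' : Subgroup G} (hc : F.IsConj Q Q')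
    (h : Nat.card Q' ≤ p ^ 2 ∨ (Nat.card Q' ≤ p ^ 3 ∧ ¬ IsMulCommutative Q')) :
    Nat.card Q ≤ p ^ 2 ∨ (Nat.card Q ≤ p ^ 3 ∧ ¬ IsMulCommutative Q) := by
  rw [isConj_card_eq hc]
  refine h.imp_right fun h => ⟨h.1, fun e => h.2 ⟨⟨fun a b => ?_⟩⟩⟩
  obtain ⟨f, hf, rfl⟩ := isConj_iff.1 hc
  obtain ⟨x, hx, ex⟩ := hf.mem_img.1 a.2
  obtain ⟨y, hy, ey⟩ := hf.mem_img.1 b.2
  have : x * y = y * x := congrArg Subtype.val (e.is_comm.comm ⟨x, hx⟩ ⟨y, hy⟩)
  exact Subtype.ext (by rw [coe_mul, coe_mul, ← ex, ← ey, ← hf.map_mul hx hy, this, hf.map_mul hy hx])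

end LemG

open LemG

/-- `Mor.map_conjAut_autGroup`, `CL.MSS.isPClosed_map`. -/
theorem pc_conj {Q Q' : Subgroup G} (hc : F.IsConj Q Q') (h : IsPClosed p (F.autGroup Q)) :
    IsPClosed p (F.autGroup Q') := by
  obtain ⟨f, hf, e⟩ := isConj_iff.1 hc
  rw [← hf.map_conjAut_autGroup e]
  exact CL.MSS.isPClosed_map h _

/-- If every automorphism of `X` in `F` extends to an automorphism of `R ≥ X` in `F`, `Aut_F(X)` is a quotient of a subgroup
of `Aut_F(R)` (`resSub`, `resAut`, `stabAut`). -/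
theorem pc_of_extend {X R : Subgroup G} (hXR : X ≤ R)
    (h : ∀ a ∈ F.autGroup X, ∃ g, Mor F R g ∧ (∀ x ∈ R, g x ∈ R) ∧ Set.EqOn g (autFun a) X)
    (hR : IsPClosed p (F.autGroup R)) : IsPClosed p (F.autGroup X) := by
  have h1 : IsPClosed p ((F.autGroup R).subgroupOf (stabAut R X)) := by
    rw [← CL.MSS.isPClosed_map_subtype_iff, subgroupOf_map_subtype]
    exact CL.MSS.isPClosed_of_le hR inf_le_left
  refine CL.MSS.isPClosed_of_le (CL.MSS.isPClosed_map h1 (resAut hXR)) fun a ha => ?_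
  obtain ⟨g, hg, hm, e⟩ := h a ha
  obtain ⟨b, hb, eb⟩ := hg.exists_aut (hg.img_eq_self hm)
  exact mem_resSub.2 ⟨b, hb, (eb.mono hXR).trans e⟩

/-- `Aut_G(R)` is a normal Sylow subgroup of `Aut_F(R)`, so `Nphi ⊤ R f = N(R)` (`exists_extend_of_isCentric`); the extension
maps `N(R)` into `N(f R) = N(R)`. -/
theorem extend_of_pc (hG : IsPGroup p G) (hF : F.IsSaturated p) {R : Subgroup G} (hc : F.IsCentric R)
    (hn : F.IsFullyNormalized R) (h : IsPClosed p (F.autGroup R)) {f : G → G} (hf : Mor F R f) (hm : ∀ x ∈ R, f x ∈ R) :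
    ∃ g, Mor F (normalizer (R : Set G)) g ∧ (∀ x ∈ normalizer (R : Set G), g x ∈ normalizer (R : Set G)) ∧
      Set.EqOn g f R := by
  have e : kNorm ⊤ R (pCoreOf p (F.autGroup R)) = normalizer (R : Set G) := by
    rw [← normalizerIn_top]
    exact kNorm_eq_normalizerIn (CL.MSS.isPClosed_iff.1 h _ (autInducedBy_le_autGroup F le_top)
      (isPGroup_autInducedBy (hG.to_subgroup ⊤) R))
  exact e ▸ extend hG hF hc hn hf hm

/-- `R = kNorm ⊤ X O` for `O = O_p(Aut_F(X)) ≤ Aut_G(X)` (`X` is fully normalized). `R` is normal, contains `X`, and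
`R ≤ Nphi ⊤ X f` for `f ∈ Aut_F(X)` as `f` normalizes `O`; the extension `g` maps `R` into `R` (`Mor.map_mem_kNorm`).
Radical: `O_p(Aut_F(R)) ≤ Aut_G(R)`; if `c_g` lies in it, the restriction to `X` of the normal `p`-subgroup
`O_p(Aut_F(R))` (its elements are conjugations, they stabilize `X`) is normalized by `Aut_F(X)`, so `g ∈ R`.
`Aut_F(R)` is not `p`-closed by `pc_of_extend`, so `R ≠ ⊤` (`sylIn_inn_top`). `normal_cases'`: `R = P i` is handled by `rad_P`;
if `R` has index `p` and contains a uniform element, `|R| ≤ p³` (`card_of_unif`), against `n ≥ 5`; if `R = C ≠ P 1`,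
`six_of_C`. -/
theorem closure_normal (h : IsMC p n G) (hn : 5 ≤ n) (h5 : 5 ≤ p) (hF : F.IsSaturated p) {X : Subgroup G} [X.Normal]
    (hc : F.IsCentric X) (nc : ¬ IsPClosed p (F.autGroup X)) : ∃ R : Subgroup G, X ≤ R ∧ R.Normal ∧
      (∀ g, g ∈ R ↔ ∃ a ∈ pCoreOf p (F.autGroup X), Set.EqOn (autFun a) (cj g) X) ∧ F.IsRadical p R ∧
      ¬ IsPClosed p (F.autGroup R) ∧
      (∀ f, Mor F X f → (∀ x ∈ X, f x ∈ X) → ∃ g, Mor F R g ∧ (∀ x ∈ R, g x ∈ R) ∧ Set.EqOn g f X) ∧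
      (R = P G 1 ∨ (n = 6 ∧ C G 4 ≠ P G 1 ∧ (R = C G 4 ∨ R = P G 3))) := by
  have hG := h.isPGroup
  have hXn : ∀ g : G, g ∈ normalizer (X : Set G) := fun g => by rw [normalizer_eq_top]; trivial
  have hfn : F.IsFullyNormalized X := fullyNormalized_of_normal F le_top fun g _ => hXn g
  have hXR := le_kNorm (F := F) hG X
  have hext := fun f => extend hG hF hc hfn (f := f)
  have hRn : (kNorm ⊤ X (pCoreOf p (F.autGroup X))).Normal := ⟨fun r hr g =>
    map_mem le_top (cjAut_mem_autGroup F le_top (mem_top g) (hXn g)) (mor_cj F le_rfl (mem_top g))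
      (autFun_cjAut _).symm (mem_top r) hr⟩
  have hmem : ∀ g, g ∈ kNorm ⊤ X (pCoreOf p (F.autGroup X)) ↔
      ∃ a ∈ pCoreOf p (F.autGroup X), Set.EqOn (autFun a) (cj g) X := fun g => ⟨fun e => e.2, fun e => ⟨mem_top _, e⟩⟩
  generalize kNorm ⊤ X (pCoreOf p (F.autGroup X)) = R at hXR hext hRn hmem
  have hcR := isCentric_of_le hc hXR le_top
  have hext' : ∀ a ∈ F.autGroup X, ∃ g, Mor F R g ∧ (∀ x ∈ R, g x ∈ R) ∧ Set.EqOn g (autFun a) X := fun a ha =>
    hext _ (mor_autFun le_top ha) fun x hx => autFun_mem a hx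
  have ncR : ¬ IsPClosed p (F.autGroup R) := fun e => nc (pc_of_extend hXR hext' e)
  have hrad : F.IsRadical p R := by
    refine ⟨le_top, le_antisymm (fun b hb => ?_) (inn_le_map_pCore F le_top (hG.to_subgroup R))⟩
    have hfR : F.IsFullyNormalized R := fullyNormalized_of_normal F le_top (normalizer_eq_top R).ge
    obtain ⟨g, -, eg⟩ := mem_autInducedBy_iff.1 ((sylIn_of_fullyNormalized (hG.to_subgroup ⊤) hF hfR).map_pCore_le hb)
    refine mem_inn_iff.2 ⟨g, (hmem g).2 ⟨cjAut X g (hXn g), ?_, autFun_cjAut _⟩, eg⟩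
    refine le_map_pCore (N := resSub hXR (pCoreOf p (F.autGroup R))) (fun c hc => ?_) (fun a ha => ?_)
      (isPGroup_resSub hXR (isPGroup_map_pCore _)) (mem_resSub.2 ⟨b, hb, (eg.mono hXR).trans (autFun_cjAut _).symm⟩)
    · obtain ⟨d, hd, ed⟩ := mem_resSub.1 hc
      exact ((mor_autFun (F := F) le_top (CL.Fus.map_pCore_le (F.autGroup R) hd)).mono hXR).mem_autGroup ed.symm
    · refine mem_normalizer_fintype fun c hc => ?_
      obtain ⟨d, hd, ed⟩ := mem_resSub.1 hc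
      obtain ⟨k, hk, hm, ek⟩ := hext' a ha
      obtain ⟨l, hl, el⟩ := hk.exists_aut (hk.img_eq_self hm)
      have e : Set.EqOn (autFun l) (autFun a) X := (el.mono hXR).trans ek
      refine mem_resSub.2 ⟨_, conj_mem_core hl hd, fun y hy => ?_⟩
      have hx := autFun_mem a⁻¹ hy
      rw [← autFun_autFun_inv a hy, autFun_conj a c hx, ← e hx, autFun_conj l d (hXR hx), ed hx, e (autFun_mem c hx)]
  refine ⟨R, hXR, hRn, hmem, hrad, ncR, hext, ?_⟩
  by_cases h1 : R = P G 1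
  · exact .inl h1
  refine .inr ?_
  rcases normal_cases' h (by omega) R with rfl | ⟨i, hi, -, rfl⟩ | e | rfl | ⟨e, s, hsR, hs⟩
  · have hs := sylIn_inn_top (hG.to_subgroup ⊤) hF
    rw [← hrad.2] at hs
    exact (ncR (CL.MSS.isPClosed_iff.2 fun Q hQ hq =>
      hs.le_of_le_normalizer' hQ hq (hQ.trans (le_normalizer_map_pCore _)))).elim
  · obtain ⟨rfl, rfl, e⟩ := rad_P h (by omega) h5 hF hi hcR hrad
    exact ⟨rfl, e, .inr rfl⟩
  · exact (h1 e).elim
  · obtain rfl := six_of_C h (by omega) h1 ncR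
    exact ⟨rfl, h1, .inl rfl⟩
  · exfalso
    have h3 : Nat.card R ≤ p ^ 3 := (card_of_unif h (by omega) hs hsR (last_le h (cent_le hcR)) ncR).elim
      (fun e => e.trans (Nat.pow_le_pow_right hp.out.pos (by omega))) fun e => e.1
    have h2 := R.index_mul_card
    rw [e, h.card] at h2
    have h4 : p ^ n ≤ p ^ 4 := by
      rw [← h2, pow_succ']
      exact Nat.mul_le_mul_left p h3
    have := (Nat.pow_le_pow_iff_right hp.out.one_lt).1 h4
    omega

/-- If a conjugate `Q'` contains a uniform element, `card_of_unif` applies to `Q'`, the conclusion passes to `Q ≅ Q'`, and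
`exists_unif_of_card` gives a uniform element in `Q`. -/
theorem Bad.conj (h : IsMC p n G) (h4 : 4 ≤ n) {Q Q' : Subgroup G} (hQ : Bad p n F Q) (hc : F.IsConj Q Q') :
    Bad p n F Q' := by
  have c' := isCentric_of_isConj hQ.cen hc
  have n' : ¬ IsPClosed p (F.autGroup Q') := fun e => hQ.nc (pc_conj (isConj_symm hc) e)
  refine ⟨c', n', fun R hR => hQ.nn R (isConj_trans hc hR), fun s hs hu => ?_⟩
  obtain ⟨t, ht, hu'⟩ := exists_unif_of_card h h4 (cent_le hQ.cen)
    (card_cond hc (card_of_unif h h4 hu hs (last_le h (cent_le c')) n'))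
  exact hQ.nu t ht hu'

/-- `normal_of_unif`, `le_or_le`. -/
theorem Bad.norm_le (h : IsMC p n G) (h4 : 4 ≤ n) {Q : Subgroup G} (hQ : Bad p n F Q) :
    normalizer (Q : Set G) ≤ P G 1 ∨ normalizer (Q : Set G) ≤ C G (n - 2) := by
  exact le_or_le fun s hs hu =>
    hQ.nn Q (isConj_refl F le_top) (normal_of_unif h h4 hu (last_le h (cent_le hQ.cen)) hs hQ.nu)

/-- `|Q| ≥ p³` by `exists_unif_of_card`, and `Q < N(Q)`. -/
theorem Bad.card_norm (h : IsMC p n G) (h4 : 4 ≤ n) {Q : Subgroup G} (hQ : Bad p n F Q) :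
    p ^ 4 ≤ Nat.card (normalizer (Q : Set G)) := by
  have hne : Q < ⊤ := lt_top_iff_ne_top.2 fun e => hQ.nn Q (isConj_refl F le_top) (e ▸ inferInstance)
  have h1 := CL.Fus.card_lt_of_lt (lt_normalizerIn (pTop h) hne) le_top
  rw [normalizerIn_top] at h1
  have h2 : p ^ 2 < Nat.card Q := not_le.1 fun e => by
    obtain ⟨t, ht, hu⟩ := exists_unif_of_card h h4 (cent_le hQ.cen) (.inl e)
    exact hQ.nu t ht hu
  obtain ⟨a, ha⟩ := (h.isPGroup.to_subgroup Q).exists_card_eq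
  obtain ⟨b, hb⟩ := (h.isPGroup.to_subgroup (normalizer (Q : Set G))).exists_card_eq
  rw [ha] at h2
  rw [ha, hb] at h1
  rw [hb]
  have := (Nat.pow_lt_pow_iff_right hp.out.one_lt).1 h1
  have := (Nat.pow_lt_pow_iff_right hp.out.one_lt).1 h2
  exact Nat.pow_le_pow_right hp.out.pos (by omega)

/-- `R` is not bad; it contains no uniform element (`card_of_unif`, `card_normalizer_le`, `four`), so it is conjugate to a
normal, hence fully normalized, subgroup (`exists_mor_normalizer_of_fullyNormalized`). -/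
theorem Bs.normal {m : ℕ} (h : Bs p n F m) {R : Subgroup G} (hc : F.IsCentric R) (nc : ¬ IsPClosed p (F.autGroup R))
    (hm : m < Nat.card (normalizer (R : Set G))) : ∃ φ, Mor F (normalizer (R : Set G)) φ ∧ (img φ R).Normal := by
  have h4 : 4 ≤ n := by have := h.hn; omega
  have nu : ∀ s ∈ R, ¬ Unif n s := fun s hs hu => by
    have hZ := last_le h.mc (cent_le hc)
    have h3 : Nat.card R ≤ p ^ 3 := (card_of_unif h.mc h4 hu hs hZ nc).elim
      (fun e => e.trans (Nat.pow_le_pow_right hp.out.pos (by omega))) fun e => e.1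
    have := card_normalizer_le h.mc h4 hu hs hZ h3
    have := h.four
    omega
  by_cases e : ∀ Q', F.IsConj R Q' → ¬ Q'.Normal
  · exact absurd (h.max R ⟨hc, nc, e, nu⟩) hm.not_ge
  push Not at e
  obtain ⟨Q', hQ', hn⟩ := e
  obtain ⟨g, hg, eg⟩ := exists_mor_normalizer_of_fullyNormalized (pTop h.mc) h.sat
    (fullyNormalized_of_normal F le_top (normalizer_eq_top Q').ge) hQ'
  exact ⟨g, normalizerIn_top R ▸ hg, eg ▸ hn⟩

end CL.MCD
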