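import Cfsg.Agent.FUS.MD.PG
import Cfsg.Agent.FUS.MD.Wt
import Cfsg.Agent.FUS.EssExt

/-! # The primes `2` and `3`; extraspecial pearls -/

set_option autoImplicit false

namespace CL.MCD

open Subgroup Cfsg Cfsg.FusionSystem CL.MaxCl CL.Fus CL.EssSm
open scoped commutatorElement

variable {G : Type*} [Group G] [Finite G] {p n : ℕ} [hp : Fact p.Prime] (h : IsMC p n G)
include h

/-- `C G 2 = P 1` (`C_two`) is abelian (`comm_P_one`, `P 4 = ⊥`). -/
theorem eq_of_four (h4 : n = 4) {E : Subgroup G} (hc : centralizer (E : Set G) ≤ E) (hE : ∀ x ∈ E, ¬ Unif n x) :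
    E = P G 1 := by
  subst h4
  have h1 : E ≤ P G 1 := (le_or_le hE).elim id fun e => e.trans C_two.le
  refine le_antisymm h1 (le_trans ?_ ((centralizer_le h1).trans hc))
  rw [← commutator_eq_bot_iff_le_centralizer, ← le_bot_iff, ← h.P_eq_bot le_rfl]
  exact comm_P_one h le_rfl

omit hp h in
theorem cube [Fact (Nat.Prime 3)] (h : IsMC 3 n G) (h5 : 5 ≤ n) {i : ℕ} (hi : 1 ≤ i) {x : G} (hx : x ∈ P G i) :
    x ^ 3 ∈ P G (i + 2) ∧ (i + 3 ≤ n → x ∉ P G (i + 1) → x ^ 3 ∉ P G (i + 3)) := by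
  by_cases e : 2 ≤ i
  · exact ⟨h.pow_mem_add e hx, fun hn => h.pow_not_mem (by omega) e hn hx⟩
  obtain rfl : i = 1 := by omega
  refine ⟨?_, fun _ hx' => (h.pow_not_mem_one (by omega) h5 hx hx').2⟩
  by_cases hx' : x ∈ P G 2
  · exact P_succ_le 3 (h.pow_mem_add le_rfl hx')
  · exact (h.pow_not_mem_one (by omega) h5 hx hx').1

omit hp h in
theorem cube_iff [Fact (Nat.Prime 3)] (h : IsMC 3 n G) (h5 : 5 ≤ n) {m k : ℕ} (hk : m + 2 * k = n) {x : G}
    (hx : x ∈ P G 1) : x ∈ P G m ↔ x ^ 3 ^ k = 1 := by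
  have key : ∀ k j : ℕ, ∀ x ∈ P G j, 1 ≤ j → j < n → x ∉ P G (j + 1) → (x ^ 3 ^ k = 1 ↔ n ≤ j + 2 * k) := by
    intro k
    induction k with
    | zero => exact fun j x _ _ _ hx' => iff_of_false (fun e => hx' (by simp_all)) (by omega)
    | succ k ih =>
      intro j x hx h1 hj hx'
      rw [pow_succ', pow_mul]
      obtain ⟨c1, c2⟩ := cube h h5 h1 hx
      by_cases e : j + 3 ≤ n
      · rw [ih (j + 2) _ c1 (by omega) (by omega) (c2 e hx')]
        omega
      · rw [h.P_eq_bot (by omega), mem_bot] at c1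
        exact iff_of_true (by rw [c1, one_pow]) (by omega)
  by_cases e : x = 1
  · simp [e]
  obtain ⟨j, h1, h2, h3, h4⟩ := exists_step (Q := fun j => x ∈ P G j) (show 1 ≤ n by omega) hx
    (by rwa [h.P_eq_bot le_rfl, mem_bot])
  rw [key k j x h3 h1 h2 h4]
  exact ⟨fun hm => by_contra fun e => h4 (P_anti (by omega) hm), fun e => P_anti (by omega) h3⟩

/-- `C = P 1` (`exceptional`), so `E ≤ P 1`. Use `exists_rad_of_essential`. `|E : Φ(E)| ≤ p ^ (p-1)` if `n ≥ p + 2`
(`card_inf_P_one_le`, `index_frattini_le_of_card_le`). `p = 2`: against `Rad.index_eq₀`. `p = 3`, `n = 4`: `eq_of_four`.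
`p = 3`, `n ≥ 5`: `|E : Φ(E)| = 9`. For `x ∈ P i \ P (i+1)`, `i ≥ 1`, `x³ ∈ P (i+2)` and `x³ ∉ P (i+3)` if `i + 3 ≤ n`
(`pow_mem_add`, `pow_not_mem`, `pow_not_mem_one`), so for `x ∈ P 1`: `x ^ 3 ^ k = 1 ↔ x ∈ P (n - 2k)`; hence
`M k = E ⊓ P (n - 2k)` is characteristic in `E`. Take `k` with `E ≰ P (n - 2k)`, `E ≤ P (n - 2(k+1))`, and let
`i = max 1 (n - 2(k+1))`, `E ≤ P i`, `P (i+2) ≤ P (n - 2k)`-or-larger: `E / M k` embeds in `P i / P (n-2k)`, elementary
abelian of order `≤ 9` (`commutator_P_le_succ'`), so `Φ(E) ≤ M k`, `M k = Φ(E)` (`Rad.irr₀`), `n - 2k = i + 2` and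
`P i = E P (i+2)`; cubing, `E` meets all layers `≥ i`, so `E = P i`. If `i ≥ 2`, `u ∈ P (i-1) \ P i` has
`⁅u, P i⁆ ≤ P (2i) ≤ P (i+2) = Φ(E)`, so `c_u ∈ Inn E` (`Rad.mem_inn`), `u ∈ E` (`cjAut_mem_inn_iff`). -/
theorem small (h4 : 4 ≤ n) (h3 : p ≤ 3) {F : FusionSystem (⊤ : Subgroup G)} (hF : F.IsSaturated p) {E : Subgroup G}
    (hE : F.IsEssential p E) (hu : ∀ x ∈ E, ¬ Unif n x) : E = P G 1 := by
  have hc := cent_le hE.1
  by_cases e4 : n = 4
  · exact eq_of_four h e4 hc hu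
  have hC : C G (n - 2) = P G 1 := by_contra fun e => by have := h.exceptional h4 e; omega
  have h1 : E ≤ P G 1 := (le_or_le hu).elim id fun e => e.trans hC.le
  obtain ⟨u, hr⟩ := exists_rad_of_essential (pTop h) hF hE
  have i1 := h.card_inf_P_one_le h4 (by omega) (H := E) (U := (frattini E).map E.subtype)
    fun x hx => CL.PG.pow_mem_frattini_map hr.pg hx
  rw [inf_of_le_left h1] at i1
  have i2 := index_frattini_le_of_card_le le_rfl i1
  have two := hp.out.two_le
  have i3 : (frattini E).index ∣ p ^ 2 := by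
    obtain ⟨a, ha⟩ := hr.pg.index (frattini E)
    rw [ha] at i2 ⊢
    exact pow_dvd_pow p (((pow_le_pow_iff_right₀ hp.out.one_lt).1 i2).trans (by omega))
  have i4 := hr.index_eq₀ i3
  obtain rfl : p = 3 := by
    have := (pow_le_pow_iff_right₀ hp.out.one_lt).1 (i4 ▸ i2)
    omega
  have h5 : 5 ≤ n := by omega
  obtain ⟨i, hi, hin, hE1, hE2⟩ := exists_step (Q := fun j => E ≤ P G j) (show 1 ≤ n by omega) h1 fun e =>
    h.P_ne_bot (i := n - 1) (by omega) (le_bot_iff.1 (((last_le h hc).trans e).trans (h.P_eq_bot le_rfl).le))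
  obtain ⟨m, k, hm, hk⟩ : ∃ m k, (m = i + 1 ∨ m = i + 2) ∧ m + 2 * k = n := by
    rcases Nat.even_or_odd' (n - (i + 1)) with ⟨k, e | e⟩
    · exact ⟨i + 1, k, Or.inl rfl, by omega⟩
    · exact ⟨i + 2, k, Or.inr rfl, by omega⟩
  have hM : (P G m).subgroupOf E = frattini E := by
    refine hr.irr₀ i3 (CL.PG.frattini_le_of_commutator_le_of_pow_mem (p := 3) (commutator_le.2 fun x _ y _ => ?_) fun x => ?_)
      (fun g x hx => ?_) fun e => hE2 ((subgroupOf_eq_top.1 e).trans (P_anti (by omega)))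
    · exact P_anti (show m ≤ 2 * i + 1 by omega)
        (h.commutator_P_self_le (Or.inr h4) (commutator_mem_commutator (hE1 x.2) (hE1 y.2)))
    · exact P_anti (show m ≤ i + 2 by omega) (cube h h5 hi (hE1 x.2)).1
    · rw [mem_subgroupOf, cube_iff h h5 hk (h1 (Subtype.prop _)), ← Subgroup.coe_pow, OneMemClass.coe_eq_one] at hx ⊢
      exact (map_pow (g : MulAut E) x _).symm.trans (by rw [hx, map_one])
  have c1 : Nat.card E = 9 * Nat.card ↥(E ⊓ P G m) := by
    rw [← (frattini E).index_mul_card, i4, ← hM, ← inf_subgroupOf_left,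
      Nat.card_congr (subgroupOfEquivOfLe inf_le_left).toEquiv]
    rfl
  have c2 := h.card_inf_P_le h4 E hin
  have c3 := Nat.card_pos (α := ↥(E ⊓ P G m))
  rw [inf_of_le_left hE1] at c2
  obtain rfl : m = i + 2 := hm.resolve_left fun e => by subst e; omega
  have hE3 : ¬ E ⊓ P G (i + 1) ≤ P G (i + 2) := fun e => by
    have := Subgroup.card_le_of_le (le_inf inf_le_left e)
    omega
  have lay : ∀ j, i + j < n → ∃ x ∈ E, x ∈ P G (i + j) ∧ x ∉ P G (i + j + 1) := fun j => by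
    induction j using Nat.twoStepInduction with
    | zero => exact fun _ => (SetLike.not_le_iff_exists.1 hE2).imp fun x hx => ⟨hx.1, hE1 hx.1, hx.2⟩
    | one => exact fun _ => (SetLike.not_le_iff_exists.1 hE3).imp fun x hx => ⟨hx.1.1, hx.1.2, hx.2⟩
    | more j ih _ =>
      intro hj
      obtain ⟨x, hx, k1, k2⟩ := ih (by omega)
      obtain ⟨k3, k4⟩ := cube h h5 (by omega) k1
      exact ⟨x ^ 3, pow_mem hx 3, k3, k4 (by omega) k2⟩
  have down : ∀ l j, i + j + l = n → P G (i + j) ≤ E := fun l => by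
    induction l with
    | zero => exact fun j hj => (h.P_eq_bot hj.ge).le.trans bot_le
    | succ l ih =>
      intro j hj
      obtain ⟨x, hx, k1, k2⟩ := lay j (by omega)
      rw [h.sup_zpowers (Or.inr h4) k1 k2]
      exact sup_le (ih (j + 1) (by omega)) (zpowers_le.2 hx)
  obtain rfl : E = P G i := le_antisymm hE1 (down (n - i) 0 (by omega))
  by_contra hne
  obtain ⟨i, rfl⟩ : ∃ j, i = j + 2 := ⟨i - 2, by
    have : i ≠ 1 := fun e => hne (by rw [e])
    omega⟩
  obtain ⟨x, hx, hx'⟩ := h.exists_mem_not_mem (i := i + 1) (Or.inr h4) (by omega)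
  have hn : x ∈ normalizer (P G (i + 2) : Set G) := (normalizer_eq_top _).ge (mem_top x)
  refine hx' ((cjAut_mem_inn_iff le_top (centralizerIn_le_of_isCentric hE.1) (mem_top x) hn).1
    (hr.mem_inn (A := ⊤) (B := ⊤) le_top le_rfl (inv_of_char _ _) (inv_of_char _ _)
      (cjAut_mem_autGroup F le_top (mem_top x) hn) (fun y _ => ?_) (fun _ _ => mem_top _) fun _ => mem_top _))
  rw [← hM, mem_subgroupOf]
  have := h.commutator_P_le_succ' h4 hC (a := i + 2) (b := i + 1) (by omega) (by omega)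
    (commutator_mem_commutator (inv_mem y.2) hx)
  refine P_anti (show i + 2 + 2 ≤ i + 2 + (i + 1) + 1 by omega) ?_
  simpa [commutatorElement_def, cjAut_apply, cj_apply, mul_assoc] using this

/-- `E` contains a uniform `s` (`exists_unif_of_card`), `E = P (n-2) ⊔ ⟨s⟩` (`exists_sup`), `Z(E) = Φ(E) = Z = P (n-1)`.
`Rad.exists_inv` with `A = Z(E)` gives `w ∈ Aut_F(E)` inverting `E / Z`, `Rad.commutator_mem_inn` shows that `w` normalizes
`Aut_G(E)`. An essential `R ≥ N(E) > E` contains `s` and has order at most `p³` (`hess`), so `exists_top_of_normalizes`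
extends `w` to `G`; `not_inv`. -/
theorem not_extraspecial (h4 : 4 ≤ n) (hne : C G (n - 2) ≠ P G 1) {F : FusionSystem (⊤ : Subgroup G)}
    (hF : F.IsSaturated p) (hess : ∀ R, F.IsEssential p R → ∀ s ∈ R, Unif n s → Nat.card R ≤ p ^ 3) {E : Subgroup G}
    (hE : F.IsEssential p E) (h3 : Nat.card E = p ^ 3) (na : ¬ IsMulCommutative E) : False := by
  have hc := cent_le hE.1
  have hZ := last_le h hc
  obtain ⟨s, hsE, hs⟩ := exists_unif_of_card h h4 hc (Or.inr ⟨h3.le, na⟩)
  obtain ⟨j, -, hj, -, e, c⟩ := exists_sup h h4 hs hsE hZ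
  obtain rfl : j = n - 2 := by
    have := Nat.pow_right_injective hp.out.two_le (h3.symm.trans c)
    omega
  obtain ⟨u, hr⟩ := exists_rad_of_essential (pTop h) hF hE
  obtain ⟨⟨-, f1, -⟩, f2⟩ := isExtraspecial_of_card h3 na
  have i1 : (frattini E).relIndex (center E) ∣ p := by rw [f1, relIndex_self]; exact one_dvd _
  have i2 : (center E).index = p ^ 2 := by
    have := (center E).card_mul_index
    rwa [f2, h3, pow_succ' p 2, Nat.mul_right_inj hp.out.ne_zero] at this
  obtain ⟨w, hw, hi⟩ := hr.exists_inv f1.le (inv_of_char _ _) i1 i2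
  obtain ⟨g, hg, eg⟩ := exists_top_of_normalizes (pTop h) hF hE.1 (fun R hR hle => by
    have h1 := lt_normalizerIn (pTop h) (lt_of_essential (pTop h) hF hE)
    have := (CL.Fus.card_lt_of_lt (h1.trans_le hle) le_top).trans_le (hess R hR s (hle (h1.le hsE)) hs)
    omega) hw fun t ht => by
      have := mul_mem (inn_le_autInducedBy le_top
        (hr.commutator_mem_inn f1.le i1 hw (autInducedBy_le_autGroup F le_top ht) hi)) ht
      rwa [commutatorElement_def, inv_mul_cancel_right] at this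
  have hZ' : (P G (n - 1)).subgroupOf E = center E := Subgroup.eq_of_le_of_card_ge
    (fun x hx => mem_center_iff.2 fun y => Subtype.ext (mem_center_iff.1 (h.P_le_center hx) y)) (by
      rw [f2, Nat.card_congr (subgroupOfEquivOfLe hZ).toEquiv, h.card_P' h4 (j := 1) (by omega), pow_one])
  refine not_inv h h4 (σ := MulEquiv.ofBijective (MonoidHom.mk' g fun _ _ => hg.map_mul (mem_top _) (mem_top _))
    (Finite.injective_iff_bijective.1 fun _ _ e => hg.injOn (mem_top _) (mem_top _) e)) hne hs fun y hy => ?_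
  rw [← e] at hy
  have := hZ'.ge (hi ⟨y, hy⟩)
  change y * g y ∈ _
  rwa [eg hy, autFun_of_mem w hy]

end CL.MCD
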