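import Cfsg.Agent.FUS.MD.Climb
import Cfsg.Agent.FUS.MD.Small

/-! # Essential subgroups of `p`-groups of maximal class -/

set_option autoImplicit false

namespace CL.MCD

open Subgroup Cfsg Cfsg.FusionSystem CL.MaxCl CL.Fus
open scoped commutatorElement

theorem nc_of_essential {Ω : Type*} [Group Ω] {S : Subgroup Ω} [Finite S] {p : ℕ} [Fact p.Prime] {F : FusionSystem S}
    (hS : IsPGroup p S) (hF : F.IsSaturated p) {E : Subgroup Ω} (hE : F.IsEssential p E) :
    ¬ IsPClosed p (F.autGroup E) := fun hc => by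
  have e := (CL.MSS.isPClosed_iff.1 hc _ (autInducedBy_le_autGroup F hE.1.1) (isPGroup_autInducedBy hS E)).trans
    (isRadical_of_essential hS hF hE).2.le
  refine (lt_normalizerIn hS (lt_of_essential hS hF hE)).not_ge fun x hx => ?_
  exact (cjAut_mem_inn_iff hE.1.1 (centralizerIn_le_of_isCentric hE.1) hx.1 hx.2).1
    (e (cjAut_mem_autInducedBy hx.1 hx.2))

universe u
variable {G : Type u} [Group G] [Finite G] {p n : ℕ} [hp : Fact p.Prime] {F : FusionSystem (⊤ : Subgroup G)}

theorem normal_of_essential (h : IsMC p n G) (h4 : 4 ≤ n) (hF : F.IsSaturated p) {E : Subgroup G}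
    (hE : F.IsEssential p E) (hu : ∀ s ∈ E, ¬ Unif n s) : E = P G 1 ∨ (5 ≤ p ∧ E.Normal) := by
  by_cases h3 : p ≤ 3
  · exact Or.inl (small h h4 h3 hF hE hu)
  by_cases e : n = 4
  · exact Or.inl (eq_of_four h e (cent_le hE.1) hu)
  have h5 : 5 ≤ p := hp.out.five_le_of_ne_two_of_ne_three (by omega) (by omega)
  refine Or.inr ⟨h5, by_contra fun hn => not_bad h (by omega) h5 hF E
    ⟨hE.1, nc_of_essential (pTop h) hF hE, fun Q hQ hQn => hn ?_, hu⟩⟩
  have := hE.2.1.2 Q hQ
  rw [normalizerIn_top, normalizerIn_top, normalizer_eq_top] at this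
  exact normalizer_eq_top_iff.1 (eq_of_le_of_card_ge (S := ⊤) le_top le_top this)

theorem not_extraspecial' (h : IsMC p n G) (h4 : 4 ≤ n) (hne : C G (n - 2) ≠ P G 1) (hF : F.IsSaturated p)
    {E : Subgroup G} (hE : F.IsEssential p E) (h3 : Nat.card E = p ^ 3) (na : ¬ IsMulCommutative E) : False := by
  refine not_extraspecial h h4 hne hF (fun R hR s hs hu => ?_) hE h3 na
  rcases card_of_unif h h4 hu hs (last_le h (cent_le hR.1)) (nc_of_essential (pTop h) hF hR) with h1 | h1
  · exact h1.trans (Nat.pow_le_pow_right hp.out.pos (by omega))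
  · exact h1.1

theorem exists_top {Ω : Type*} [Group Ω] {S : Subgroup Ω} (F : FusionSystem S) (p : ℕ) :
    ∃ F' : FusionSystem (⊤ : Subgroup S), (F.IsSaturated p → F'.IsSaturated p) ∧
      ∀ E, F.IsEssential p E → F'.IsEssential p (E.subgroupOf S) := by
  have hi := isoOn_subgroupOf (le_refl S)
  rw [subgroupOf_self] at hi
  obtain ⟨F', hc⟩ := hi.symm.exists_corr F
  refine ⟨F', hc.isSaturated, fun E hE => ?_⟩
  have := hc.isEssential hE
  rwa [show img (homFn (MonoidHom.id S)) E = E.subgroupOf S from ?_] at this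
  ext x
  rw [hi.symm.mem_img_iff hE.1.1, mem_subgroupOf]
  exact and_iff_right (mem_top x)

end CL.MCD
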