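import Cfsg.Agent.FUS.MD.Defs
import Cfsg.Agent.FUS.NormalSub

/-! # The outer automizer of a radical subgroup acting on the Frattini quotient -/

set_option autoImplicit false

namespace CL.MCD

open Subgroup Cfsg Cfsg.FusionSystem CL.MaxCl CL.Fus
open scoped commutatorElement

universe u
variable {G : Type u} [Group G] [Finite G] {p : ℕ} [hp : Fact p.Prime] {F : FusionSystem (⊤ : Subgroup G)}

/-- As in `CL.MCN.exists_ctx`: `V = R / Φ(R)` (`CL.MCN.Fu.exists_lin`), `Γ = Aut_F(R) / N` with `N` the kernel of the action on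
`V`; `N = Inn R` as `N` is a normal `p`-subgroup (`mem_pCore_of_chain`, or Burnside's theorem on automorphisms of order prime to
`p`) and `R` is radical; `κ g` is the class of `cjAut R g`; `ν x = 0` outside `R`. -/
theorem exists_out (hG : IsPGroup p G) (hF : F.IsSaturated p) {R : Subgroup G} [R.Normal] (hc : F.IsCentric R)
    (hr : F.IsRadical p R) :
    ∃ (Γ : Type u) (_ : Group Γ) (_ : Finite Γ) (V : Type u) (_ : AddCommGroup V) (_ : Module (ZMod p) V)
      (_ : Module.Finite (ZMod p) V) (ρ : Γ →* Module.End (ZMod p) V) (π : F.autGroup R →* Γ) (κ : G →* Γ) (ν : G → V),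
      Function.Injective ρ ∧ Function.Surjective π ∧ (∀ a, π a = 1 ↔ (a : MulAut R) ∈ Inn R) ∧
      (∀ g a, π a = κ g ↔ ∃ r ∈ R, Set.EqOn (autFun (a : MulAut R)) (cj (g * r)) R) ∧ (∀ g, κ g = 1 ↔ g ∈ R) ∧
      SylIn p κ.range ⊤ ∧ (∀ N : Subgroup Γ, N.Normal → IsPGroup p N → N = ⊥) ∧
      (∀ x ∈ R, ∀ y ∈ R, ν (x * y) = ν x + ν y) ∧ (∀ v, ∃ x ∈ R, ν x = v) ∧
      (∀ x : R, ν x = 0 ↔ x ∈ frattini R) ∧ (∀ g, ∀ x ∈ R, ρ (κ g) (ν x) = ν (g * x * g⁻¹)) := by
  classical
  have hS : IsPGroup p (⊤ : Subgroup G) := hG.to_subgroup ⊤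
  have hR : IsPGroup p R := hG.to_subgroup R
  have hn : ∀ g : G, g ∈ normalizer (R : Set G) := fun g => (normalizer_eq_top R).ge (mem_top g)
  have hT := sylIn_of_fullyNormalized hS hF (fullyNormalized_of_normal F (P := R) le_top fun g _ => hn g)
  obtain ⟨V, _, _, _, π, ν, hν, hsur, hact, h0⟩ := MCN.Fu.exists_lin hR
  set A := F.autGroup R with hA
  have n1 : ν 1 = 0 := by simpa using hν 1 1
  let N := (π.comp A.subtype).ker
  have pN : IsPGroup p N := Fus.isPGroup_of_forall_coprime fun a ha hco =>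
    Subtype.ext (MC.eq_one_of_frattini hR (by rwa [orderOf_coe]) fun y => by
      rw [← h0, hν, ← hact, show π a = 1 from ha, Module.End.one_apply, ← hν, inv_mul_cancel, n1])
  have core : ∀ M : Subgroup A, M.Normal → IsPGroup p M → ∀ a ∈ M, (a : MulAut R) ∈ Inn R := fun M _ hM a ha =>
    hr.2.le ⟨a, le_pCore hM ha, rfl⟩
  have hN : ∀ a : A, QuotientGroup.mk' N a = 1 ↔ (a : MulAut R) ∈ Inn R := fun a => by
    refine (QuotientGroup.eq_one_iff a).trans ⟨core N inferInstance pN a, ?_⟩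
    rintro ⟨g, hg⟩
    change π a = 1
    ext v
    obtain ⟨x, rfl⟩ := hsur v
    rw [hact, ← hg, MulAut.conj_apply, hν, hν, add_right_comm, ← hν, mul_inv_cancel, n1, zero_add,
      Module.End.one_apply]
  let κ₀ : G →* A := MonoidHom.mk' (fun g => ⟨cjAut R g (hn g), cjAut_mem_autGroup F le_top (mem_top g) (hn g)⟩)
    fun a b => Subtype.ext (cjAut_mul (hn a) (hn b))
  have sj := QuotientGroup.mk'_surjective N
  refine ⟨A ⧸ N, inferInstance, inferInstance, V, _, _, inferInstance, QuotientGroup.lift N (π.comp A.subtype) le_rfl,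
    QuotientGroup.mk' N, (QuotientGroup.mk' N).comp κ₀, fun x => if h : x ∈ R then ν ⟨x, h⟩ else 0,
    (injective_iff_map_eq_one _).2 fun a ha => ?_, sj, hN, fun g a => ?_, fun g => (hN _).trans
      (cjAut_mem_inn_iff le_top (centralizerIn_le_of_isCentric hc) (mem_top g) (hn g)), ?_, fun M hM hM' => ?_,
    fun x hx y hy => ?_, fun v => ?_, fun x => ?_, fun g x hx => ?_⟩
  · obtain ⟨a, rfl⟩ := QuotientGroup.mk_surjective a
    exact (QuotientGroup.eq_one_iff a).2 ha
  · rw [MonoidHom.comp_apply, eq_comm, ← inv_mul_eq_one, ← map_inv, ← map_mul, hN, mem_inn_iff]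
    refine exists_congr fun r => and_congr_right fun _ => forall₂_congr fun x hx => ?_
    change autFun ((cjAut R g (hn g))⁻¹ * (a : MulAut R)) x = _ ↔ _
    rw [← cjAut_inv, autFun_mul _ _ hx, autFun_cjAut _ (autFun_mem _ hx), cj_mul]
    exact ⟨fun e => by rw [← e, cj_cj_inv], fun e => by rw [e, cj_inv_cj]⟩
  · have h1 := (hT.subgroupOf le_rfl).map (QuotientGroup.mk' N)
    rw [subgroupOf_self, map_top_of_surjective _ sj] at h1
    convert h1 using 1
    rw [MonoidHom.range_comp]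
    congr 1
    ext a
    rw [mem_subgroupOf, mem_autInducedBy_iff_cjAut]
    constructor
    · rintro ⟨g, rfl⟩
      exact ⟨g, mem_top g, hn g, rfl⟩
    · rintro ⟨g, -, hg', e⟩
      exact ⟨g, Subtype.ext e⟩
  · refine (eq_bot_iff_forall _).2 fun x hx => ?_
    obtain ⟨a, rfl⟩ := sj x
    exact (hN a).2 (core (M.comap (QuotientGroup.mk' N)) inferInstance
      (hM'.comap_of_ker_isPGroup _ (by rwa [QuotientGroup.ker_mk'])) a hx)
  · simp only [dif_pos (mul_mem hx hy), dif_pos hx, dif_pos hy, ← hν]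
    rfl
  · obtain ⟨x, rfl⟩ := hsur v
    exact ⟨x, x.2, dif_pos x.2⟩
  · simp only [dif_pos x.2]
    exact h0 x
  · simp only [dif_pos hx, dif_pos (Normal.conj_mem inferInstance x hx g)]
    exact hact (cjAut R g (hn g)) _

end CL.MCD
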