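import Cfsg.Agent.FUS.MD.Defs

/-! # Minimal parabolics: basic properties -/

set_option autoImplicit false

namespace CL.MCD

open Subgroup Cfsg CL.Fus
open scoped commutatorElement

variable {H : Type*} [Group H] [Finite H] {p : ℕ} [hp : Fact p.Prime] {T : Subgroup H}

namespace Mp
variable (h : Mp p T)
include h

theorem core_le : pCore p H ≤ T := by
  exact h.syl.le_of_le_normalizer le_top Fus.isPGroup_pCore (le_top.trans (normalizer_eq_top _).ge)

theorem core_ne : pCore p H ≠ T := by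
  exact fun e => h.nn (e ▸ inferInstance)

/-- `N ⊔ T` normalizes `T`, so `N ⊓ T` is a normal Sylow subgroup of `N` (`SylIn.inf_normal`), hence normal in `H`. -/
theorem inf_le {N : Subgroup H} [N.Normal] (hN : N ⊔ T ≠ ⊤) : N ⊓ T ≤ pCore p H := by
  have h1 : N ≤ normalizer (T : Set H) := le_sup_left.trans (h.min _ le_sup_right hN)
  have hp' : IsPGroup p ↥(N ⊓ T) := h.syl.isPGroup.to_le inf_le_right
  have : (N ⊓ T).Normal := ⟨fun x hx g => by
    have h2 : (N ⊓ T).map (MulAut.conj g).toMonoidHom ≤ N := by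
      rintro _ ⟨y, hy, rfl⟩
      exact Normal.conj_mem inferInstance y hy.1 g
    exact ⟨h2 ⟨x, hx, rfl⟩, h.syl.le_of_le_normalizer' le_top (hp'.map _) (h2.trans h1) ⟨x, hx, rfl⟩⟩⟩
  exact le_pCore hp'

/-- `N = π⁻¹(O)` is normal; if `N ⊔ T = ⊤` the range of `π` lies in the `p`-group `O ⊔ π T`. -/
theorem mem_core {Γ : Type*} [Group Γ] (π : H →* Γ) (hπ : ¬ IsPGroup p π.range) {O : Subgroup Γ} (hO : IsPGroup p O)
    (hn : π.range ≤ normalizer (O : Set Γ)) {t : H} (ht : t ∈ T) (hO' : π t ∈ O) : t ∈ pCore p H := by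
  have : (O.comap π).Normal := ⟨fun x hx g => by
    rw [mem_comap, map_mul, map_mul, map_inv]
    exact (mem_normalizer_iff.1 (hn ⟨g, rfl⟩) _).1 hx⟩
  refine h.inf_le (N := O.comap π) (fun e => hπ ?_) ⟨hO', ht⟩
  refine (IsPGroup.to_sup_of_normal_left' hO (h.syl.isPGroup.map π) ((map_le_range _ _).trans hn)).to_le ?_
  rw [π.range_eq_map, ← e, Subgroup.map_sup]
  exact sup_le_sup_right (map_comap_le _ _) _

/-- Otherwise `π T ≤ O = pCoreOf p π.range` and `T ≤ O_p(H)` by `mem_core`. -/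
theorem not_pc {Γ : Type*} [Group Γ] (π : H →* Γ) (hπ : ¬ IsPGroup p π.range) : ¬ IsPClosed p π.range := by
  intro hc
  have h1 := MSS.isPClosed_iff.1 hc _ (map_le_range π T) (h.syl.isPGroup.map π)
  exact h.core_ne (le_antisymm h.core_le fun t ht =>
    h.mem_core π hπ (MSS.oP_isPGroup _) (MSS.oP_normal _) ht (h1 ⟨t, ht, rfl⟩))

/-- If `ker π ≤ O_p(H)` and the range were a `p`-group, `H` would be a `p`-group and `T = ⊤`. -/
theorem not_isPGroup {Γ : Type*} [Group Γ] (π : H →* Γ) (hπ : π.ker ≤ pCore p H) : ¬ IsPGroup p π.range := by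
  intro hc
  have h1 := hc.comap_of_ker_isPGroup π (Fus.isPGroup_pCore.to_le hπ)
  rw [MonoidHom.comap_range_self] at h1
  exact h.nn (h.syl.eq_of_le le_rfl h1 le_top ▸ inferInstance)

/-- `O_p(H / K) = O_p(H) / K`. A `p'`-element of the preimage `D` of `C(O_p(H) / K)` centralizes `O_p(H) / K` and `K`, so
`O_p(H)` (`CL.MSS.mem_centralizer_of_chain`), so it is trivial: `D` is a normal `p`-subgroup
(`CL.Fus.isPGroup_of_forall_coprime`). -/
theorem quot {K : Subgroup H} [K.Normal] (hK : K ≤ pCore p H)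
    (hc : ∀ x : H, (orderOf x).Coprime p → x ∈ centralizer (K : Set H)) :
    Mp p (T.map (QuotientGroup.mk' K)) ∧ pCore p (H ⧸ K) = (pCore p H).map (QuotientGroup.mk' K) := by
  have sj := QuotientGroup.mk'_surjective K
  have pK : IsPGroup p (QuotientGroup.mk' K).ker := by rw [QuotientGroup.ker_mk']; exact Fus.isPGroup_pCore.to_le hK
  have cm : ∀ X : Subgroup H, K ≤ X → (X.map (QuotientGroup.mk' K)).comap (QuotientGroup.mk' K) = X := fun X hX =>
    comap_map_eq_self (by rwa [QuotientGroup.ker_mk'])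
  have e : pCore p (H ⧸ K) = (pCore p H).map (QuotientGroup.mk' K) := by
    have := Normal.map (inferInstance : (pCore p H).Normal) _ sj
    refine le_antisymm ?_ (le_pCore (Fus.isPGroup_pCore.map _))
    rw [← map_comap_eq_self_of_surjective sj (pCore p (H ⧸ K))]
    exact map_mono (le_pCore (Fus.isPGroup_pCore.comap_of_ker_isPGroup _ pK))
  refine ⟨⟨?_, ?_, fun hn => h.nn ?_, fun X hX hX' => ?_⟩, e⟩
  · have := h.syl.map (QuotientGroup.mk' K)
    rwa [map_top_of_surjective _ sj] at this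
  · rw [← map_comap_eq_self_of_surjective sj (centralizer _)]
    refine (map_mono (le_pCore (MSS.isPGroup_of_forall_coprime fun x hx hx' => ?_))).trans e.ge
    refine MSS.eq_one_of_coprime_of_mem Fus.isPGroup_pCore hx' (h.cent ?_)
    refine MSS.mem_centralizer_of_chain hx' 2 (fun i => match i with | 0 => pCore p H | 1 => K | _ => ⊥)
      (fun i hi => ?_) (fun i hi r hr => ?_) rfl
    · match i with
      | 0 => exact Fus.isPGroup_pCore.to_le hK
      | _ + 1 => exact IsPGroup.of_bot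
    · match i with
      | 0 =>
        refine (QuotientGroup.eq_one_iff _).1 ?_
        have := hx _ (e.ge ⟨r, hr, rfl⟩)
        rw [← QuotientGroup.mk'_apply, map_commutatorElement]
        exact commutatorElement_eq_one_iff_mul_comm.2 this
      | 1 => exact mem_bot.2 (commutatorElement_eq_one_iff_mul_comm.2 (hc x hx' r hr))
  · rw [← cm T (hK.trans h.core_le)]
    infer_instance
  · rw [← map_comap_eq_self_of_surjective sj X]
    refine (map_mono (h.min _ (map_le_iff_le_comap.1 hX) fun l => hX' ?_)).trans (le_normalizer_map _)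
    rw [← map_comap_eq_self_of_surjective sj X, l, map_top_of_surjective _ sj]

end Mp

omit hp in
/-- Pull `A`, `U` back to `H`. -/
theorem Rk.quot (h : Rk p T) {K : Subgroup H} [K.Normal] (hK : K ≤ T) : Rk p (T.map (QuotientGroup.mk' K)) := by
  intro A U hA hU hp'
  have c : ∀ X : Subgroup (H ⧸ K), Nat.card (X.comap (QuotientGroup.mk' K)) = Nat.card K * Nat.card X := fun X =>
    QuotientGroup.card_preimage_mk K X
  have := h (A.comap (QuotientGroup.mk' K)) (U.comap (QuotientGroup.mk' K))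
    ((comap_mono hA).trans (comap_map_eq_self (by rwa [QuotientGroup.ker_mk'])).le) (comap_mono hU)
    fun x hx => by rw [mem_comap, map_pow]; exact hp' _ hx
  rw [c, c, mul_assoc] at this
  exact Nat.le_of_mul_le_mul_left this Nat.card_pos

omit [Finite H] hp in
theorem Rk.img {G : Type*} [Group G] {T₀ : Subgroup G} (h : Rk p T₀) {ι : G → H} (hom : IsHomOn T₀ ι)
    (inj : Set.InjOn ι T₀) : Rk p (img ι T₀) := by
  intro A U hA hU hp'
  obtain ⟨e, hi⟩ := hom.exists_isoOn inj
  have hs := hi.symm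
  rw [← hs.card_img hA, ← hs.card_img (hU.trans hA)]
  refine h _ _ (hs.img_le hA) (img_mono _ hU) fun x hx => ?_
  obtain ⟨a, ha, rfl⟩ := (hs.mem_img hA).1 hx
  rw [← hs.hom.map_pow (hA ha)]
  exact mem_img_of_mem _ (hp' a ha)

/-- A minimal overgroup. Take `X ≥ T` minimal with `¬ X ≤ N(T)`; `O_p(M) ≤ T` is a normal `p`-subgroup of `X`, so
`C_X(O_p(X)) ≤ C_M(O_p(M)) ≤ O_p(M) ≤ O_p(X)`. -/
theorem exists_mp (hT : SylIn p T ⊤) (hc : centralizer (pCore p H : Set H) ≤ pCore p H) (hn : ¬ T.Normal) :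
    ∃ X : Subgroup H, T ≤ X ∧ Mp p (T.subgroupOf X) ∧ (pCore p H).subgroupOf X ≤ pCore p X := by
  obtain ⟨X, ⟨h1, h2⟩, h3⟩ := (wellFounded_lt (α := Subgroup H)).has_min
    {X | T ≤ X ∧ ¬ X ≤ normalizer (T : Set H)} ⟨⊤, le_top, fun l => hn (normalizer_eq_top_iff.1 (top_le_iff.1 l))⟩
  have h4 : (pCore p H).subgroupOf X ≤ pCore p X := le_pCore (Fus.isPGroup_pCore.comap_subtype)
  have h5 : pCore p H ≤ X :=
    (hT.le_of_le_normalizer le_top Fus.isPGroup_pCore (le_top.trans (normalizer_eq_top _).ge)).trans h1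
  refine ⟨X, h1, ⟨?_, fun x hx => h4 (hc fun y hy => ?_), fun l => h2 ((normal_subgroupOf_iff_le_normalizer h1).1 l),
    fun Y hY hY' => ?_⟩, h4⟩
  · have := (hT.of_le h1 le_top).subgroupOf le_rfl
    rwa [subgroupOf_self] at this
  · exact congrArg Subtype.val (hx ⟨y, h5 hy⟩ (h4 hy))
  · rw [← subgroupOf_normalizer_eq h1]
    by_contra l
    refine h3 (Y.map X.subtype) ⟨fun t ht => ⟨⟨t, h1 ht⟩, hY ht, rfl⟩, fun l' => l fun y hy => l' ⟨y, hy, rfl⟩⟩
      (lt_of_le_of_ne (map_subtype_le _) fun l' => hY' (eq_top_iff.2 fun y _ => ?_))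
    obtain ⟨z, hz, e⟩ := l'.ge y.2
    exact Subtype.ext e ▸ hz

end CL.MCD
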