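import Cfsg.Agent.FUS.MD.PU0
import Cfsg.Agent.S2980
import Cfsg.Agent.TECH.SL2Nat
import Cfsg.Agent.FGS.Homog8

/-! # The local `C(G,T)`-theorem for a minimal parabolic -/

set_option autoImplicit false

namespace CL.MCD

open Subgroup Cfsg CL.Fus CL.Push
open scoped commutatorElement MatrixGroups

variable {H : Type*} [Group H] [Finite H] {p : ℕ} [hp : Fact p.Prime] {T : Subgroup H}

/-- A block: `L = O^p(L)`, `V = O_p(L)` is elementary abelian and `V / C_V(L)` is a natural module for `L / V ≅ SL₂(F)`. -/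
structure Blk (p : ℕ) (L : Subgroup H) {F : Type} [Field F] (ρ : L →* SL(2, F)) (ψ : H → Fin 2 → F) : Prop where
  res : pResidualOf p L = L
  surj : Function.Surjective ρ
  ker : ρ.ker = pCore p L
  nat : NatD L (pCoreOf p L) (pCoreOf p L ⊓ centralizer (L : Set H)) ρ ψ
  comm : pCoreOf p L ≤ centralizer (pCoreOf p L : Set H)
  pow : ∀ x ∈ pCoreOf p L, x ^ p = 1

/-- Unfold `IsBaumannBlock` for `p ≥ 5`: linear case with `Q = W = Ω₁(Z(Q))`; `|F| = p ^ n ≥ 5`, so `SL₂(F)` is perfect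
(`SL_perfect` in `FGS/Homog8`); `CL.Push.actsAs_iff`; `O_p(L) ≤ ker ρ` as `V` is abelian (`NatD.eq_one_iff`), and equality by
`|L / O_p(L)| = |SL₂(F)|`. -/
theorem blk_of_block (h5 : 5 ≤ p) {L : Subgroup H} (hL : IsBaumannBlock p T L) :
    ∃ (F : Type) (_ : Field F) (_ : Finite F) (_ : CharP F p) (ρ : L →* SL(2, F)) (ψ : H → Fin 2 → F), Blk p L ρ ψ := by
  obtain ⟨res, -, -, -, ⟨F, _, _, n, hc, ⟨e⟩, act, hQ | ⟨h3, -⟩⟩ | ⟨h2, -⟩⟩ := hL
  · have := charP_of_card_eq_prime_pow hc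
    have h3 : 3 < Fintype.card F := by
      have : 1 < Fintype.card F := Fintype.one_lt_card
      rw [hc] at *
      exact lt_of_lt_of_le (by omega) (Nat.le_self_pow (by rintro rfl; simp at this) p)
    rw [Homog.SL_perfect h3] at act e
    rw [← hQ] at act
    obtain ⟨ρ, ψ, hρ, nat⟩ := actsAs_iff.1 act
    have cm := hQ.le.trans (BHS.oz_cent _)
    refine ⟨F, _, inferInstance, this, ρ, ψ, res, MonoidHom.range_eq_top.1 hρ, (Subgroup.eq_of_le_of_card_ge
      (fun x hx => (nat.eq_one_iff x).2 fun y hy => ?_) ?_).symm, nat, cm, fun x hx => (BHS.mem_oz.1 (hQ.le hx)).2.2⟩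
    · rw [commutatorElement_eq_one_iff_mul_comm.2 (cm (MSS.mem_oP_iff.2 hx) y hy)]
      exact one_mem _
    · have a := ρ.ker.card_mul_index
      rw [← (pCore p L).card_mul_index, index_ker, hρ, index_eq_card, Nat.card_congr e.toEquiv] at a
      exact (Nat.eq_of_mul_eq_mul_right Nat.card_pos a).le
  · omega
  · omega

/-- For pairwise commuting blocks `L₁, …, L_r` the product `A` of the `V_i = O_p(L_i)` is elementary abelian and
`|A| ≥ p ^ (2 r)`: `|A V| = |A| |V| / |A ⊓ V|` and `A ⊓ V ≤ V ⊓ C(L)` has index at least `|F|² ≥ p²` in `V` (`NatD.card`). -/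
theorem card_blocks (h5 : 5 ≤ p) (s : Finset (Subgroup H)) (hs : ∀ L ∈ s, IsBaumannBlock p T L)
    (hc : ∀ L ∈ s, ∀ L' ∈ s, L ≠ L' → ⁅L, L'⁆ = ⊥) :
    p ^ (2 * s.card) ≤ Nat.card ↥(⨆ L ∈ s, pCoreOf p L) ∧ ∀ x ∈ ⨆ L ∈ s, pCoreOf p L, x ^ p = 1 := by
  classical
  induction s using Finset.induction_on with
  | empty => simp
  | insert L s hL ih =>
    obtain ⟨i1, i2⟩ := ih (fun L' h => hs L' (Finset.mem_insert_of_mem h))
      fun L' h L'' h' => hc L' (Finset.mem_insert_of_mem h) L'' (Finset.mem_insert_of_mem h')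
    obtain ⟨F, _, _, _, ρ, ψ, b⟩ := blk_of_block h5 (hs L (Finset.mem_insert_self _ _))
    rw [Finset.iSup_insert, Finset.card_insert_of_notMem hL, sup_comm]
    have hA : ⨆ L ∈ s, pCoreOf p L ≤ centralizer (L : Set H) := iSup₂_le fun L' h => (MSS.oP_le L').trans
      (commutator_eq_bot_iff_le_centralizer.1 (hc L' (Finset.mem_insert_of_mem h) L (Finset.mem_insert_self _ _)
        (by rintro rfl; exact hL h)))
    generalize ⨆ L ∈ s, pCoreOf p L = A at *
    constructor
    · have := Fintype.ofFinite F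
      obtain ⟨k, -, hk⟩ := FiniteField.card F p
      rw [← card_mul_relIndex_of_le (le_sup_left : A ≤ A ⊔ pCoreOf p L), mul_add, pow_add]
      refine Nat.mul_le_mul i1 (le_trans ?_ (relIndex_le_of_le_right le_sup_right index_ne_zero_of_finite))
      rw [← inf_relIndex_right]
      refine le_trans ?_ (relIndex_le_of_le_left (le_inf inf_le_right (inf_le_left.trans hA)) index_ne_zero_of_finite)
      rw [b.nat.card, Nat.card_eq_fintype_card, hk]
      exact Nat.pow_le_pow_left (Nat.le_self_pow k.ne_zero p) 2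
    · intro x hx
      obtain ⟨a, ha, v, hv, rfl⟩ := (MSS.mem_sup_of_normalizes_right (MSS.le_normalizer_oP
        (hA.trans (centralizer_le_normalizer _)))).1 hx
      rw [(show Commute v a from hA ha v (MSS.oP_le L hv)).symm.mul_pow, i2 a ha, b.pow v hv, one_mul]

/-- `C(H, T) ≤ N(T) ≠ ⊤` by `hch` and `Mp.min`; S2980 gives `𝓑 ≠ ∅` (`CL.BHS.cStar_le`). Let `L ∈ 𝓑`. `L ≰ N(T)`: otherwise
`L = ⁅L, B(T)⁆ ≤ T` is a `p`-group equal to `O^p(L)`, `L = 1`, but `⁅L, Ω₁Z(T)⁆ ≠ 1`. Every `L' ∈ 𝓑` is normal in the normal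
subgroup `⟨𝓑⟩`, so `O_p(L') ≤ O_p(H) ≤ T`. If `T` does not normalize `L`, its `T`-orbit has at least `p` elements (it is a
power of `p`), against `card_blocks` and `Rk` (`U = ⊥`). So `T ≤ N(L)`, `L ⊔ T = ⊤` by `Mp.min`, and `L` is normal. -/
theorem Mp.block (h : Mp p T) (h5 : 5 ≤ p) (rk : Rk p T)
    (hch : ∀ D : Subgroup H, D ≤ T → D ≠ ⊥ → (D.subgroupOf T).Characteristic → ¬ D.Normal) :
    ∃ (L : Subgroup H) (F : Type) (_ : Field F) (_ : Finite F) (_ : CharP F p) (ρ : L →* SL(2, F)) (ψ : H → Fin 2 → F),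
      L.Normal ∧ L ⊔ T = ⊤ ∧ Blk p L ρ ψ := by
  classical
  obtain ⟨S, rfl⟩ := sylIn_top_iff.1 h.syl
  have hne : charNormalizersJoin (S : Subgroup H) ≠ ⊤ := fun e => h.nn (normalizer_eq_top_iff.1 (top_le_iff.1 (e.ge.trans
    (iSup_le fun ⟨D, a, b, c⟩ => h.min _ ((normal_subgroupOf_iff_le_normalizer a).1 inferInstance)
      fun e => hch D a b c (normalizer_eq_top_iff.1 e)))))
  obtain ⟨B, ⟨b1, b2, b3, b4, -⟩, -⟩ := Cfsg.Agent.S2980.result h.cent S hne
  obtain rfl | ⟨L, hL⟩ := B.eq_empty_or_nonempty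
  · rw [sSup_empty, sup_bot_eq] at b4
    exact (hne (top_le_iff.1 (b4.ge.trans (BHS.cStar_le (fun e => h.nn (e ▸ inferInstance)) S.isPGroup')))).elim
  have nle : ¬ L ≤ normalizer ((S : Subgroup H) : Set H) := fun e => by
    obtain ⟨res, c1, -, c2, -⟩ := b1 L hL
    have : L ≤ S := c1.ge.trans (commutator_le.2 fun x hx y hy =>
      mul_mem (MSS.conj_mem_of_normalizes e hx (BHS.baum_le _ hy)) (inv_mem (BHS.baum_le _ hy)))
    rw [MSS.oU_eq_pResidualOf, MSS.oU_eq_bot_of_isPGroup (S.isPGroup'.to_le this)] at res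
    exact c2 (by rw [← res, commutator_bot_left])
  have core : ∀ L ∈ B, pCoreOf p L ≤ S := fun L hL => by
    have n : (sSup B).Normal := normalizer_eq_top_iff.1 (top_le_iff.1 (MSS.le_normalizer_of_cj_le fun g _ =>
      map_le_iff_le_comap.2 (sSup_le fun E hE => map_le_iff_le_comap.1 (le_sSup (b2 E hE g)))))
    refine (MSS.oP_le_of_subnormal (.step _ _ (le_sSup hL) n.isSubnormal
      ((normal_subgroupOf_iff_le_normalizer (le_sSup hL)).2 (sSup_le fun E hE => ?_)))).trans h.core_le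
    by_cases e : E = L
    · exact e ▸ le_normalizer
    · exact (commutator_eq_bot_iff_le_centralizer.1 (b3 E hE L hL e)).trans (centralizer_le_normalizer _)
  have TN : (S : Subgroup H) ≤ normalizer (L : Set H) := fun t ht => by
    by_contra hn
    have key : ∀ i j, i < j → j < p → L.map (MulAut.conj (t ^ i)).toMonoidHom ≠ L.map (MulAut.conj (t ^ j)).toMonoidHom := by
      intro i j hij hj e
      obtain ⟨k, rfl⟩ := Nat.exists_eq_add_of_lt hij
      rw [add_assoc, pow_add, MSS.cj_mul, MSS.cj_inj, eq_comm, ← MSS.mem_normalizer_iff_cj] at e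
      obtain ⟨m, hm⟩ := S.isPGroup' ⟨t, ht⟩
      refine hn (MSS.oU_mem_of_pow_mem (Nat.Coprime.coprime_dvd_left (orderOf_dvd_of_pow_eq_one (congrArg Subtype.val hm))
        (Nat.Coprime.pow_left m (hp.out.coprime_iff_not_dvd.2 fun d => ?_))) e)
      have := Nat.le_of_dvd k.succ_pos d
      omega
    have hs : ∀ E ∈ (Finset.range p).image fun i => L.map (MulAut.conj (t ^ i)).toMonoidHom, E ∈ B := fun E hE => by
      obtain ⟨i, -, rfl⟩ := Finset.mem_image.1 hE
      exact b2 L hL _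
    obtain ⟨c1, c2⟩ := card_blocks h5 _ (fun E hE => b1 E (hs E hE)) fun E hE E' hE' => b3 E (hs E hE) E' (hs E' hE')
    have c3 := c1.trans (rk _ ⊥ (iSup₂_le fun E hE => core E (hs E hE)) bot_le c2)
    rw [Finset.card_image_of_injOn fun i hi j hj e => by
      rcases lt_trichotomy i j with a | a | a
      · exact (key i j a (by simpa using hj) e).elim
      · exact a
      · exact (key j i a (by simpa using hi) e.symm).elim, Finset.card_range, card_bot, one_mul,
      Nat.pow_le_pow_iff_right hp.out.one_lt] at c3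
    omega
  have top : L ⊔ S = ⊤ := by_contra fun e => nle (le_sup_left.trans (h.min _ le_sup_right e))
  obtain ⟨F, _, _, _, ρ, ψ, b⟩ := blk_of_block h5 (b1 L hL)
  exact ⟨L, F, _, ‹_›, ‹_›, ρ, ψ, normalizer_eq_top_iff.1 (top_le_iff.1 (top.ge.trans (sup_le le_normalizer TN))), top, b⟩

end CL.MCD
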