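import Cfsg.Agent.FUS.MD.PU1
import Cfsg.Agent.FUS.MD.Co
import Cfsg.Agent.FGS.NatA7

/-! # `H / O_p(H) ≅ SL₂(F)` -/

set_option autoImplicit false

namespace CL.MCD

open Subgroup Cfsg CL.Fus CL.Push
open scoped commutatorElement MatrixGroups

variable {H : Type*} [Group H] [Finite H] {p : ℕ} [hp : Fact p.Prime] {T : Subgroup H}

/-- `θ : H → SL₂(F)` has kernel `O_p(H)`, maps `L` onto `SL₂(F)` and `T` onto the unitriangular group, and `V / C_V(L)` is the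
natural module, `V = O_p(L) = L ⊓ O_p(H)`. -/
structure Nt (p : ℕ) (T L : Subgroup H) {F : Type} [Field F] (θ : H →* SL(2, F)) (ψ : H → Fin 2 → F) : Prop where
  normal : L.Normal
  res : pResidualOf p L = L
  surj : ∀ g, ∃ l ∈ L, θ l = g
  ker : θ.ker = pCore p H
  mem : ∀ t, t ∈ T ↔ θ t • (![1, 0] : Fin 2 → F) = ![1, 0]
  add : ∀ x ∈ L ⊓ pCore p H, ∀ y ∈ L ⊓ pCore p H, ψ (x * y) = ψ x + ψ y
  zero : ∀ x ∈ L ⊓ pCore p H, ψ x = 0 ↔ x ∈ centralizer (L : Set H)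
  onto : ∀ v, ∃ x ∈ L ⊓ pCore p H, ψ x = v
  act : ∀ g, ∀ x ∈ L ⊓ pCore p H, ψ (g * x * g⁻¹) = θ g • ψ x

namespace PU2

variable {F : Type} [Field F]

theorem sl_smul (g : SL(2, F)) (v : Fin 2 → F) (i : Fin 2) : (g • v) i = g i 0 * v 0 + g i 1 * v 1 := by
  simp [Matrix.SpecialLinearGroup.smul_def, Matrix.mulVec, dotProduct]

theorem eq_of_smul {g g' : SL(2, F)} (h : ∀ v : Fin 2 → F, g • v = g' • v) : g = g' := by
  ext i j
  have a := congrFun (h ![1, 0]) i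
  have b := congrFun (h ![0, 1]) i
  simp only [sl_smul] at a b
  fin_cases j <;> simp_all

theorem fix_iff {g : SL(2, F)} : g • (![1, 0] : Fin 2 → F) = ![1, 0] ↔ g 0 0 = 1 ∧ g 1 0 = 0 ∧ g 1 1 = 1 := by
  have d := g.det_coe
  rw [Matrix.det_fin_two] at d
  simp only [funext_iff, Fin.forall_fin_two, sl_smul]
  simp only [Matrix.cons_val_zero, Matrix.cons_val_one, mul_one, mul_zero, add_zero]
  refine ⟨fun h => ⟨h.1, h.2, ?_⟩, fun h => ⟨h.1, h.2.1⟩⟩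
  rwa [h.1, h.2, one_mul, mul_zero, sub_zero] at d

theorem sl_mul (g h : SL(2, F)) (i j : Fin 2) : (g * h) i j = g i 0 * h 0 j + g i 1 * h 1 j := by
  simp [Matrix.mul_apply]

theorem sl_inv (g : SL(2, F)) : g⁻¹ 0 0 = g 1 1 ∧ g⁻¹ 0 1 = -g 0 1 ∧ g⁻¹ 1 0 = -g 1 0 ∧ g⁻¹ 1 1 = g 0 0 := by
  simp [Matrix.SpecialLinearGroup.SL2_inv_expl]

theorem exists_sl {a b c d : F} (h : a * d - b * c = 1) : ∃ g : SL(2, F), g 0 0 = a ∧ g 0 1 = b ∧ g 1 0 = c ∧ g 1 1 = d :=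
  ⟨⟨!![a, b; c, d], by rwa [Matrix.det_fin_two_of]⟩, rfl, rfl, rfl, rfl⟩

theorem eq_one {g : SL(2, F)} (a : g 0 0 = 1) (b : g 0 1 = 0) (c : g 1 0 = 0) (d : g 1 1 = 1) : g = 1 := by
  ext i j
  fin_cases i <;> fin_cases j <;> simp_all

omit hp in
theorem pow_p [CharP F p] {g : SL(2, F)} (h : g • (![1, 0] : Fin 2 → F) = ![1, 0]) : g ^ p = 1 := by
  have k : ∀ n : ℕ, g ^ n • (![1, 0] : Fin 2 → F) = ![1, 0] ∧ (g ^ n) 0 1 = n * g 0 1 := fun n => by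
    induction n with
    | zero => simp
    | succ n ih =>
      refine ⟨by rw [pow_succ, mul_smul, h, ih.1], ?_⟩
      rw [pow_succ, sl_mul, ih.2, (fix_iff.1 ih.1).1, (fix_iff.1 h).2.2]
      push_cast; ring
  obtain ⟨a, b, c⟩ := fix_iff.1 (k p).1
  exact eq_one a (by rw [(k p).2, CharP.cast_eq_zero, zero_mul]) b c

omit [Finite H] hp in
theorem exists_act {A : Type*} [AddCommGroup A] {V : Subgroup H} [hV : V.Normal] {φ : H → A}
    (add : ∀ x ∈ V, ∀ y ∈ V, φ (x * y) = φ x + φ y) (onto : ∀ v, ∃ x ∈ V, φ x = v)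
    (ker : ∀ g, ∀ x ∈ V, φ x = 0 → φ (g * x * g⁻¹) = 0) :
    ∃ _ : DistribMulAction H A, ∀ g : H, ∀ x ∈ V, g • φ x = φ (g * x * g⁻¹) := by
  choose s hs es using onto
  have key : ∀ g, ∀ x ∈ V, φ (g * s (φ x) * g⁻¹) = φ (g * x * g⁻¹) := fun g x hx => by
    have m := mul_mem (inv_mem hx) (hs (φ x))
    have := add _ (hV.conj_mem _ hx g) _ (hV.conj_mem _ m g)
    rw [ker g _ m (by rw [add _ (inv_mem hx) _ (hs _), add_inv add hx, es, neg_add_cancel]), add_zero] at this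
    rw [← this]; congr 1; group
  exact ⟨{
    smul := fun g v => φ (g * s v * g⁻¹)
    one_smul := fun v => show φ (1 * s v * 1⁻¹) = v by simpa using es v
    mul_smul := fun g h v => show φ (g * h * s v * (g * h)⁻¹) = φ (g * s (φ (h * s v * h⁻¹)) * g⁻¹) by
      rw [key g _ (hV.conj_mem _ (hs v) h)]; congr 1; group
    smul_zero := fun g => ker g _ (hs 0) (es 0)
    smul_add := fun g v w => show φ (g * s (v + w) * g⁻¹) = φ (g * s v * g⁻¹) + φ (g * s w * g⁻¹) by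
      rw [← add _ (hV.conj_mem _ (hs v) g) _ (hV.conj_mem _ (hs w) g), ← es v, ← es w, ← add _ (hs v) _ (hs w),
        key g _ (mul_mem (hs v) (hs w)), es, es]
      congr 1; group }, key⟩

variable [Finite F] [CharP F p] {L V : Subgroup H} {ψ : H → Fin 2 → F}

omit [Finite H] in
theorem exists_mat [hL : L.Normal] [hV : V.Normal] {ρ : L →* SL(2, F)} (hρ : Function.Surjective ρ)
    (h : NatD L V (V ⊓ centralizer (L : Set H)) ρ ψ) (hT : IsPGroup p T) (hc : Nat.card F ^ 2 ≤ p ^ p) {t : H} (ht : t ∈ T) :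
    ∃ g : SL(2, F), ∀ x ∈ V, ψ (t * x * t⁻¹) = g • ψ x := by
  have e0 : ∀ x, ((ψ x 0, ψ x 1) : F × F) = 0 ↔ ψ x = 0 := fun x => by simp [funext_iff, Fin.forall_fin_two]
  obtain ⟨_, act⟩ := exists_act (V := V) (φ := fun x => ((ψ x 0, ψ x 1) : F × F)) (fun x hx y hy => by simp [h.add x hx y hy])
    (fun v => let ⟨x, hx, e⟩ := h.surj ![v.1, v.2]; ⟨x, hx, by simp [e]⟩) fun g x hx e => by
      rw [e0, h.ker _ (hV.conj_mem _ hx g)]
      exact Normal.conj_mem inferInstance _ ((h.ker x hx).1 ((e0 x).1 e)) g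
  have aL : ∀ (l : L) (x y : F), (l : H) • ((x, y) : F × F) = (ρ l 0 0 * x + ρ l 0 1 * y, ρ l 1 0 * x + ρ l 1 1 * y) := by
    intro l x y
    obtain ⟨z, hz, e⟩ := h.surj ![x, y]
    have := act l z hz
    simpa [h.act l z hz, sl_smul, e] using this
  have nat : NatA7.IsNat F L := ⟨fun l hl => ⟨_, _, _, _, (Matrix.det_fin_two _).symm.trans (ρ ⟨l, hl⟩).det_coe, aL ⟨l, hl⟩⟩,
    fun a b c d e => by
      obtain ⟨l, hl⟩ := hρ ⟨!![a, b; c, d], by rwa [Matrix.det_fin_two_of]⟩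
      exact ⟨l, l.2, fun x y => by rw [aL, hl]; rfl⟩⟩
  let _ := ZMod.algebra F p
  obtain ⟨k, hk⟩ := hT ⟨t, ht⟩
  replace hk : t ^ p ^ k = 1 := congrArg Subtype.val hk
  have tn : t ∈ normalizer (L : Set H) := (normalizer_eq_top L).ge trivial
  have g1 : nat.gal p ⟨t, tn⟩ = 1 := by
    have c1 : Nat.card (F ≃ₐ[ZMod p] F) = Module.finrank (ZMod p) F := IsGalois.card_aut_eq_finrank _ _
    have c2 : Nat.card F = p ^ Module.finrank (ZMod p) F := by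
      rw [Module.natCard_eq_pow_finrank (K := ZMod p), Nat.card_zmod]
    rw [c2, ← pow_mul, Nat.pow_le_pow_iff_right hp.out.one_lt] at hc
    have c3 : 0 < Module.finrank (ZMod p) F := Module.finrank_pos
    have c4 : p.Coprime (Module.finrank (ZMod p) F) := hp.out.coprime_iff_not_dvd.2 fun e => by
      have := Nat.le_of_dvd c3 e; omega
    rw [← orderOf_eq_one_iff]
    refine Nat.eq_one_of_dvd_coprimes (c4.pow_left k) (orderOf_dvd_of_pow_eq_one ?_) (c1 ▸ orderOf_dvd_natCard _)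
    rw [← map_pow, show (⟨t, tn⟩ : normalizer (L : Set H)) ^ p ^ k = 1 from Subtype.ext hk, map_one]
  have lin : ∀ (c : F) (v : F × F), t • (c • v) = c • (t • v) := fun c v => by
    rw [nat.semi tn, ← nat.gal_apply p ⟨t, tn⟩, g1]; rfl
  obtain ⟨M, hM⟩ : ∃ M : Matrix (Fin 2) (Fin 2) F, ∀ x ∈ V, ψ (t * x * t⁻¹) = M.mulVec (ψ x) := by
    refine ⟨!![(t • ((1, 0) : F × F)).1, (t • ((0, 1) : F × F)).1; (t • ((1, 0) : F × F)).2, (t • ((0, 1) : F × F)).2],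
      fun x hx => ?_⟩
    have := act t x hx
    rw [show ((ψ x 0, ψ x 1) : F × F) = ψ x 0 • (1, 0) + ψ x 1 • (0, 1) by simp, smul_add, lin, lin, Prod.ext_iff] at this
    ext i
    fin_cases i
    · simpa [Matrix.mulVec, dotProduct, mul_comm] using this.1.symm
    · simpa [Matrix.mulVec, dotProduct, mul_comm] using this.2.symm
  refine ⟨⟨M, ?_⟩, hM⟩
  have hn : ∀ n : ℕ, ∀ x ∈ V, ψ (t ^ n * x * (t ^ n)⁻¹) = (M ^ n).mulVec (ψ x) := fun n x hx => by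
    induction n with
    | zero => simp
    | succ n ih => rw [pow_succ' M, ← Matrix.mulVec_mulVec, ← ih, ← hM _ (hV.conj_mem _ hx _)]; congr 1; group
  have e : M ^ p ^ k = 1 := Matrix.toLin'.injective (LinearMap.ext fun v => by
    obtain ⟨x, hx, rfl⟩ := h.surj v
    rw [Matrix.toLin'_apply, Matrix.toLin'_apply, ← hn _ x hx, hk, Matrix.one_mulVec, one_mul, inv_one, mul_one])
  have d : (M.det - 1) ^ p ^ k = 0 := by rw [sub_pow_char_pow, ← Matrix.det_pow, e, Matrix.det_one, one_pow, sub_self]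
  exact sub_eq_zero.1 (pow_eq_zero_iff (pow_pos hp.out.pos k).ne' |>.1 d)

omit [Finite F] in
theorem nt_of (h : Mp p T) [hL : L.Normal] (top : L ⊔ T = ⊤) {θ : H →* SL(2, F)}
    (surj : ∀ g, ∃ l ∈ L, θ l = g) (ker : ∀ l ∈ L, θ l = 1 → l ∈ pCore p H)
    (fix : ∀ t ∈ T, θ t • (![1, 0] : Fin 2 → F) = ![1, 0]) :
    θ.ker = pCore p H ∧ ∀ t, t ∈ T ↔ θ t • (![1, 0] : Fin 2 → F) = ![1, 0] := by
  set X := (MulAction.stabilizer SL(2, F) (![1, 0] : Fin 2 → F)).comap θ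
  have TX : T ≤ X := fix
  have Xn : X ≠ ⊤ := fun e => by
    obtain ⟨l, -, hl⟩ := surj ⟨!![1, 0; 1, 1], by simp [Matrix.det_fin_two_of]⟩
    have := (fix_iff.1 (e.ge (mem_top l))).2.1
    rw [hl] at this
    exact one_ne_zero this
  have kE : pCore p H ≤ θ.ker := fun e he => eq_of_smul fun v => by
    by_cases hv : v = 0
    · simp [hv]
    obtain ⟨g, rfl⟩ := exists_smul_e0 hv
    obtain ⟨l, -, rfl⟩ := surj g
    have := fix _ (h.core_le (Normal.conj_mem' inferInstance e he l))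
    rw [map_mul, map_mul, map_inv, mul_smul, mul_smul, inv_smul_eq_iff] at this
    rw [this, one_smul]
  have LX : L ⊓ X ≤ T := by
    refine h.syl.le_of_le_normalizer le_top (fun l => ?_) fun t ht => ?_
    · obtain ⟨k, hk⟩ := Fus.isPGroup_pCore ⟨_, ker _ (pow_mem l.2.1 p) (by rw [map_pow, pow_p l.2.2])⟩
      exact ⟨k + 1, Subtype.ext (by rw [pow_succ', pow_mul]; simpa using congrArg Subtype.val hk)⟩
    · exact inf_normalizer_le_normalizer_inf ⟨(normalizer_eq_top L).ge trivial, le_normalizer (TX ht)⟩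
  have kT := h.inf_le (N := θ.ker) fun e => Xn (top_le_iff.1 (e.ge.trans (sup_le (fun x hx => by
    simp [X, (MonoidHom.mem_ker.1 hx)]) TX)))
  have dec : ∀ g, ∃ l ∈ L, ∃ e ∈ pCore p H, l * e = g := fun g => by
    obtain ⟨l, hl, t, ht, rfl⟩ := mem_sup_of_normal_left.1 (top.ge (mem_top g))
    obtain ⟨l', hl', e⟩ := surj (θ t)
    exact ⟨l * l', mul_mem hl hl', l'⁻¹ * t, kT ⟨by simp [e],
      T.mul_mem (T.inv_mem (LX ⟨hl', show θ l' • _ = _ from e ▸ fix t ht⟩)) ht⟩, by group⟩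
  refine ⟨le_antisymm (fun g hg => ?_) kE, fun g => ⟨fix g, fun hg => ?_⟩⟩ <;> obtain ⟨l, hl, e, he, rfl⟩ := dec g
  · rw [MonoidHom.mem_ker, map_mul, kE he, mul_one] at hg
    exact mul_mem (ker l hl hg) he
  · rw [map_mul, kE he, mul_one] at hg
    exact mul_mem (LX ⟨hl, hg⟩) (h.core_le he)

end PU2

open PU2

/-- `V = O_p(L) = L ⊓ O_p(H)` and `V ⊓ C(L)` are normal, so `H` acts additively on `V / C_V(L) ≅ F × F`
(`DistribMulAction H (F × F)`), `CL.NatA7.IsNat F L`. `|F| = p ^ k`, `|F|² ≤ |V| ≤ p ^ p` (`Rk`), so `0 < k < p`, and the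
`p`-group `T` has trivial image under `IsNat.gal` (`|F ≃ₐ F| = k`): `T` acts linearly, with determinant `1` (a `p`-element of
`Fˣ`). As `H = L T`, `H` acts through `θ₀ : H →* SL₂(F)` extending `ρ`. `T` fixes `v ≠ 0` (`CL.NatA7.exists_fix`),
`v = g • ![1, 0]` (`exists_smul_e0`); replace `θ₀`, `ψ` by `g⁻¹ θ₀ g`, `g⁻¹ • ψ`. `X = θ⁻¹(Stab ![1, 0]) ≠ ⊤` contains `T`
and `ker θ`. `O_p(H) ≤ ker θ`: its fixed vectors form a non-zero `L`-invariant set (`exists_smul_eq`). `ker θ ≤ O_p(H)`: for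
`t ∈ T` take `l ∈ L` with `θ l = θ t`; `L ⊓ X` is a `p`-group (`ker ρ` and the stabilizer are) normalized by `T`, so
`l ∈ T` and `l⁻¹ t ∈ ker θ ⊓ T ≤ O_p(H)` (`Mp.inf_le`); so `H = L O_p(H)` and `ker θ = O_p(L) O_p(H)`. Finally `X` is a
`p`-group containing `T`. -/
theorem Mp.exists_nt (h : Mp p T) (rk : Rk p T) {L : Subgroup H} {F : Type} [Field F] [Finite F] [CharP F p]
    {ρ : L →* SL(2, F)} {ψ : H → Fin 2 → F} (hL : L.Normal) (top : L ⊔ T = ⊤) (hb : Blk p L ρ ψ) :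
    ∃ (θ : H →* SL(2, F)) (ψ' : H → Fin 2 → F), Nt p T L θ ψ' := by
  have eV : pCoreOf p L = L ⊓ pCore p H := by rw [MSS.oP_eq_inf_of_subnormal hL.isSubnormal, inf_comm]
  have nat := hb.nat
  have hc : Nat.card F ^ 2 ≤ p ^ p := by
    have a := rk _ ⊥ (eV.le.trans (inf_le_right.trans h.core_le)) bot_le fun x hx => hb.pow x hx
    rw [card_bot, one_mul] at a
    exact nat.card ▸ (Nat.le_of_dvd Nat.card_pos (relIndex_dvd_card _ _)).trans a
  rw [eV] at nat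
  let Y : Subgroup H := {
    carrier := {t | ∃ g : SL(2, F), ∀ x ∈ L ⊓ pCore p H, ψ (t * x * t⁻¹) = g • ψ x}
    one_mem' := ⟨1, fun x _ => by simp⟩
    mul_mem' := fun {a b} ⟨g, hg⟩ ⟨g', hg'⟩ => ⟨g * g', fun x hx => by
      rw [mul_smul, ← hg' x hx, ← hg _ (Normal.conj_mem inferInstance x hx b)]; congr 1; group⟩
    inv_mem' := fun {a} ⟨g, hg⟩ => ⟨g⁻¹, fun x hx => by
      rw [eq_inv_smul_iff, ← hg _ (Normal.conj_mem inferInstance x hx a⁻¹)]; congr 1; group⟩ }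
  have hY : ⊤ ≤ Y := top.ge.trans (sup_le (fun l hl => ⟨_, nat.act ⟨l, hl⟩⟩)
    fun t ht => exists_mat hb.surj nat h.syl.isPGroup hc ht)
  choose f hf using fun g => hY (mem_top g)
  have uq : ∀ a g, (∀ x ∈ L ⊓ pCore p H, ψ (a * x * a⁻¹) = g • ψ x) → f a = g := fun a g hg => eq_of_smul fun v => by
    obtain ⟨x, hx, rfl⟩ := nat.surj v
    rw [← hf a x hx, hg x hx]
  let θ : H →* SL(2, F) := MonoidHom.mk' f fun a b => uq _ _ fun x hx => by
    rw [mul_smul, ← hf b x hx, ← hf a _ (Normal.conj_mem inferInstance x hx b)]; congr 1; group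
  have eθ : ∀ l : L, θ l = ρ l := fun l => uq _ _ (nat.act l)
  obtain ⟨v, hv, v0⟩ := (h.syl.isPGroup.map θ).exists_fixed_point_of_prime_dvd_card_of_fixed_point (Fin 2 → F)
    (by
      have := Fintype.ofFinite F
      obtain ⟨k, -, e⟩ := FiniteField.card F p
      rw [Nat.card_fun, Nat.card_eq_fintype_card, e, ← pow_mul]
      exact dvd_pow_self p (by simp)) (a := 0) fun _ => smul_zero _
  obtain ⟨g, rfl⟩ := exists_smul_e0 v0.symm
  let θ' := (MulAut.conj g⁻¹).toMonoidHom.comp θ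
  have e' : ∀ a, θ' a = g⁻¹ * θ a * g := fun a => by simp [θ']
  have surj : ∀ a, ∃ l ∈ L, θ' l = a := fun a => by
    obtain ⟨l, hl⟩ := hb.surj (g * a * g⁻¹)
    exact ⟨l, l.2, by rw [e', eθ, hl]; group⟩
  obtain ⟨a, b⟩ := nt_of h top surj (fun l hl e => by
      rw [e', eθ ⟨l, hl⟩, mul_assoc, inv_mul_eq_one, eq_comm, mul_eq_right] at e
      exact (eV.le (MSS.mem_oP_iff.2 (hb.ker.le e))).2)
    fun t ht => by rw [e', mul_smul, mul_smul, inv_smul_eq_iff]; exact hv ⟨_, t, ht, rfl⟩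
  refine ⟨θ', fun x => g⁻¹ • ψ x, hL, hb.res, surj, a, b, fun x hx y hy => by rw [nat.add x hx y hy, smul_add],
    fun x hx => by rw [smul_eq_zero_iff_eq, nat.ker x hx]; exact and_iff_right hx, fun v => ?_, fun a x hx => ?_⟩
  · obtain ⟨x, hx, e⟩ := nat.surj (g • v)
    exact ⟨x, hx, by rw [e, inv_smul_smul]⟩
  · rw [e', mul_smul, mul_smul, smul_inv_smul, hf a x hx]; rfl

/-- Let `E = O_p(H)`, `V = L ⊓ E`, `μ` a generator of `Fˣ`, `l ∈ L` with `θ l = diag(μ, μ⁻¹)`, `τ` a power of `l` of order prime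
to `p` with `θ τ = θ l` (`CL.Fus.exists_pow_coprime`), `ζ ∈ L` with `θ ζ = -1`; `κ t = θ t 0 1`. For `e ∈ E` put
`Ψ e = ψ ⁅ζ, e⁆` (`⁅ζ, e⁆ ∈ V`): additive as `θ E = 1`; `Ψ v = -2 ψ v` on `V`, so onto. For `v ∈ V`, `e ∈ E`,
`ψ ⁅v, e⁆ = 0`. For `g ∈ H`, `g⁻¹ ζ g = ζ v` with `v ∈ L ⊓ ker θ = V`, `⁅ζ v, e⁆ = ζ ⁅v, e⁆ ζ⁻¹ ⁅ζ, e⁆`, so
`Ψ (g e g⁻¹) = θ g • Ψ e`. If `Ψ e = 0`, then for `x ∈ L` `⁅x, e⁆ ∈ V` has `Ψ = 0`, so `ψ = 0`, so it centralizes `L`: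
`x ↦ ⁅x, e⁆` is a homomorphism from `L = O^p(L)` to a `p`-group, so `τ` (of order prime to `p`) centralizes `e`.
`ψ₁ = Ψ · 0`, `ψ₂ = Ψ · 1`. -/
theorem Nt.exists_co {L : Subgroup H} {F : Type} [Field F] [Finite F] [CharP F p] {θ : H →* SL(2, F)}
    {ψ : H → Fin 2 → F} (h : Nt p T L θ ψ) (h2 : p ≠ 2) : ∃ (τ : H) (μ : F) (κ ψ₁ ψ₂ : H → F),
      (orderOf τ).Coprime p ∧ Co T (pCore p H) (cj τ) μ κ ψ₁ ψ₂ := by
  have hL := h.normal
  obtain ⟨μ, hμ⟩ := IsCyclic.exists_monoid_generator (α := Fˣ)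
  obtain ⟨D, d0, d1, d2, d3⟩ := exists_sl (a := (μ : F)) (b := 0) (c := 0) (d := μ⁻¹) (by simp)
  obtain ⟨l, hl, rfl⟩ := h.surj D
  have := Fintype.ofFinite F
  obtain ⟨τ, hτl, eτ, hτ⟩ := exists_pow_coprime θ l hp.out (by
    have e : ∀ n : ℕ, (θ l ^ n) 0 0 = μ ^ n ∧ (θ l ^ n) 0 1 = 0 ∧ (θ l ^ n) 1 0 = 0 ∧ (θ l ^ n) 1 1 = (μ : F)⁻¹ ^ n := fun n => by
      induction n with
      | zero => simp
      | succ n ih => simp only [pow_succ, sl_mul, ih, d0, d1, d2, d3]; simp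
    obtain ⟨k, -, hk⟩ := FiniteField.card F p
    have e1 := FiniteField.pow_card_sub_one_eq_one _ μ.ne_zero
    obtain ⟨a, b, c, d⟩ := e (Fintype.card F - 1)
    refine Nat.Coprime.coprime_dvd_left (orderOf_dvd_of_pow_eq_one (eq_one (a.trans e1) b c (by rw [d, inv_pow, e1, inv_one]))) ?_
    rw [hk]
    exact ((Nat.coprime_self_sub_left (Nat.one_le_pow _ _ hp.out.pos)).2 (Nat.coprime_one_left _)).coprime_dvd_right
      (dvd_pow_self p k.ne_zero))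
  rw [← eτ] at d0 d1 d2 d3
  obtain ⟨ζ, hζ, eζ⟩ := h.surj (-1)
  have kE : ∀ e, e ∈ pCore p H ↔ θ e = 1 := fun e => by rw [← h.ker]; rfl
  have cV : ∀ x ∈ L, ∀ e ∈ pCore p H, ⁅x, e⁆ ∈ L ⊓ pCore p H := fun x hx e he =>
    ⟨commutator_le_left L _ (commutator_mem_commutator hx he), commutator_le_right L _ (commutator_mem_commutator hx he)⟩
  have two : (2 : F) ≠ 0 := fun e => h2 ((Nat.prime_dvd_prime_iff_eq hp.out Nat.prime_two).1
    ((CharP.cast_eq_zero_iff F p 2).1 (by simpa using e)))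
  obtain ⟨Ψ, hΨ⟩ : ∃ Ψ : H → Fin 2 → F, ∀ e, Ψ e = ψ ⁅ζ, e⁆ := ⟨_, fun _ => rfl⟩
  have add : ∀ e ∈ pCore p H, ∀ f ∈ pCore p H, Ψ (e * f) = Ψ e + Ψ f := fun e he f hf => by
    have := h.act e _ (cV ζ hζ f hf)
    rw [(kE e).1 he, one_smul] at this
    rw [hΨ, hΨ, hΨ, ← this, ← h.add _ (cV ζ hζ e he) _ (Normal.conj_mem inferInstance _ (cV ζ hζ f hf) e)]
    congr 1; simp only [commutatorElement_def]; group
  have onV : ∀ v ∈ L ⊓ pCore p H, Ψ v = (-2 : F) • ψ v := fun v hv => by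
    rw [hΨ, commutatorElement_def, mul_assoc _ _ v⁻¹, ← mul_assoc, h.add _ (Normal.conj_mem inferInstance _ hv ζ) _ (inv_mem hv),
      h.act _ _ hv, add_inv h.add hv, eζ]
    ext i; fin_cases i <;> simp [sl_smul] <;> ring
  have act : ∀ g, ∀ e ∈ pCore p H, Ψ (g * e * g⁻¹) = θ g • Ψ e := fun g e he => by
    have hv : ζ⁻¹ * (g⁻¹ * ζ * g) ∈ L ⊓ pCore p H :=
      ⟨L.mul_mem (L.inv_mem hζ) (hL.conj_mem' _ hζ g), (kE _).2 (by simp [eζ])⟩
    have z : ψ ⁅ζ⁻¹ * (g⁻¹ * ζ * g), e⁆ = 0 := by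
      generalize ζ⁻¹ * (g⁻¹ * ζ * g) = v at hv
      rw [show ⁅v, e⁆ = v * (e * v⁻¹ * e⁻¹) by simp only [commutatorElement_def]; group,
        h.add _ hv _ (Normal.conj_mem inferInstance _ (inv_mem hv) e), h.act _ _ (inv_mem hv), (kE e).1 he, one_smul,
        add_inv h.add hv, add_neg_cancel]
    have m := Normal.conj_mem inferInstance _ (cV _ hv.1 e he) ζ
    rw [hΨ, hΨ, ← zero_add (ψ ⁅ζ, e⁆), ← smul_zero (θ ζ), ← z, ← h.act _ _ (cV _ hv.1 e he), ← h.add _ m _ (cV ζ hζ e he),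
      ← h.act g _ (mul_mem m (cV ζ hζ e he))]
    congr 1; simp only [commutatorElement_def]; group
  have mT : ∀ t, t ∈ T ↔ θ t 0 0 = 1 ∧ θ t 1 0 = 0 ∧ θ t 1 1 = 1 := fun t => (h.mem t).trans fix_iff
  have iτ := sl_inv (θ τ)
  refine ⟨τ, μ, fun t => θ t 0 1, fun e => Ψ e 0, fun e => Ψ e 1, hτ, fun e he => (h.mem e).2 (by rw [(kE e).1 he, one_smul]),
    isHomOn_cj T τ, fun t ht => ?_, fun t ht u hu => ?_, fun t ht => ?_, fun a => ?_, fun e he f hf => congrFun (add e he f hf) 0,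
    fun e he f hf => congrFun (add e he f hf) 1, fun a b => ?_, fun t ht e he => ?_, fun t ht e he => ?_, fun t ht => ?_,
    fun e he => ?_, fun e he => ?_, fun e he a b => ?_, fun x hx => ?_, μ.ne_zero⟩
  · rw [mT] at ht ⊢
    simp only [cj_apply, map_mul, map_inv, sl_mul, iτ, ht, d0, d1, d2, d3]
    simp
  · rw [mT] at ht hu
    simp only [map_mul, sl_mul, ht, hu, one_mul, mul_one, add_comm]
  · rw [mT] at ht
    exact ⟨fun e => (kE t).2 (eq_one ht.1 e ht.2.1 ht.2.2), fun e => by simp [(kE t).1 e]⟩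
  · obtain ⟨g, g0, g1, g2, g3⟩ := exists_sl (a := 1) (b := a) (c := 0) (d := 1) (by simp)
    obtain ⟨t, -, rfl⟩ := h.surj g
    exact ⟨t, (mT t).2 ⟨g0, g2, g3⟩, g1⟩
  · obtain ⟨v, hv, e⟩ := h.onto ((-2 : F)⁻¹ • ![a, b])
    exact ⟨v, hv.2, by simp [onV v hv, e, two], by simp [onV v hv, e, two]⟩
  · simp [act t e he, sl_smul, ((mT t).1 ht).1]
  · simp [act t e he, sl_smul, ((mT t).1 ht).2]
  · rw [mT] at ht
    simp only [cj_apply, map_mul, map_inv, sl_mul, iτ, ht, d0, d1]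
    ring
  · simp [cj_apply, act τ e he, sl_smul, d0, d1]
  · simp [cj_apply, act τ e he, sl_smul, d2, d3]
  · have z : Ψ e = 0 := funext (Fin.forall_fin_two.2 ⟨a, b⟩)
    have m := cV τ (zpowers_le.2 hl hτl) e he
    have c : Commute τ ⁅τ, e⁆ := by
      refine (h.zero _ m).1 ((smul_eq_zero_iff_right (neg_ne_zero.2 two)).1 ?_) τ (zpowers_le.2 hl hτl)
      rw [← onV _ m, commutatorElement_def, add _ (Normal.conj_mem inferInstance e he τ) _ (inv_mem he), act τ e he,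
        add_inv add he, z, smul_zero, neg_zero, add_zero]
    have k : ∀ n : ℕ, τ ^ n * e * (τ ^ n)⁻¹ = ⁅τ, e⁆ ^ n * e := fun n => by
      induction n with
      | zero => simp
      | succ n ih =>
        calc _ = τ * (τ ^ n * e * (τ ^ n)⁻¹) * τ⁻¹ := by group
          _ = ⁅τ, e⁆ ^ n * ⁅τ, e⁆ * e := by
            rw [ih, ← mul_assoc, (c.pow_right n).eq]; generalize ⁅τ, e⁆ ^ n = w; rw [commutatorElement_def]; group
          _ = _ := by rw [pow_succ]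
    obtain ⟨j, hj⟩ := Fus.isPGroup_pCore ⟨_, m.2⟩
    have k1 := k (orderOf τ)
    rw [pow_orderOf_eq_one, one_mul, inv_one, mul_one, right_eq_mul] at k1
    have k2 := orderOf_eq_one_iff.1 (Nat.eq_one_of_dvd_coprimes (hτ.pow_right j) (orderOf_dvd_of_pow_eq_one k1)
      (orderOf_dvd_of_pow_eq_one (congrArg Subtype.val hj)))
    rw [cj_apply, ← mul_inv_eq_one]
    exact k2
  · obtain ⟨k, hk⟩ := hμ (Units.mk0 x hx)
    exact ⟨k, by simpa using congrArg Units.val hk⟩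

end CL.MCD
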