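import Cfsg.Agent.FUS.MD.LemG
import Cfsg.Agent.FUS.MD.PU0
import Cfsg.Agent.FUS.ModelExists

/-! # The minimal parabolic over the normalizer of a bad subgroup -/

set_option autoImplicit false
set_option linter.unusedSectionVars false

namespace CL.MCD

open Subgroup Cfsg Cfsg.FusionSystem CL.MaxCl CL.Fus
open scoped commutatorElement

universe u
variable {G : Type u} [Group G] [Finite G] {p n : ℕ} [hp : Fact p.Prime] {F : FusionSystem (⊤ : Subgroup G)}

/-- Take a bad `Q` with `T = N(Q)` of largest order; it is fully normalized (`Bad.conj`). `normSys F Q` is saturated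
(`normSys_saturated`) and constrained (`normal_normSys`; `Q` is centric in it), let `M`, `ι₀` be a model (`exists_model`).
`ι₀ Q` is normal in `M` (`isNormal_iff_of_isModel`), so in `O_p(M)`. `ι₀ T` is not normal in `M`: otherwise every
`a ∈ Aut_F(Q) = Aut_{N_F(Q)}(Q)` (`autGroup_normSys_self`), being induced by some `g ∈ M`, normalizes the Sylow subgroup
`Aut_G(Q)` (`CL.MSS.isPClosed_of_sylIn`). Take `H = X` from `exists_mp`, `ι x = ⟨ι₀ x, _⟩` for `x ∈ T` (`1` otherwise),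
`E = {x ∈ T | ι x ∈ O_p(H)}` (`Mp.core_le`); `fus` by `isRealizedBy_iff` and `normSys_isSubsystemOf`. -/
theorem exists_st (h : IsMC p n G) (hn : 5 ≤ n) (h5 : 5 ≤ p) (hF : F.IsSaturated p) {Q₀ : Subgroup G}
    (hQ : Bad p n F Q₀) :
    ∃ (Q T E : Subgroup G) (H : Type u) (_ : Group H) (_ : Finite H) (ι : G → H), St p n F Q T E ι := by
  have h4 : 4 ≤ n := by omega
  obtain ⟨Q, hQ, hmax⟩ := Set.exists_max_image {Q | Bad p n F Q} (fun Q => Nat.card (normalizer (Q : Set G)))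
    (Set.toFinite _) ⟨Q₀, hQ⟩
  have hQ : Bad p n F Q := hQ
  have fn : F.IsFullyNormalized Q := ⟨le_top, fun Q' hc => by
    rw [normalizerIn_top, normalizerIn_top]
    exact hmax Q' (hQ.conj h h4 hc)⟩
  have QT : Q ≤ normalizerIn ⊤ Q := le_normalizerIn le_top
  obtain ⟨M, _, ι₀, hM⟩ := exists_model ((pTop h).to_le (normalizerIn_le ⊤ Q)) (F := normSys F Q fn.1)
    ⟨normSys_saturated (pTop h) hF fn, Q, normal_normSys fn.1, QT, fun Q' hc =>
      (inf_le_inf_right _ le_top).trans (hQ.cen.2 Q' (isConj_of_subsystem normSys_isSubsystemOf hc))⟩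
  have nQ := (isNormal_iff_of_isModel hM QT).1 (normal_normSys fn.1)
  obtain ⟨_, real, hS, cent⟩ := hM
  obtain ⟨inj, real⟩ := (isRealizedBy_iff fun x => (homFn_coe ι₀ x).symm).1 real
  have hom := isHomOn_homFn ι₀
  have syl := sylIn_of_fullyNormalized (pTop h) hF fn
  have nn : ¬ ι₀.range.Normal := fun nR => hQ.nc (CL.MSS.isPClosed_of_sylIn
    ⟨syl.1, syl.2.1, fun C h1 h2 h3 => syl.2.2 C h3 h1 h2⟩ fun a ha => mem_normalizer_fintype fun t ht => by
      obtain ⟨g, hg⟩ := (real Q (autFun a) QT fun x hx => QT (autFun_mem a hx)).1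
        (mor_autFun QT (by rwa [autGroup_normSys_self]))
      obtain ⟨u, -, hu, rfl⟩ := mem_autInducedBy_iff_cjAut.1 ht
      have uT : u ∈ normalizerIn ⊤ Q := ⟨trivial, hu⟩
      obtain ⟨v, hv⟩ := nR.conj_mem _ ⟨⟨u, uT⟩, rfl⟩ g
      refine mem_autInducedBy_iff.2 ⟨v, trivial, fun y hy => ?_⟩
      have k1 := autFun_mem a⁻¹ hy
      have k2 := cj_mem_of_mem_normalizer hu k1
      refine inj (QT (autFun_mem _ hy)) (cj_mem v.2 (QT hy)) ?_
      rw [autFun_mul _ _ hy, autFun_mul _ _ k1, autFun_cjAut hu k1, hg _ k2, hom.map_cj uT (QT k1), hom.map_cj v.2 (QT hy),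
        homFn_coe, hv, homFn_of_mem _ uT, ← autFun_autFun_inv a hy, hg _ k1, autFun_autFun_inv a hy]
      simp only [cj_apply]
      group)
  obtain ⟨X, hX, mp, hc⟩ := exists_mp (sylIn_top_iff.2 hS) cent nn
  let j : normalizerIn ⊤ Q →* X := ι₀.codRestrict X fun x => hX ⟨x, rfl⟩
  have hj : ∀ x ∈ normalizerIn ⊤ Q, ((homFn j x : X) : M) = homFn ι₀ x := fun x hx => by
    rw [homFn_of_mem _ hx, homFn_of_mem _ hx]
    rfl
  have e1 : img (homFn j) (normalizerIn ⊤ Q) = ι₀.range.subgroupOf X := by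
    rw [img_homFn]
    ext y
    exact ⟨fun ⟨x, e⟩ => ⟨x, congrArg Subtype.val e⟩, fun ⟨x, e⟩ => ⟨x, Subtype.ext e⟩⟩
  refine ⟨Q, normalizerIn ⊤ Q, (isHomOn_homFn j).preim (pCore p X), X, inferInstance, inferInstance, homFn j,
    ⟨isHomOn_homFn j, fun x hx y hy e => inj hx hy (by rw [← hj x hx, ← hj y hy, e]), e1 ▸ mp, fun R g f hR hf e => ?_,
      fun x hx => hx.1, le_antisymm (img_le_iff.2 fun x hx => hx.2) fun y hy => ?_⟩,
    ⟨h, h5, hn, hF, fun Q' hQ' => ?_, ?_⟩, hQ, (normalizerIn_top Q).symm, fun x hx => ⟨QT hx, hc ?_⟩⟩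
  · refine ((real R f hR hf).2 ⟨g, fun x hx => ?_⟩).of_subsystem normSys_isSubsystemOf
    rw [← hj _ (hf x hx), e x hx, ← hj x (hR hx)]
    rfl
  · obtain ⟨x, hx, rfl⟩ := (isHomOn_homFn j).mem_img.1 (e1.ge (mp.core_le hy))
    exact mem_img_of_mem _ ⟨hx, hy⟩
  · rw [normalizerIn_top]
    exact hmax Q' hQ'
  · rw [normalizerIn_top]
    exact hQ.card_norm h h4
  · rw [mem_subgroupOf, hj x (QT hx), homFn_of_mem _ (QT hx)]
    exact le_pCore (N := (Q.subgroupOf (normalizerIn ⊤ Q)).map ι₀) (((h.isPGroup.to_subgroup _).to_subgroup _).map ι₀)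
      ⟨⟨x, QT hx⟩, hx, rfl⟩

variable {H : Type*} [Group H] [Finite H] {Q T E : Subgroup G} {ι : G → H}

omit [Finite G] hp [Finite H] in
theorem Loc.mem_iff (h : Loc p F T E ι) {x : G} (hx : x ∈ T) : ι x ∈ pCore p H ↔ x ∈ E := by
  rw [← h.core]
  refine ⟨fun e => ?_, mem_img_of_mem ι⟩
  obtain ⟨y, hy, e⟩ := (h.hom.mono h.le).mem_img.1 e
  exact h.inj (h.le hy) hx e ▸ hy

omit [Finite G] hp [Finite H] in
/-- The action of `H` on a subgroup `K ≤ T` with `ι K` normal. -/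
theorem Loc.exists_act (h : Loc p F T E ι) {K : Subgroup G} (hK : K ≤ T) (hn : (img ι K).Normal) :
    ∃ π : H →* MulAut K, π.range ≤ F.autGroup K ∧ (∀ g, ∀ x ∈ K, ι (autFun (π g) x) = g * ι x * g⁻¹) ∧
      (∀ t ∈ T, Set.EqOn (autFun (π (ι t))) (cj t) K) ∧ π.ker = centralizer (img ι K : Set H) := by
  let ε := (h.hom.mono hK).equiv (h.inj.mono hK) rfl
  let π : H →* MulAut K := (MulAut.congr ε.symm).toMonoidHom.comp MulAut.conjNormal
  have k : ∀ g, ∀ x ∈ K, ι (autFun (π g) x) = g * ι x * g⁻¹ := fun g x hx => by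
    rw [autFun_of_mem _ hx]
    exact congrArg Subtype.val (ε.apply_symm_apply (MulAut.conjNormal g (ε ⟨x, hx⟩)))
  refine ⟨π, ?_, k, fun t ht x hx => h.inj (hK (autFun_mem _ hx)) (cj_mem ht (hK hx)) ?_, ?_⟩
  · rintro _ ⟨g, rfl⟩
    exact (mem_autGroup_iff le_top).2 (h.fus K g _ hK (fun x hx => hK (autFun_mem _ hx)) (k g))
  · rw [k _ x hx, h.hom.map_cj ht (hK hx), cj_apply]
  · ext g
    refine ⟨fun e y hy => ?_, fun e => mulAut_ext_autFun fun x hx => h.inj (hK (autFun_mem _ hx)) (hK (autFun_mem _ hx)) ?_⟩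
    · obtain ⟨x, hx, rfl⟩ := (h.hom.mono hK).mem_img.1 hy
      have := k g x hx
      rw [MonoidHom.mem_ker.1 e, autFun_one hx] at this
      exact eq_mul_inv_iff_mul_eq.1 this
    · rw [k g x hx, autFun_one hx, ← e _ (mem_img_of_mem ι hx), mul_inv_cancel_right]

omit [Finite G] hp [Finite H] in
/-- `φ'` inverts `φ` on `T`. -/
theorem Loc.conj (h : Loc p F T E ι) {φ φ' : G → G} (hφ : Mor F T φ) (hi : ∀ x ∈ T, φ' (φ x) = x) :
    Loc p F (img φ T) (img φ E) (ι ∘ φ') := by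
  have o : ∀ {Q : G → Prop}, (∀ t ∈ T, Q (φ t)) → ∀ y ∈ img φ T, Q y := fun H y hy => by
    obtain ⟨x, hx, rfl⟩ := hφ.mem_img.1 hy
    exact H x hx
  have e : ∀ K ≤ T, img (ι ∘ φ') (img φ K) = img ι K := fun K hK => by
    rw [← (hφ.mono hK).isHomOn.img_comp]
    exact img_congr fun x hx => congrArg ι (hi x (hK hx))
  refine ⟨fun x hx y hy => ?_, fun x hx y hy => ?_, e T le_rfl ▸ h.mp, fun R g f hR hf k => ?_, img_mono φ h.le,
    (e E h.le).trans h.core⟩
  · revert y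
    revert x
    refine o fun a ha => o fun b hb => ?_
    simp only [Function.comp, ← hφ.map_mul ha hb, hi _ (mul_mem ha hb), hi a ha, hi b hb, h.hom.map_mul ha hb]
  · revert y
    revert x
    refine o fun a ha => o fun b hb e => ?_
    simp only [Function.comp, hi a ha, hi b hb] at e
    rw [h.inj ha hb e]
  · obtain ⟨ψ, hψ, h1, h2⟩ := hφ.exists_inv
    have e1 : ∀ y ∈ img φ T, φ' y = ψ y := o fun t ht => (hi t ht).trans (h1 t ht).symm
    have hψ' := hψ.mono hR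
    have o' : ∀ {Q : G → Prop}, (∀ t ∈ R, Q (ψ t)) → ∀ y ∈ img ψ R, Q y := fun H y hy => by
      obtain ⟨x, hx, rfl⟩ := hψ'.mem_img.1 hy
      exact H x hx
    have m : ∀ x ∈ img ψ R, (ψ ∘ f ∘ φ) x ∈ T := o' fun t ht => by
      simp only [Function.comp, (h2 t (hR ht)).2]
      exact (h2 _ (hf t ht)).1
    have k1 := h.fus (img ψ R) g (ψ ∘ f ∘ φ) (o' fun t ht => (h2 t (hR ht)).1) m (o' fun t ht => by
      have := k t ht
      simp only [Function.comp, (h2 t (hR ht)).2, e1 _ (hf t ht), e1 _ (hR ht)] at this ⊢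
      exact this)
    refine ((hφ.comp k1 m).comp hψ' fun x hx => mem_img_of_mem ψ hx).congr fun x hx => ?_
    simp only [Function.comp, (h2 x (hR hx)).2, (h2 _ (hf x hx)).2]

/-- `N(φ Q) ≥ φ T`, with equality by `Bs.max` and `Bad.conj`. -/
theorem St.conj (h : St p n F Q T E ι) {φ φ' : G → G} (hφ : Mor F T φ) (hi : ∀ x ∈ T, φ' (φ x) = x) :
    St p n F (img φ Q) (img φ T) (img φ E) (ι ∘ φ') := by
  have QT := h.QE.trans h.le
  have bad := h.bad.conj h.bs.mc (by have := h.bs.hn; omega) (hφ.mono QT).isConj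
  exact ⟨h.toLoc.conj hφ hi, hφ.card_img.symm ▸ h.bs, bad, (eq_of_le_of_card_ge
    (img_le_iff.2 fun x hx => hφ.map_mem_normalizer QT hx (h.norm.ge hx))
    ((h.bs.max _ bad).trans hφ.card_img.ge)).symm, img_mono φ h.QE⟩

theorem St.unif (h : St p n F Q T E ι) : T ≤ P G 1 ∨ T ≤ C G (n - 2) :=
  h.norm ▸ h.bad.norm_le h.bs.mc (by have := h.bs.hn; omega)

theorem Loc.lt (h : Loc p F T E ι) : E < T :=
  lt_of_le_of_ne h.le fun e => h.mp.core_ne (by rw [← h.core, e])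

/-- `exists_act` for `K = E`, `Mp.not_isPGroup`, `Mp.not_pc`. -/
theorem Loc.not_pc (h : Loc p F T E ι) {A : Subgroup (MulAut E)}
    (hA : ∀ a ∈ F.autGroup E, (∃ g : H, ∀ x ∈ E, ι (autFun a x) = g * ι x * g⁻¹) → a ∈ A) : ¬ IsPClosed p A := by
  obtain ⟨π, h1, h2, -, h3⟩ := h.exists_act h.le (h.core.symm ▸ inferInstance)
  refine fun e => h.mp.not_pc π (h.mp.not_isPGroup π ?_) (CL.MSS.isPClosed_of_le e ?_)
  · rw [h3, h.core]
    exact h.mp.cent
  · rintro _ ⟨g, rfl⟩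
    exact hA _ (h1 ⟨g, rfl⟩) ⟨g, h2 g⟩

end CL.MCD
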